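import Groth.Agent.LambdaCore.Split

/-!
# Adams operations
-/

set_option autoImplicit false
universe u v

open PowerSeries Finset LambdaRing

namespace Groth.LambdaCore

section Ops

variable {K : Type u} [CommRing K] [LambdaOps K]

theorem invOfUnit_negSeries_add (x y : K) :
    (negSeries (x + y)).invOfUnit 1 = (negSeries x).invOfUnit 1 * (negSeries y).invOfUnit 1 := by
  have h : IsUnit (negSeries (x + y)) := by rw [PowerSeries.isUnit_iff_constantCoeff]; simp
  apply h.mul_left_cancel
  rw [negSeries_mul_invOfUnit, negSeries_add, mul_mul_mul_comm, negSeries_mul_invOfUnit,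
    negSeries_mul_invOfUnit, one_mul]

theorem adamsSeries_add (P : PosStructure K) (x y : K) :
    adamsSeries P (x + y) = adamsSeries P x + adamsSeries P y := by
  simp only [adamsSeries]
  rw [← negSeries, ← negSeries, ← negSeries, invOfUnit_negSeries_add, negSeries_add,
    Derivation.leibniz]
  have hx := negSeries_mul_invOfUnit x
  have hy := negSeries_mul_invOfUnit y
  simp only [map_add, Int.cast_add, smul_eq_mul]
  linear_combination (-(PowerSeries.X * PowerSeries.derivative K (negSeries y) *
      (negSeries y).invOfUnit 1)) * hx +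
    (-(PowerSeries.X * PowerSeries.derivative K (negSeries x) * (negSeries x).invOfUnit 1)) * hy

variable {P : PosStructure K}

theorem adams_add (j : ℕ) (x y : K) : adams P j (x + y) = adams P j x + adams P j y := by
  simp [adams, adamsSeries_add]

variable (P) in
/-- The Adams operation as an additive map. -/
noncomputable def adamsAdd (j : ℕ) : K →+ K := AddMonoidHom.mk' (adams P j) (adams_add j)

@[simp] theorem adamsAdd_apply (j : ℕ) (x : K) : adamsAdd P j x = adams P j x := rfl

theorem adams_line {w : K} (hw : P.IsLine w) (j : ℕ) : adams P j w = w ^ j := by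
  have hN : negSeries w = 1 - PowerSeries.C w * PowerSeries.X := by
    rw [negSeries, IsLine.lamSeries_eq hw]
    simp [PowerSeries.rescale_X, rescale_C]
    ring
  have hinv : (negSeries w).invOfUnit 1 = PowerSeries.mk (fun k => w ^ k) := by
    have h : IsUnit (negSeries w) := by rw [PowerSeries.isUnit_iff_constantCoeff]; simp
    apply h.mul_left_cancel
    rw [negSeries_mul_invOfUnit, hN]
    ext k
    cases k with
    | zero => simp [sub_mul, mul_assoc]
    | succ k => simp [sub_mul, mul_assoc, PowerSeries.coeff_one, pow_succ]; ring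
  rw [adams, adamsSeries, ← negSeries, hinv, hN, hw.2]
  cases j with
  | zero => simp [mul_assoc]
  | succ k => simp [mul_assoc, pow_succ']

theorem adams_natCast (j n : ℕ) : adams P j (n : K) = n := by
  rw [← adamsAdd_apply, ← nsmul_one, map_nsmul, adamsAdd_apply, adams_line isLine_one, one_pow]

theorem adams_one (j : ℕ) : adams P j (1 : K) = 1 := by simpa using adams_natCast (P := P) j 1

theorem adams_sum_lines {ι : Type v} [Fintype ι] {w : ι → K} (hw : ∀ i, P.IsLine (w i)) (j : ℕ) :
    adams P j (∑ i, w i) = ∑ i, w i ^ j := by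
  rw [← adamsAdd_apply, map_sum]
  exact Finset.sum_congr rfl fun i _ => adams_line (hw i) j

theorem map_adams {L : Type u} [CommRing L] [LambdaOps L] {P' : PosStructure L} {f : K →+* L}
    (hf : IsExtension P P' f) (j : ℕ) (x : K) : f (adams P j x) = adams P' j (f x) := by
  have h : PowerSeries.map f (adamsSeries P x) = adamsSeries P' (f x) := by
    have hinv : PowerSeries.map f ((negSeries x).invOfUnit 1) = (negSeries (f x)).invOfUnit 1 := by
      have hu : IsUnit (negSeries (f x)) := by rw [PowerSeries.isUnit_iff_constantCoeff]; simp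
      apply hu.mul_left_cancel
      rw [negSeries_mul_invOfUnit, ← map_negSeries hf.isLambdaHom, ← map_mul,
        negSeries_mul_invOfUnit, map_one]
    have hder : PowerSeries.map f (PowerSeries.derivative K (negSeries x)) =
        PowerSeries.derivative L (negSeries (f x)) := by
      rw [← map_negSeries hf.isLambdaHom]
      ext i; simp [PowerSeries.coeff_derivative]
    rw [adamsSeries, adamsSeries, ← negSeries, ← negSeries, map_sub, map_mul, map_mul, hinv, hder,
      hf.aug_comp]
    simp
  rw [adams, adams, ← PowerSeries.coeff_map, h]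

theorem adams_mul (hK : HasSplitting K P) (j : ℕ) (x y : K) :
    adams P j (x * y) = adams P j x * adams P j y := by
  have key : ∀ a b, a ∈ P.pos → b ∈ P.pos → adams P j (a * b) = adams P j a * adams P j b := by
    intro a b ha hb
    obtain ⟨L, f, hf, -, ⟨u, hu, hfu⟩, ⟨v, hv, hfv⟩⟩ := exists_split₂ hK ha hb
    apply hf.injective
    rw [map_mul, map_adams hf, map_adams hf, map_adams hf, map_mul, hfu, hfv, adams_sum_lines hu,
      adams_sum_lines hv, Finset.sum_mul_sum, Finset.sum_mul_sum, ← Fintype.sum_prod_type',
      ← Fintype.sum_prod_type', adams_sum_lines (P := L.posStr) (w := fun p : Fin (P.aug a).toNat × Fin (P.aug b).toNat => u p.1 * v p.2)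
        (fun p => IsLine.mul (hu p.1) (hv p.2))]
    exact Finset.sum_congr rfl fun p _ => mul_pow _ _ _
  obtain ⟨a, b, ha, hb, rfl⟩ := P.exists_sub x
  obtain ⟨c, d, hc, hd, rfl⟩ := P.exists_sub y
  simp only [sub_mul, mul_sub, ← adamsAdd_apply, map_sub]
  simp only [adamsAdd_apply, key _ _ ha hc, key _ _ ha hd, key _ _ hb hc, key _ _ hb hd]

/-- The Adams operation as a ring endomorphism. -/
noncomputable def adamsHom (hK : HasSplitting K P) (j : ℕ) : K →+* K where
  toFun := adams P j
  map_one' := adams_one j
  map_mul' := adams_mul hK j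
  map_zero' := (adamsAdd P j).map_zero
  map_add' := adams_add j

@[simp] theorem adamsHom_apply (hK : HasSplitting K P) (j : ℕ) (x : K) :
    adamsHom hK j x = adams P j x := rfl

theorem aug_adams (hK : HasSplitting K P) (j : ℕ) (x : K) : P.aug (adams P j x) = P.aug x := by
  have key : ∀ a, a ∈ P.pos → P.aug (adams P j a) = P.aug a := by
    intro a ha
    obtain ⟨L, f, hf, -, u, hu, hfu⟩ := exists_split hK ha
    rw [← hf.aug_comp, ← hf.aug_comp a, map_adams hf, hfu, adams_sum_lines hu, map_sum, map_sum]
    exact Finset.sum_congr rfl fun i _ => by rw [map_pow, (hu i).2, one_pow]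
  obtain ⟨a, b, ha, hb, rfl⟩ := P.exists_sub x
  rw [← adamsAdd_apply, map_sub, adamsAdd_apply, adamsAdd_apply, map_sub, map_sub, key a ha, key b hb]

end Ops

end Groth.LambdaCore
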