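import Groth.Agent.LambdaCore.Symm
import Groth.Agent.LambdaCore.Adams
import Groth.Prelude.Def_KRR

/-!
# `λ_{-1}` and Bott's class on sums of lines
-/

set_option autoImplicit false
universe u v

open Finset LambdaRing

namespace Groth.LambdaCore

theorem bottPoly_spec (j m : ℕ) :
    MvPolynomial.aeval (fun i : Fin m => MvPolynomial.esymm (Fin m) ℤ ((i : ℕ) + 1)) (KRR.bottPoly j m) =
      KRR.bottSym j m := by
  rw [← MvPolynomial.esymmAlgHom_apply]
  exact congrArg Subtype.val ((MvPolynomial.esymmAlgEquiv (Fin m) ℤ (Fintype.card_fin m)).apply_symm_apply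
    ⟨KRR.bottSym j m, KRR.bottSym_isSymmetric j m⟩)

variable {K : Type u} [CommRing K] [LambdaOps K] {P : PosStructure K}

theorem aeval_esymm_bottPoly {A : Type v} [CommRing A] {m : ℕ} (j : ℕ) (w : Fin m → A) :
    MvPolynomial.aeval (fun i : Fin m => (Finset.univ.val.map w).esymm ((i : ℕ) + 1)) (KRR.bottPoly j m) =
      ∏ i, ∑ k ∈ range j, w i ^ k := by
  rw [← aeval_aeval_esymm, bottPoly_spec]
  simp [KRR.bottSym]

theorem map_lamAlt {L : Type u} [CommRing L] [LambdaOps L] {P' : PosStructure L} {f : K →+* L}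
    (hf : IsExtension P P' f) (x : K) : f (KRR.lamAlt P x) = KRR.lamAlt P' (f x) := by
  simp [KRR.lamAlt, hf.aug_comp, map_sum, hf.isLambdaHom _ x]

theorem map_bott {L : Type u} [CommRing L] [LambdaOps L] {P' : PosStructure L} {f : K →+* L}
    (hf : IsExtension P P' f) (j : ℕ) (x : K) : f (KRR.bott P j x) = KRR.bott P' j (f x) := by
  have key : ∀ m m' : ℕ, m = m' →
      f (MvPolynomial.aeval (fun i : Fin m => LambdaOps.lam (i.1 + 1) x) (KRR.bottPoly j m)) =
        MvPolynomial.aeval (fun i : Fin m' => LambdaOps.lam (i.1 + 1) (f x)) (KRR.bottPoly j m') := by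
    rintro m m' rfl
    change f.toIntAlgHom (MvPolynomial.aeval _ _) = _
    rw [← AlgHom.comp_apply, MvPolynomial.comp_aeval]
    simp [hf.isLambdaHom _ x]
  exact key _ _ (by rw [hf.aug_comp])

theorem lamAlt_sum_lines {n : ℕ} {w : Fin n → K} (hw : ∀ i, P.IsLine (w i)) :
    KRR.lamAlt P (∑ i, w i) = ∏ i, (1 - w i) := by
  have hdeg : (∏ i, (1 + Polynomial.C (w i) * Polynomial.X)).natDegree < n + 1 := by
    refine Nat.lt_succ_iff.mpr ((Polynomial.natDegree_prod_le _ _).trans ?_)
    refine (Finset.sum_le_card_nsmul _ _ 1 fun i _ => ?_).trans (by simp)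
    compute_degree
  have h := Polynomial.eval_eq_sum_range' hdeg (-1)
  simp only [Polynomial.eval_prod, Polynomial.eval_add, Polynomial.eval_one, Polynomial.eval_mul,
    Polynomial.eval_C, Polynomial.eval_X, mul_neg, mul_one, ← sub_eq_add_neg] at h
  rw [KRR.lamAlt, aug_sum_lines hw, Fintype.card_fin, Int.toNat_natCast, h]
  refine Finset.sum_congr rfl fun i _ => ?_
  rw [lam_sum_lines hw, coeff_prod_one_add_C_mul_X, mul_comm]

theorem bott_sum_lines {n : ℕ} {w : Fin n → K} (hw : ∀ i, P.IsLine (w i)) (j : ℕ) :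
    KRR.bott P j (∑ i, w i) = ∏ i, ∑ k ∈ range j, w i ^ k := by
  have h : (P.aug (∑ i, w i)).toNat = n := by
    rw [aug_sum_lines hw, Fintype.card_fin, Int.toNat_natCast]
  rw [KRR.bott]
  simp only [lam_sum_lines hw]
  rw [h]
  exact aeval_esymm_bottPoly j w

theorem adams_lamAlt (hK : HasSplitting K P) {e : K} (he : e ∈ P.pos) (j : ℕ) :
    adams P j (KRR.lamAlt P e) = KRR.lamAlt P e * KRR.bott P j e := by
  obtain ⟨L, f, hf, hL, w, hw, hfe⟩ := exists_split hK he
  apply hf.injective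
  rw [map_mul, map_adams hf, map_lamAlt hf, map_bott hf, hfe, lamAlt_sum_lines hw, bott_sum_lines hw,
    ← adamsHom_apply hL, map_prod, ← Finset.prod_mul_distrib]
  refine Finset.prod_congr rfl fun i _ => ?_
  rw [map_sub, map_one, adamsHom_apply, adams_line (hw i), mul_neg_geom_sum]

end Groth.LambdaCore
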