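import Groth.Agent.LambdaCore.Adams
import Mathlib.RingTheory.PowerSeries.Trunc
import Mathlib.RingTheory.PowerSeries.Derivative
import Mathlib.RingTheory.PowerSeries.WellKnown

/-!
# The power series identity behind Adams–Riemann–Roch for projective space
-/

set_option autoImplicit false
universe u v w

open PowerSeries Finset LambdaRing

namespace Groth.LambdaCore.RRSeries

variable {R : Type v} [CommRing R]

/-- `∑_{k<j} (1-X)^k`. -/
noncomputable def theta (R : Type v) [CommRing R] (j : ℕ) : PowerSeries R := ∑ k ∈ range j, (1 - X) ^ k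

theorem constantCoeff_theta (j : ℕ) : constantCoeff (theta R j) = (j : R) := by simp [theta]

theorem X_mul_theta (j : ℕ) : X * theta R j = 1 - (1 - X) ^ j := by
  have h := mul_neg_geom_sum (1 - X : PowerSeries R) j
  rwa [sub_sub_cancel] at h

/-- `∑ X^k`. -/
noncomputable def geo (R : Type v) [CommRing R] : PowerSeries R := PowerSeries.mk 1

theorem geo_mul : geo R * (1 - X) = 1 := PowerSeries.mk_one_mul_one_sub_eq_one R

theorem coeff_geo_mul (n : ℕ) (f : PowerSeries R) :
    coeff n (geo R * f) = ∑ k ∈ range (n + 1), coeff k f := by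
  rw [mul_comm, coeff_mul_range]
  refine Finset.sum_congr rfl fun k _ => ?_
  simp [geo]

variable {j : ℕ} {V : PowerSeries R} (hV : theta R j * V = 1)
  (htf : ∀ m : ℕ, m ≠ 0 → ∀ x : R, (m : R) * x = 0 → x = 0)

include hV

theorem coeff_zero_V : (j : R) * coeff 0 V = 1 := by
  have h := congrArg constantCoeff hV
  rwa [map_mul, constantCoeff_theta, map_one, ← coeff_zero_eq_constantCoeff_apply] at h

theorem step (n a : ℕ) :
    coeff (n + 1) ((j : PowerSeries R) * geo R ^ (j * (a + 1) + 1) * V ^ (n + 2)) =
      coeff (n + 1) ((j : PowerSeries R) * geo R ^ (j * a + 1) * V ^ (n + 2)) +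
        coeff n ((j : PowerSeries R) * geo R ^ (j * (a + 1) + 1) * V ^ (n + 1)) := by
  rw [← coeff_succ_X_mul n ((j : PowerSeries R) * geo R ^ (j * (a + 1) + 1) * V ^ (n + 1)), ← map_add]
  congr 1
  have h1 : geo R ^ j * (1 - X) ^ j = 1 := by rw [← mul_pow, geo_mul, one_pow]
  have h2 := X_mul_theta (R := R) j
  rw [show j * (a + 1) + 1 = j * a + 1 + j by ring, pow_add]
  linear_combination ((j : PowerSeries R) * geo R ^ (j * a + 1) * geo R ^ j * V ^ (n + 1)) * X * hV +
    (-(j : PowerSeries R) * geo R ^ (j * a + 1) * geo R ^ j * V ^ (n + 2)) * h2 +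
    ((j : PowerSeries R) * geo R ^ (j * a + 1) * V ^ (n + 2)) * h1

include htf

theorem base (n : ℕ) :
    coeff (n + 1) ((j : PowerSeries R) * geo R * V ^ (n + 2)) =
      coeff n ((j : PowerSeries R) * geo R * V ^ (n + 1)) := by
  have h2 := X_mul_theta (R := R) j
  have hd : derivative R (X * theta R j) = theta R j + X * derivative R (theta R j) := by
    rw [Derivation.leibniz, derivative_X, smul_eq_mul, smul_eq_mul, mul_one, add_comm]
  have hd' : (theta R j + X * derivative R (theta R j)) * (1 - X) = (j : PowerSeries R) * (1 - X) ^ j := by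
    rw [← hd, h2, map_sub, Derivation.map_one_eq_zero, zero_sub, derivative_pow, map_sub, Derivation.map_one_eq_zero,
      derivative_X, zero_sub]
    rcases j with _ | j
    · simp
    · rw [Nat.add_sub_cancel, pow_succ]; ring
  have hsplit : (j : PowerSeries R) * geo R * V ^ (n + 2) =
      (theta R j + X * derivative R (theta R j)) * V ^ (n + 2) + X * ((j : PowerSeries R) * geo R * V ^ (n + 1)) := by
    have hg := geo_mul (R := R)
    linear_combination (-(geo R * V ^ (n + 2))) * hd' +
      ((theta R j + X * derivative R (theta R j)) * V ^ (n + 2)) * hg +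
      (-(j : PowerSeries R) * geo R * V ^ (n + 2)) * h2 + ((j : PowerSeries R) * geo R * V ^ (n + 1)) * X * hV
  rw [hsplit, map_add, coeff_succ_X_mul, add_eq_right]
  have hDV : derivative R (V ^ (n + 1)) = -((n + 1 : ℕ) : PowerSeries R) * derivative R (theta R j) * V ^ (n + 2) := by
    have h0 : theta R j * derivative R V + V * derivative R (theta R j) = 0 := by
      have h := congrArg (derivative R) hV
      rwa [Derivation.leibniz, Derivation.map_one_eq_zero, smul_eq_mul, smul_eq_mul] at h
    rw [derivative_pow, Nat.add_sub_cancel]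
    linear_combination ((n + 1 : ℕ) : PowerSeries R) * V ^ n * V * h0 -
      ((n + 1 : ℕ) : PowerSeries R) * V ^ n * derivative R V * hV
  have h3 : (theta R j + X * derivative R (theta R j)) * V ^ (n + 2) =
      V ^ (n + 1) + X * (derivative R (theta R j) * V ^ (n + 2)) := by
    linear_combination V ^ (n + 1) * hV
  rw [h3, map_add, coeff_succ_X_mul]
  refine htf (n + 1) (Nat.succ_ne_zero n) _ ?_
  have h4 := congrArg (coeff n) hDV
  rw [coeff_derivative, neg_mul, neg_mul, map_neg, mul_assoc, ← map_natCast (C (R := R)), coeff_C_mul] at h4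
  push_cast at h4 ⊢
  linear_combination h4

/-- The identity `coeff_n (j (1-z)^{-(ja+1)} θ^{-(n+1)}) = C(a+n,n)`. -/
theorem coeff_eq_choose (n a : ℕ) :
    coeff n ((j : PowerSeries R) * geo R ^ (j * a + 1) * V ^ (n + 1)) = ((a + n).choose n : R) := by
  induction n generalizing a with
  | zero =>
    rw [Nat.add_zero, Nat.choose_zero_right, Nat.cast_one, coeff_zero_eq_constantCoeff_apply, zero_add, pow_one,
      map_mul, map_mul, map_pow, map_natCast, show constantCoeff (geo R) = 1 by simp [geo], one_pow, mul_one,
      ← coeff_zero_eq_constantCoeff_apply]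
    exact coeff_zero_V hV
  | succ n ih =>
    induction a with
    | zero =>
      rw [Nat.mul_zero, zero_add, pow_one, base hV htf, zero_add, Nat.choose_self, Nat.cast_one]
      simpa using ih 0
    | succ a iha =>
      rw [step hV, iha, ih (a + 1), show a + 1 + (n + 1) = (a + (n + 1)) + 1 by omega, Nat.choose_succ_succ,
        Nat.cast_add, show a + 1 + n = a + (n + 1) by omega, add_comm]

omit hV htf

/-- Evaluation at a nilpotent element. -/
theorem exists_evalHom {T : Type w} [CommRing T] (ι : R →+* T) (ζ : T) (n : ℕ) (hζ : ζ ^ (n + 1) = 0) :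
    ∃ ev : PowerSeries R →+* T, (∀ r, ev (C r) = ι r) ∧ ev X = ζ ∧
      ∀ f, ev f = ∑ k ∈ range (n + 1), ι (coeff k f) * ζ ^ k := by
  let e : PowerSeries R → T := fun f => ∑ k ∈ range (n + 1), ι (coeff k f) * ζ ^ k
  have hpoly : ∀ p : Polynomial R, e (p : PowerSeries R) = p.eval₂ ι ζ := fun p => by
    obtain ⟨N, hN⟩ : ∃ N, N = max (n + 1) (p.natDegree + 1) := ⟨_, rfl⟩
    rw [Polynomial.eval₂_eq_sum_range' ι (show p.natDegree < N by omega) ζ]
    simp only [e, Polynomial.coeff_coe]
    refine Finset.sum_subset (Finset.range_mono (by omega)) fun k _ hk => ?_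
    rw [Finset.mem_range, not_lt] at hk
    obtain ⟨c, rfl⟩ := Nat.exists_eq_add_of_le hk
    rw [pow_add, hζ, zero_mul, mul_zero]
  have htr : ∀ f, e f = e ((trunc (n + 1) f : Polynomial R) : PowerSeries R) := fun f =>
    Finset.sum_congr rfl fun k hk => by
      rw [Polynomial.coeff_coe, coeff_trunc, if_pos (Finset.mem_range.1 hk)]
  have hmul : ∀ f g, e (f * g) = e f * e g := fun f g => by
    rw [htr f, htr g, hpoly, hpoly, ← Polynomial.eval₂_mul, ← hpoly]
    refine Finset.sum_congr rfl fun k hk => ?_
    rw [Polynomial.coe_mul, coeff_mul, coeff_mul]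
    congr 2
    refine Finset.sum_congr rfl fun x hx => ?_
    rw [Finset.mem_antidiagonal] at hx
    rw [Finset.mem_range] at hk
    rw [Polynomial.coeff_coe, Polynomial.coeff_coe, coeff_trunc, coeff_trunc, if_pos (by omega), if_pos (by omega)]
  have hC : ∀ r, e (C r) = ι r := fun r => by rw [← Polynomial.coe_C, hpoly, Polynomial.eval₂_C]
  refine ⟨{ toFun := e
            map_one' := by rw [← map_one (C (R := R)), hC, map_one]
            map_mul' := hmul
            map_zero' := by simp [e]
            map_add' := fun f g => by simp [e, add_mul, Finset.sum_add_distrib] }, hC, ?_, fun f => rfl⟩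
  show e X = ζ
  rw [← Polynomial.coe_X, hpoly, Polynomial.eval₂_X]

/-- The Adams operations of a line twist. -/
theorem adams_twist {K : Type u} [CommRing K] [LambdaOps K] (P : PosStructure K) {x y l : K}
    (hy : lamSeries y = rescale l (lamSeries x)) (ha : P.aug y = P.aug x) (i : ℕ) :
    adams P i y = l ^ i * adams P i x := by
  have hn : negSeries y = rescale l (negSeries x) := by
    rw [negSeries, negSeries, hy, rescale_rescale, rescale_rescale, mul_comm]
  have hinv : (negSeries y).invOfUnit 1 = rescale l ((negSeries x).invOfUnit 1) := by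
    have hu : IsUnit (negSeries y) := by rw [PowerSeries.isUnit_iff_constantCoeff]; simp
    apply hu.mul_left_cancel
    rw [negSeries_mul_invOfUnit, hn, ← map_mul, negSeries_mul_invOfUnit, map_one]
  have hXD : X * derivative K (negSeries y) = rescale l (X * derivative K (negSeries x)) := by
    rw [hn]
    ext k
    cases k with
    | zero => simp
    | succ k => rw [coeff_succ_X_mul, coeff_derivative, coeff_rescale, coeff_rescale, coeff_succ_X_mul,
        coeff_derivative]; ring
  have hs : adamsSeries P y = rescale l (adamsSeries P x) := by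
    rw [adamsSeries, adamsSeries, ← negSeries, ← negSeries, hinv, hXD, ha, map_sub, map_mul]
    simp
  rw [adams, adams, hs, coeff_rescale]

end Groth.LambdaCore.RRSeries
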