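import Groth.Agent.LambdaCore.Split

/-!
# Symmetric functions of roots
-/

set_option autoImplicit false
universe u v w

open Finset MvPolynomial

namespace Groth.LambdaCore

variable {R : Type u} [CommRing R] {n : ℕ}

theorem exists_aeval_esymm_eq {p : MvPolynomial (Fin n) R} (hp : p.IsSymmetric) :
    ∃ q : MvPolynomial (Fin n) R, aeval (fun i : Fin n => esymm (Fin n) R ((i : ℕ) + 1)) q = p := by
  obtain ⟨q, hq⟩ := (esymmAlgHom_fin_bijective R n).2 ⟨p, hp⟩
  exact ⟨q, by rw [← esymmAlgHom_apply, hq]⟩

theorem aeval_aeval_esymm {A : Type v} [CommRing A] [Algebra R A] (v : Fin n → A)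
    (q : MvPolynomial (Fin n) R) :
    aeval v (aeval (fun i : Fin n => esymm (Fin n) R ((i : ℕ) + 1)) q) =
      aeval (fun i : Fin n => (Finset.univ.val.map v).esymm ((i : ℕ) + 1)) q := by
  rw [← AlgHom.comp_apply, comp_aeval]
  simp only [MvPolynomial.aeval_esymm_eq_multiset_esymm]

/-- A symmetric function of two systems of roots with the same elementary symmetric functions
takes values coming from the same element of the base ring. -/
theorem exists_eq_algebraMap_of_isSymmetric {p : MvPolynomial (Fin n) R} (hp : p.IsSymmetric)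
    (a : ℕ → R) : ∃ c : R, ∀ (A : Type v) [CommRing A] [Algebra R A] (v : Fin n → A),
      (∀ k, (Finset.univ.val.map v).esymm k = algebraMap R A (a k)) →
        aeval v p = algebraMap R A c := by
  obtain ⟨q, rfl⟩ := exists_aeval_esymm_eq hp
  refine ⟨aeval (fun i : Fin n => a ((i : ℕ) + 1)) q, fun A _ _ v hv => ?_⟩
  rw [aeval_aeval_esymm, ← aeval_algebraMap_apply]
  simp only [hv]; rfl

end Groth.LambdaCore
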