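import Groth.Agent.LambdaCore.Adams
import Groth.Agent.LambdaCore.Symm
import Mathlib.RingTheory.PowerSeries.WellKnown
import Mathlib.RingTheory.MvPolynomial.Ideal
import Mathlib.RingTheory.MvPolynomial.Symmetric.Defs

/-!
# γ-operations and the γ-filtration
-/

set_option autoImplicit false
universe u v

open PowerSeries Finset LambdaRing

namespace Groth.LambdaCore

section Ops

variable {K : Type u} [CommRing K] [LambdaOps K]

/-- `γ_t(x) = Σ γ^k(x) t^k`. -/
noncomputable def gammaSeries (x : K) : PowerSeries K := PowerSeries.mk fun k => gamma k x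

@[simp] theorem coeff_gammaSeries (x : K) (k : ℕ) : coeff k (gammaSeries x) = gamma k x :=
  PowerSeries.coeff_mk _ _

@[simp] theorem gamma_zero' (x : K) : gamma 0 x = 1 := by simp [gamma]

@[simp] theorem gamma_one' (x : K) : gamma 1 x = x := by
  simp [gamma, Finset.sum_range_succ, LambdaOps.lam_one]

@[simp] theorem constantCoeff_gammaSeries (x : K) : constantCoeff (gammaSeries x) = 1 := by
  rw [← coeff_zero_eq_constantCoeff_apply, coeff_gammaSeries, gamma_zero']

/-- The series `t/(1-t)`. -/
noncomputable def tDivOneSub (K : Type u) [CommRing K] : PowerSeries K :=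
  PowerSeries.X * (PowerSeries.invOneSubPow K 1).val

omit [LambdaOps K] in
theorem hasSubst_tDivOneSub : HasSubst (tDivOneSub K) :=
  HasSubst.of_constantCoeff_zero' (by simp [tDivOneSub])

omit [LambdaOps K] in
theorem coeff_tDivOneSub_pow (k d : ℕ) : coeff k (tDivOneSub K ^ d) =
    if k = 0 then (if d = 0 then 1 else 0) else (if d = 0 then 0 else ((k - 1).choose (d - 1) : K)) := by
  have hpow : ((PowerSeries.invOneSubPow K 1).val) ^ d = (PowerSeries.invOneSubPow K d).val := by
    induction d with
    | zero => simp [PowerSeries.invOneSubPow_zero]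
    | succ n ih => rw [pow_succ, ih, ← Units.val_mul, PowerSeries.invOneSubPow_add]
  rw [tDivOneSub, mul_pow, hpow, PowerSeries.coeff_X_pow_mul']
  cases d with
  | zero => simp [PowerSeries.invOneSubPow_zero, PowerSeries.coeff_one]
  | succ d =>
    rw [if_neg (Nat.succ_ne_zero d), if_neg (Nat.succ_ne_zero d),
      PowerSeries.invOneSubPow_val_succ_eq_mk_add_choose, PowerSeries.coeff_mk]
    by_cases hk : k = 0
    · simp [hk]
    · simp only [if_neg hk, Nat.add_sub_cancel]
      split_ifs with hle
      · rw [show d + (k - (d + 1)) = k - 1 by omega]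
      · rw [Nat.choose_eq_zero_of_lt (by omega)]; simp

theorem gammaSeries_eq_subst (x : K) :
    gammaSeries x = PowerSeries.subst (tDivOneSub K) (lamSeries x) := by
  ext k
  rw [PowerSeries.coeff_subst' hasSubst_tDivOneSub, coeff_gammaSeries,
    finsum_eq_sum_of_support_subset _ (s := range (k + 1)) ?_]
  · cases k with
    | zero => simp [LambdaOps.lam_zero, coeff_tDivOneSub_pow]
    | succ k =>
      rw [gamma, if_neg (Nat.succ_ne_zero k)]
      refine Finset.sum_congr rfl fun d _ => ?_
      cases d <;> simp [coeff_tDivOneSub_pow, mul_comm]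
  · intro d hd
    simp only [Function.mem_support, ne_eq, coeff_tDivOneSub_pow] at hd
    simp only [Finset.coe_range, Set.mem_Iio]
    by_contra h
    apply hd
    cases d with
    | zero => omega
    | succ d =>
      by_cases hk : k = 0
      · simp [hk]
      · rw [if_neg hk, if_neg (Nat.succ_ne_zero d), Nat.choose_eq_zero_of_lt (by omega)]; simp

theorem gammaSeries_add (x y : K) : gammaSeries (x + y) = gammaSeries x * gammaSeries y := by
  rw [gammaSeries_eq_subst, gammaSeries_eq_subst, gammaSeries_eq_subst, lamSeries_add,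
    PowerSeries.subst_mul hasSubst_tDivOneSub]

@[simp] theorem gammaSeries_zero : gammaSeries (0 : K) = 1 := by
  rw [gammaSeries_eq_subst, lamSeries_zero, ← PowerSeries.coe_substAlgHom hasSubst_tDivOneSub,
    map_one]

theorem gammaSeries_sum {ι : Type v} (s : Finset ι) (f : ι → K) :
    gammaSeries (∑ i ∈ s, f i) = ∏ i ∈ s, gammaSeries (f i) := by
  classical
  induction s using Finset.induction_on with
  | empty => simp
  | insert a s ha ih => rw [Finset.sum_insert ha, Finset.prod_insert ha, gammaSeries_add, ih]

theorem map_gamma {L : Type u} [CommRing L] [LambdaOps L] {f : K →+* L} (hf : IsLambdaHom f)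
    (k : ℕ) (x : K) : f (gamma k x) = gamma k (f x) := by
  simp only [gamma]
  split_ifs
  · simp
  · rw [map_sum]
    refine Finset.sum_congr rfl fun j _ => ?_
    split_ifs <;> simp [hf _ x]

theorem map_gammaSeries {L : Type u} [CommRing L] [LambdaOps L] {f : K →+* L} (hf : IsLambdaHom f)
    (x : K) : PowerSeries.map f (gammaSeries x) = gammaSeries (f x) := by
  ext k; simp [map_gamma hf]

variable {P : PosStructure K}

theorem gammaSeries_line_sub_one {w : K} (hw : P.IsLine w) :
    gammaSeries (w - 1) = 1 + PowerSeries.C (w - 1) * PowerSeries.X := by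
  have hs : ∀ {z : K}, P.IsLine z → gammaSeries z = 1 + PowerSeries.C z * tDivOneSub K := by
    intro z hz
    rw [gammaSeries_eq_subst, IsLine.lamSeries_eq hz,
      ← PowerSeries.coe_substAlgHom hasSubst_tDivOneSub, map_add, map_one, map_mul,
      PowerSeries.substAlgHom_X, PowerSeries.coe_substAlgHom, PowerSeries.subst_C]
    rfl
  have h := gammaSeries_add (w - 1) 1
  rw [sub_add_cancel, hs hw, hs isLine_one, map_one, one_mul] at h
  have hu : IsUnit (1 + tDivOneSub K) := by
    rw [PowerSeries.isUnit_iff_constantCoeff]; simp [tDivOneSub]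
  apply hu.mul_right_cancel
  rw [← h, tDivOneSub]
  have hi : ((PowerSeries.invOneSubPow K 1).val) * (1 - PowerSeries.X) = 1 := by
    have := (PowerSeries.invOneSubPow K 1).val_inv
    rwa [PowerSeries.invOneSubPow_inv_eq_one_sub_pow, pow_one] at this
  rw [map_sub, map_one]
  linear_combination ((PowerSeries.C w - 1) * PowerSeries.X) * hi

theorem gamma_line_sub_one {w : K} (hw : P.IsLine w) {k : ℕ} (hk : 2 ≤ k) :
    gamma k (w - 1) = 0 := by
  rw [← coeff_gammaSeries, gammaSeries_line_sub_one hw]
  obtain ⟨j, rfl⟩ := le_iff_exists_add.mp hk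
  simp [show 2 + j = (j + 1) + 1 by omega, PowerSeries.coeff_one]

theorem gamma_sum_lines_sub_card {ι : Type v} [Fintype ι] {w : ι → K} (hw : ∀ i, P.IsLine (w i))
    (k : ℕ) :
    gamma k (∑ i, w i - (Fintype.card ι : K)) =
      (Finset.univ.val.map fun i => w i - 1).esymm k := by
  have : ∑ i, w i - (Fintype.card ι : K) = ∑ i, (w i - 1) := by simp
  rw [← coeff_gammaSeries, this, gammaSeries_sum, Finset.prod_congr rfl fun i _ =>
    gammaSeries_line_sub_one (hw i), coeff_prod_one_add_C_mul_X_series]

end Ops

section Filtration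

variable {K : Type u} [CommRing K] [LambdaOps K] {P : PosStructure K}

@[simp] theorem gammaFiltration_zero : gammaFiltration P 0 = ⊤ := by simp [gammaFiltration]

theorem prod_mem_gammaFiltration (n : ℕ) (l : List (ℕ × K)) (hl : ∀ p ∈ l, P.aug p.2 = 0)
    (hn : n ≤ (l.map Prod.fst).sum) : (l.map fun p => gamma p.1 p.2).prod ∈ gammaFiltration P n := by
  rw [gammaFiltration]
  split_ifs
  · trivial
  · exact AddSubgroup.subset_closure ⟨l, hl, hn, rfl⟩

theorem gamma_mem_gammaFiltration {x : K} (hx : P.aug x = 0) (k : ℕ) :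
    gamma k x ∈ gammaFiltration P k := by
  simpa using prod_mem_gammaFiltration k [(k, x)] (by simpa using hx) (by simp)

theorem gammaFiltration_induction {n : ℕ} (hn : n ≠ 0) {G : AddSubgroup K}
    (h : ∀ l : List (ℕ × K), (∀ p ∈ l, P.aug p.2 = 0) → n ≤ (l.map Prod.fst).sum →
      (l.map fun p => gamma p.1 p.2).prod ∈ G) : gammaFiltration P n ≤ G := by
  rw [gammaFiltration, if_neg hn, AddSubgroup.closure_le]
  rintro y ⟨l, h1, h2, rfl⟩
  exact h l h1 h2

theorem gammaFiltration_antitone : Antitone (gammaFiltration P) := by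
  intro a b hab
  rcases eq_or_ne b 0 with rfl | hb
  · rw [Nat.le_zero.mp hab]
  exact gammaFiltration_induction hb fun l h1 h2 => prod_mem_gammaFiltration a l h1 (hab.trans h2)

theorem mem_gammaFiltration_one {x : K} (hx : P.aug x = 0) : x ∈ gammaFiltration P 1 := by
  simpa using gamma_mem_gammaFiltration hx 1

theorem mul_mem_gammaFiltration' {a b : ℕ} {x y : K} (hx : x ∈ gammaFiltration P a)
    (hy : y ∈ gammaFiltration P b) : x * y ∈ gammaFiltration P (a + b) := by
  have key : ∀ {a b : ℕ} {x y : K}, a ≠ 0 → b ≠ 0 → x ∈ gammaFiltration P a →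
      y ∈ gammaFiltration P b → x * y ∈ gammaFiltration P (a + b) := by
    intro a b x y ha hb hx hy
    have : gammaFiltration P a ≤ (gammaFiltration P (a + b)).comap (AddMonoidHom.mulRight y) := by
      refine gammaFiltration_induction ha fun l hl hla => ?_
      change _ * y ∈ gammaFiltration P (a + b)
      have h2 : gammaFiltration P b ≤
          (gammaFiltration P (a + b)).comap (AddMonoidHom.mulLeft (l.map fun p => gamma p.1 p.2).prod) := by
        refine gammaFiltration_induction hb fun l' hl' hlb => ?_
        change _ * _ ∈ gammaFiltration P (a + b)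
        rw [← List.prod_append, ← List.map_append]
        refine prod_mem_gammaFiltration _ _ ?_ (by simp; omega)
        simp only [List.mem_append]
        rintro p (h | h)
        · exact hl p h
        · exact hl' p h
      exact h2 hy
    exact this hx
  have scalar : ∀ {n : ℕ} (z : K) {w : K}, n ≠ 0 → w ∈ gammaFiltration P n →
      z * w ∈ gammaFiltration P n := by
    intro n z w hn hw
    have hz : z - (P.aug z : K) ∈ gammaFiltration P 1 := mem_gammaFiltration_one (by simp)
    have h1 := gammaFiltration_antitone (Nat.le_add_left n 1) (key one_ne_zero hn hz hw)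
    have h2 := (gammaFiltration P n).zsmul_mem hw (P.aug z)
    rw [zsmul_eq_mul] at h2
    have := add_mem h1 h2
    rwa [sub_mul, sub_add_cancel] at this
  rcases eq_or_ne a 0 with rfl | ha
  · rcases eq_or_ne b 0 with rfl | hb
    · simp
    · rw [zero_add]; exact scalar x hb hy
  · rcases eq_or_ne b 0 with rfl | hb
    · rw [add_zero, mul_comm]; exact scalar y ha hx
    · exact key ha hb hx hy

/-- A multiplicative decreasing family of subgroups. -/
structure IsGraded {R : Type v} [CommRing R] (G : ℕ → AddSubgroup R) : Prop where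
  one_mem : (1 : R) ∈ G 0
  antitone : Antitone G
  mul_mem : ∀ {a b : ℕ} {x y : R}, x ∈ G a → y ∈ G b → x * y ∈ G (a + b)

theorem isGraded_gammaFiltration (P : PosStructure K) : IsGraded (gammaFiltration P) :=
  ⟨by simp, gammaFiltration_antitone, mul_mem_gammaFiltration'⟩

variable {R : Type v} [CommRing R] {G : ℕ → AddSubgroup R}

/-- A series with constant coefficient `1` whose `k`th coefficient lies in `G k`. -/
def GradedSeries (G : ℕ → AddSubgroup R) (s : PowerSeries R) : Prop :=
  constantCoeff s = 1 ∧ ∀ k, coeff k s ∈ G k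

theorem gradedSeries_one (hG : IsGraded G) : GradedSeries G 1 := by
  refine ⟨by simp, fun k => ?_⟩
  rw [PowerSeries.coeff_one]
  split_ifs with h
  · exact h ▸ hG.one_mem
  · exact zero_mem _

theorem GradedSeries.mul (hG : IsGraded G) {s t : PowerSeries R} (hs : GradedSeries G s)
    (ht : GradedSeries G t) : GradedSeries G (s * t) := by
  refine ⟨by simp [hs.1, ht.1], fun k => ?_⟩
  rw [coeff_mul_range]
  refine AddSubgroup.sum_mem _ fun i hi => ?_
  have := hG.mul_mem (hs.2 i) (ht.2 (k - i))
  rwa [Nat.add_sub_cancel' (by simp at hi; omega)] at this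

theorem GradedSeries.of_mul_eq_one (hG : IsGraded G) {s t : PowerSeries R} (hs : GradedSeries G s)
    (h : s * t = 1) : GradedSeries G t := by
  have h0 : constantCoeff t = 1 := by
    have := congrArg constantCoeff h
    simpa [hs.1] using this
  refine ⟨h0, fun k => ?_⟩
  induction k using Nat.strong_induction_on with
  | _ k ih =>
    rcases eq_or_ne k 0 with rfl | hk
    · rw [coeff_zero_eq_constantCoeff_apply, h0]; exact hG.one_mem
    have h1 := congrArg (coeff k) h
    rw [coeff_mul_range, Finset.sum_range_succ', coeff_zero_eq_constantCoeff_apply, hs.1, one_mul,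
      tsub_zero, PowerSeries.coeff_one, if_neg hk] at h1
    rw [← neg_eq_of_add_eq_zero_right h1]
    refine neg_mem (AddSubgroup.sum_mem _ fun i hi => ?_)
    simp at hi
    have := hG.mul_mem (hs.2 (i + 1)) (ih (k - (i + 1)) (by omega))
    rwa [Nat.add_sub_cancel' (by omega)] at this

theorem GradedSeries.pow (hG : IsGraded G) {s : PowerSeries R} (hs : GradedSeries G s) :
    ∀ n, GradedSeries G (s ^ n)
  | 0 => by rw [pow_zero]; exact gradedSeries_one hG
  | n + 1 => by rw [pow_succ]; exact (GradedSeries.pow hG hs n).mul hG hs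

theorem gradedSeries_one_add_C_mul_X (hG : IsGraded G) {z : R} (hz : z ∈ G 1) :
    GradedSeries G (1 + PowerSeries.C z * PowerSeries.X) := by
  refine ⟨by simp, fun k => ?_⟩
  match k with
  | 0 => simpa using hG.one_mem
  | 1 => simpa [PowerSeries.coeff_one] using hz
  | k + 2 => simp [PowerSeries.coeff_one, zero_mem]

/-- The elements whose γ-series is graded. -/
def gammaGradedSet (f : K →+* R) (G : ℕ → AddSubgroup R) (hG : IsGraded G) : AddSubgroup K where
  carrier := {x | GradedSeries G (PowerSeries.map f (gammaSeries x))}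
  zero_mem' := by simpa using gradedSeries_one hG
  add_mem' {x y} hx hy := by
    show GradedSeries G _
    rw [gammaSeries_add, map_mul]
    exact GradedSeries.mul hG hx hy
  neg_mem' {x} hx := by
    apply GradedSeries.of_mul_eq_one hG (s := PowerSeries.map f (gammaSeries x)) hx
    rw [← map_mul, ← gammaSeries_add, add_neg_cancel, gammaSeries_zero, map_one]

theorem mem_gammaGradedSet {f : K →+* R} {hG : IsGraded G} {x : K} :
    x ∈ gammaGradedSet f G hG ↔ GradedSeries G (PowerSeries.map f (gammaSeries x)) := Iff.rfl

theorem map_mem_of_gammaGraded (f : K →+* R) (hG : IsGraded G) (h0 : ∀ x : K, f x ∈ G 0)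
    (h : ∀ x : K, P.aug x = 0 → GradedSeries G (PowerSeries.map f (gammaSeries x)))
    {n : ℕ} {x : K} (hx : x ∈ gammaFiltration P n) : f x ∈ G n := by
  rcases eq_or_ne n 0 with rfl | hn
  · exact h0 x
  have : gammaFiltration P n ≤ (G n).comap f.toAddMonoidHom := by
    refine gammaFiltration_induction hn fun l hl hln => ?_
    change f _ ∈ G n
    refine hG.antitone hln ?_
    clear hln
    induction l with
    | nil => simpa using hG.one_mem
    | cons p l ih =>
      simp only [List.map_cons, List.prod_cons, List.sum_cons, map_mul]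
      refine hG.mul_mem ?_ (ih fun q hq => hl q (List.mem_cons_of_mem _ hq))
      have := (h p.2 (hl p (List.mem_cons_self ..))).2 p.1
      simpa using this
  exact this hx

/-- It suffices to treat the elements `e - ε e`, `e` positive. -/
theorem gammaGraded_of_pos (f : K →+* R) (hG : IsGraded G)
    (h : ∀ e ∈ P.pos, GradedSeries G (PowerSeries.map f (gammaSeries (e - (P.aug e : K)))))
    (x : K) (hx : P.aug x = 0) : GradedSeries G (PowerSeries.map f (gammaSeries x)) := by
  obtain ⟨e, e', he, he', rfl⟩ := P.exists_sub x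
  rw [← mem_gammaGradedSet (hG := hG)]
  have := (gammaGradedSet f G hG).sub_mem (mem_gammaGradedSet.mpr (h e he))
    (mem_gammaGradedSet.mpr (h e' he'))
  rw [map_sub, sub_eq_zero] at hx
  rwa [hx, sub_sub_sub_cancel_right] at this

theorem aug_gamma (hK : HasSplitting K P) {x : K} (hx : P.aug x = 0) {k : ℕ} (hk : k ≠ 0) :
    P.aug (gamma k x) = 0 := by
  let G : ℕ → AddSubgroup ℤ := fun n => if n = 0 then ⊤ else ⊥
  have hG : IsGraded G := by
    refine ⟨by simp [G], fun a b hab => ?_, fun {a b x y} hx hy => ?_⟩
    · simp only [G]; split_ifs <;> first | exact le_top | exact bot_le | exact le_rfl | omega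
    · rcases eq_or_ne a 0 with rfl | ha
      · rcases eq_or_ne b 0 with rfl | hb
        · simp [G]
        · simp [G, hb] at hy ⊢; exact Or.inr hy
      · simp [G, ha] at hx ⊢; exact Or.inl hx
  have := (gammaGraded_of_pos P.aug hG (fun e he => ?_) x hx).2 k
  · simpa [G, hk] using this
  obtain ⟨L, f, hf, -, w, hw, hfe⟩ := exists_split hK he
  have haug : L.posStr.aug.comp f = P.aug := RingHom.ext hf.aug_comp
  rw [← haug, PowerSeries.map_comp, RingHom.comp_apply, map_gammaSeries hf.isLambdaHom, haug]
  have : f (e - (P.aug e : K)) = ∑ i, (w i - 1) := by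
    rw [map_sub, map_intCast, hfe, Finset.sum_sub_distrib]
    simp only [Finset.sum_const, Finset.card_univ, Fintype.card_fin, nsmul_one]
    rw [← Int.cast_natCast, aug_toNat he]
  rw [this, gammaSeries_sum, map_prod]
  refine Finset.prod_induction _ _ (fun a b ha hb => ha.mul hG hb) (gradedSeries_one hG) fun i _ => ?_
  rw [gammaSeries_line_sub_one (hw i)]
  simpa [(hw i).2] using gradedSeries_one hG

theorem mem_gammaFiltration_one_iff (hK : HasSplitting K P) {x : K} :
    x ∈ gammaFiltration P 1 ↔ P.aug x = 0 := by
  refine ⟨fun hx => ?_, mem_gammaFiltration_one⟩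
  have : gammaFiltration P 1 ≤ P.aug.toAddMonoidHom.ker := by
    refine gammaFiltration_induction one_ne_zero fun l hl hls => ?_
    induction l with
    | nil => simp at hls
    | cons p l ih =>
      simp only [List.map_cons, List.prod_cons, List.sum_cons, AddMonoidHom.mem_ker,
        RingHom.toAddMonoidHom_eq_coe, AddMonoidHom.coe_coe, map_mul] at hls ih ⊢
      rcases eq_or_ne p.1 0 with h | h
      · rw [ih (fun q hq => hl q (List.mem_cons_of_mem _ hq)) (by omega), mul_zero]
      · rw [aug_gamma hK (hl p (List.mem_cons_self ..)) h, zero_mul]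
  exact this hx

end Filtration

section Symmetric

variable {K : Type u} [CommRing K] [LambdaOps K] {P : PosStructure K}

open MvPolynomial in
/-- A symmetric polynomial of order `≥ k` in the `u_i - 1`, for a splitting `e = Σ u_i`, comes from
the `k`th step of the γ-filtration. -/
theorem exists_mem_gammaFiltration_of_isSymmetric {e : K} {m : ℕ} (hm : P.aug e = m) {k : ℕ}
    {p : MvPolynomial (Fin m) ℤ} (hp : p.IsSymmetric)
    (hord : p ∈ idealOfVars (Fin m) ℤ ^ k) :
    ∃ c ∈ gammaFiltration P k, ∀ (L : Type u) [CommRing L] [LambdaOps L] (P' : PosStructure L)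
      (f : K →+* L), IsLambdaHom f → ∀ w : Fin m → L, (∀ i, P'.IsLine (w i)) →
      f e = ∑ i, w i → f c = aeval (fun i => w i - 1) p := by
  classical
  have heaug : P.aug (e - (m : K)) = 0 := by simp [hm]
  obtain ⟨q, hq⟩ := exists_aeval_esymm_eq hp
  let wt : (Fin m →₀ ℕ) → ℕ := fun t => ∑ i, t i * ((i : ℕ) + 1)
  let φ := aeval (R := ℤ) (fun i : Fin m => esymm (Fin m) ℤ ((i : ℕ) + 1))
  have hhom : ∀ t, (φ (monomial t (q.coeff t))).IsHomogeneous (wt t) := by
    intro t
    simp only [φ, aeval_monomial, algebraMap_eq]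
    apply IsHomogeneous.C_mul
    rw [Finsupp.prod_fintype _ _ (fun i => pow_zero _)]
    refine IsHomogeneous.prod _ _ _ fun i _ => ?_
    rw [mul_comm]
    refine IsHomogeneous.pow ?_ _
    intro d hd
    simp only [esymm_eq_sum_monomial, coeff_sum, MvPolynomial.coeff_monomial, ne_eq] at hd
    obtain ⟨s, hs, hsd⟩ := Finset.exists_ne_zero_of_sum_ne_zero hd
    simp only [ne_eq, ite_eq_right_iff, Classical.not_imp, mem_powersetCard] at hs hsd
    rw [← hsd.1]
    simp [Finsupp.weight_apply, Finsupp.sum_fintype, Finsupp.single_apply, hs.2]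
  have hwt : ∀ t ∈ q.support, k ≤ wt t := by
    intro t ht
    by_contra hlt
    push Not at hlt
    set S := q.support.filter fun s => wt s = wt t with hS
    have h1 : homogeneousComponent (wt t) p = 0 := by
      ext d
      rw [coeff_homogeneousComponent]
      split_ifs with hd
      · rw [(mem_pow_idealOfVars_iff' k p).mp hord d (by rw [hd]; exact hlt)]; simp
      · simp
    have h2 : φ (∑ s ∈ S, monomial s (q.coeff s)) = 0 := by
      rw [← h1, ← hq]
      conv_rhs => rw [q.as_sum, map_sum, map_sum]
      rw [map_sum, hS, Finset.sum_filter]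
      refine Finset.sum_congr rfl fun s _ => ?_
      rw [homogeneousComponent_of_mem (hhom s)]
      split_ifs with h3 h4 h5 <;> first | rfl | omega | exact absurd h3.symm h4 | exact absurd h5.symm h3
    have h3 : ∑ s ∈ S, monomial s (q.coeff s) = 0 := by
      apply MvPolynomial.esymmAlgHom_fin_injective ℤ (le_refl m)
      apply Subtype.ext
      rw [esymmAlgHom_apply, map_zero]
      exact h2
    have h4 := congrArg (MvPolynomial.coeff t) h3
    simp only [coeff_sum, MvPolynomial.coeff_monomial, MvPolynomial.coeff_zero, Finset.sum_ite_eq'] at h4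
    rw [if_pos (by simp [hS, mem_support_iff.mp ht])] at h4
    exact mem_support_iff.mp ht h4
  refine ⟨aeval (fun i : Fin m => gamma ((i : ℕ) + 1) (e - (m : K))) q, ?_, ?_⟩
  · rw [q.as_sum, map_sum]
    refine AddSubgroup.sum_mem _ fun t ht => ?_
    rw [aeval_monomial, eq_intCast, ← zsmul_eq_mul]
    refine AddSubgroup.zsmul_mem _ (gammaFiltration_antitone (hwt t ht) ?_) _
    rw [Finsupp.prod_fintype _ _ (fun i => pow_zero _)]
    have hG := isGraded_gammaFiltration P
    have hpow : ∀ (a b : ℕ) (x : K), x ∈ gammaFiltration P a → x ^ b ∈ gammaFiltration P (b * a) := by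
      intro a b x hx
      induction b with
      | zero => simp
      | succ b ih => rw [pow_succ, add_mul, one_mul]; exact hG.mul_mem ih hx
    simp only [wt]
    generalize (Finset.univ : Finset (Fin m)) = s
    induction s using Finset.induction_on with
    | empty => simp
    | insert a s ha ih =>
      rw [Finset.prod_insert ha, Finset.sum_insert ha]
      exact hG.mul_mem (hpow _ _ _ (gamma_mem_gammaFiltration heaug _)) ih
  · intro L _ _ P' f hf w hw hfe
    change f.toIntAlgHom (aeval _ q) = _
    rw [← AlgHom.comp_apply, MvPolynomial.comp_aeval, ← hq, aeval_aeval_esymm]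
    congr 1
    apply algHom_ext
    intro i
    rw [aeval_X, aeval_X]
    change f (gamma _ _) = _
    rw [map_gamma hf, map_sub, map_natCast, hfe, ← gamma_sum_lines_sub_card hw, Fintype.card_fin]

end Symmetric

end Groth.LambdaCore
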