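import Groth.Agent.LambdaCore.Gamma

/-!
# γ-series of a positive element twisted by a line element
-/

set_option autoImplicit false
universe u v

open PowerSeries Finset LambdaRing

namespace Groth.LambdaCore.TwistGamma

variable {K : Type u} [CommRing K] [LambdaOps K] {P : PosStructure K}

/-- `t / (1 - t)` times `1 - t`. -/
theorem tDivOneSub_mul : tDivOneSub K * (1 - X) = X := by
  have h := (invOneSubPow K 1).val_inv
  rw [invOneSubPow_inv_eq_one_sub_pow, pow_one] at h
  rw [tDivOneSub, mul_assoc, h, mul_one]

theorem one_add_tDivOneSub_mul : (1 + tDivOneSub K) * (1 - X) = 1 := by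
  rw [add_mul, tDivOneSub_mul, one_mul, sub_add_cancel]

theorem gammaSeries_natCast_mul (P : PosStructure K) (r : ℕ) :
    gammaSeries (r : K) * (1 - X) ^ r = 1 := by
  induction r with
  | zero => simp
  | succ r ih =>
    have h1 : gammaSeries (1 : K) = 1 + tDivOneSub K := by
      rw [gammaSeries_eq_subst, lamSeries_one P, subst_add hasSubst_tDivOneSub, subst_X hasSubst_tDivOneSub,
        ← coe_substAlgHom hasSubst_tDivOneSub, map_one]
    rw [Nat.cast_succ, gammaSeries_add, pow_succ,
      show gammaSeries (r : K) * gammaSeries 1 * ((1 - X) ^ r * (1 - X)) =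
        (gammaSeries (r : K) * (1 - X) ^ r) * (gammaSeries 1 * (1 - X)) by ring,
      ih, h1, one_add_tDivOneSub_mul, one_mul]

theorem gammaSeries_sub_natCast (P : PosStructure K) (x : K) (r : ℕ) :
    gammaSeries (x - r) = gammaSeries x * (1 - X) ^ r := by
  have h : gammaSeries (x - r) * gammaSeries (r : K) = gammaSeries x := by
    rw [← gammaSeries_add, sub_add_cancel]
  rw [← h, mul_assoc, gammaSeries_natCast_mul P r, mul_one]

variable {G : ℕ → AddSubgroup K}

/-- Twisting by a line `l` with `l - 1` in degree one preserves gradedness of the γ-series. -/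
theorem gradedSeries_twist (P : PosStructure K) (hG : IsGraded G) {l e y : K} (hl0 : l ∈ G 0)
    (hl : l - 1 ∈ G 1) (hy : lamSeries y = rescale l (lamSeries e)) (r : ℕ)
    (he : GradedSeries G (gammaSeries (e - r))) : GradedSeries G (gammaSeries (y - r)) := by
  let S : PowerSeries K := 1 + C (l - 1) * X
  have hS : GradedSeries G S := gradedSeries_one_add_C_mul_X hG hl
  let W : PowerSeries K := invOfUnit S 1
  have hSW : S * W = 1 := mul_invOfUnit _ 1 (by simp [S])
  have hW : GradedSeries G W := hS.of_mul_eq_one hG hSW
  let u : PowerSeries K := C l * W * X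
  have hu : HasSubst u := HasSubst.of_constantCoeff_zero' (by simp [u])
  have h1u : (1 - u) * S = 1 - X := by
    have : u * S = C l * X := by
      calc u * S = C l * X * (S * W) := by ring
        _ = C l * X := by rw [hSW, mul_one]
    rw [sub_mul, this, one_mul]
    simp only [S, map_sub, map_one]
    ring
  have hsu : subst u (tDivOneSub K) = C l * tDivOneSub K := by
    have h1 : subst u (tDivOneSub K) * (1 - u) = u := by
      have := congrArg (substAlgHom (R := K) hu) (tDivOneSub_mul (K := K))
      rw [map_mul, map_sub, map_one, substAlgHom_X, coe_substAlgHom] at this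
      exact this
    have h2 : subst u (tDivOneSub K) * (1 - X) = C l * X := by
      calc subst u (tDivOneSub K) * (1 - X) = (subst u (tDivOneSub K) * (1 - u)) * S := by rw [mul_assoc, h1u]
        _ = C l * X * (S * W) := by rw [h1]; ring
        _ = C l * X := by rw [hSW, mul_one]
    calc subst u (tDivOneSub K) = subst u (tDivOneSub K) * (1 - X) * (1 + tDivOneSub K) := by
          rw [mul_assoc, mul_comm (1 - X), one_add_tDivOneSub_mul, mul_one]
      _ = C l * (X * (1 + tDivOneSub K)) := by rw [h2]; ring
      _ = C l * tDivOneSub K := by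
          congr 1
          calc X * (1 + tDivOneSub K) = tDivOneSub K * (1 - X) * (1 + tDivOneSub K) := by rw [tDivOneSub_mul]
            _ = tDivOneSub K := by rw [mul_assoc, mul_comm (1 - X), one_add_tDivOneSub_mul, mul_one]
  have hlX : HasSubst (C l * X : PowerSeries K) := HasSubst.of_constantCoeff_zero' (by simp)
  have hresc : rescale l (lamSeries e) = subst (C l * X : PowerSeries K) (lamSeries e) := by
    rw [rescale_eq_subst, smul_eq_C_mul]
  have hgy : gammaSeries y = subst u (gammaSeries e) := by
    rw [gammaSeries_eq_subst, gammaSeries_eq_subst, hy, hresc, subst_comp_subst_apply hasSubst_tDivOneSub hu,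
      hsu, subst_comp_subst_apply hlX hasSubst_tDivOneSub]
    congr 1
    rw [subst_mul hasSubst_tDivOneSub, subst_X hasSubst_tDivOneSub]
    congr 1
    rw [← coe_substAlgHom hasSubst_tDivOneSub]
    exact (substAlgHom hasSubst_tDivOneSub).commutes l
  have hmain : gammaSeries (y - r) = S ^ r * subst u (gammaSeries (e - r)) := by
    rw [gammaSeries_sub_natCast P, gammaSeries_sub_natCast P, subst_mul hu, ← hgy, subst_pow hu,
      ← coe_substAlgHom hu, map_sub, map_one, substAlgHom_X]
    calc gammaSeries y * (1 - X) ^ r = gammaSeries y * ((1 - u) * S) ^ r := by rw [h1u]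
      _ = _ := by rw [mul_pow]; ring
  rw [hmain]
  refine (hS.pow hG r).mul hG ⟨?_, fun k => ?_⟩
  · rw [← coeff_zero_eq_constantCoeff_apply, coeff_subst' hu, finsum_eq_single _ 0]
    · simp
    · intro d hd
      have : coeff 0 (u ^ d) = 0 := by
        rw [coeff_zero_eq_constantCoeff_apply, map_pow, show constantCoeff u = 0 by simp [u], zero_pow hd]
      rw [this, smul_zero]
  · rw [coeff_subst' hu]
    refine finsum_induction _ (zero_mem _) (fun a b => add_mem) fun d => ?_
    have hud : u ^ d = C (l ^ d) * (X ^ d * W ^ d) := by rw [map_pow]; ring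
    rw [hud, coeff_C_mul, coeff_X_pow_mul', smul_eq_mul]
    split_ifs with hdk
    · have h0 : l ^ d ∈ G 0 := by
        clear hud hdk
        induction d with
        | zero => simpa using hG.one_mem
        | succ d ih => simpa [pow_succ] using hG.mul_mem ih hl0
      have := hG.mul_mem (he.2 d) (hG.mul_mem h0 ((hW.pow hG d).2 (k - d)))
      simpa [Nat.add_sub_cancel' hdk] using this
    · simp

end Groth.LambdaCore.TwistGamma
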