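import Groth.Agent.LambdaCore.Gamma

/-!
# `ψ^j ≡ j^n` on the `n`th graded piece of the γ-filtration
-/

set_option autoImplicit false
universe u v

open Finset LambdaRing

namespace Groth.LambdaCore

theorem prod_sub_prod_mem_pow_succ {R : Type u} [CommRing R] (I : Ideal R) {ι : Type v}
    (a b : ι → R) (hb : ∀ i, b i ∈ I) (hab : ∀ i, a i - b i ∈ I ^ 2) (s : Finset ι) :
    ∏ i ∈ s, b i ∈ I ^ s.card ∧ ∏ i ∈ s, a i - ∏ i ∈ s, b i ∈ I ^ (s.card + 1) := by
  classical
  induction s using Finset.induction_on with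
  | empty => simp
  | insert x s hx ih =>
    rw [Finset.prod_insert hx, Finset.prod_insert hx, Finset.card_insert_of_notMem hx]
    refine ⟨?_, ?_⟩
    · rw [pow_succ']; exact Ideal.mul_mem_mul (hb x) ih.1
    · have ha : a x ∈ I := by
        have := I.add_mem (Ideal.pow_le_self two_ne_zero (hab x)) (hb x)
        rwa [sub_add_cancel] at this
      have : a x * ∏ i ∈ s, a i - b x * ∏ i ∈ s, b i =
          a x * (∏ i ∈ s, a i - ∏ i ∈ s, b i) + (a x - b x) * ∏ i ∈ s, b i := by ring
      rw [this]
      refine Ideal.add_mem _ ?_ ?_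
      · rw [pow_succ']; exact Ideal.mul_mem_mul ha ih.2
      · have h2 := Ideal.mul_mem_mul (hab x) ih.1
        rwa [← pow_add, show 2 + s.card = s.card + 1 + 1 by omega] at h2

theorem one_add_pow_sub_sub_mem_sq {R : Type u} [CommRing R] (I : Ideal R) {x : R} (hx : x ∈ I)
    (j : ℕ) : (1 + x) ^ j - 1 - j * x ∈ I ^ 2 := by
  induction j with
  | zero => simp
  | succ j ih =>
    have h : (1 + x) ^ (j + 1) - 1 - ((j + 1 : ℕ) : R) * x =
        ((1 + x) ^ j - 1 - (j : R) * x) * (1 + x) + (j : R) * x * x := by push_cast; ring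
    rw [h]
    refine Ideal.add_mem _ (Ideal.mul_mem_right _ _ ih) ?_
    rw [sq, mul_assoc]
    exact Ideal.mul_mem_left _ _ (Ideal.mul_mem_mul hx hx)

theorem map_multiset_esymm {R : Type u} [CommSemiring R] {S : Type v} [CommSemiring S] (f : R →+* S)
    (s : Multiset R) (k : ℕ) : f (s.esymm k) = (s.map f).esymm k := by
  simp [Multiset.esymm, map_multiset_sum, Multiset.powersetCard_map, Multiset.map_map,
    map_multiset_prod]

variable {K : Type u} [CommRing K] [LambdaOps K] {P : PosStructure K}

open MvPolynomial in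
theorem adams_gamma_sub_mem (hK : HasSplitting K P) {e : K} (he : e ∈ P.pos) (j i : ℕ) :
    adams P j (gamma i (e - (P.aug e : K))) - (j : K) ^ i * gamma i (e - (P.aug e : K)) ∈
      gammaFiltration P (i + 1) := by
  classical
  obtain ⟨m, hm⟩ : ∃ m : ℕ, P.aug e = m := ⟨_, (aug_toNat he).symm⟩
  let p : MvPolynomial (Fin m) ℤ :=
    (Finset.univ.val.map fun a : Fin m => (1 + X a) ^ j - 1).esymm i -
      (j : MvPolynomial (Fin m) ℤ) ^ i * esymm (Fin m) ℤ i
  have hp : p.IsSymmetric := by
    intro σ
    have hu : (Finset.univ.val.map σ : Multiset (Fin m)) = Finset.univ.val := by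
      rw [← Equiv.coe_toEmbedding, ← Finset.map_val, Finset.map_univ_equiv]
    simp only [p, map_sub, map_mul, map_pow, map_natCast, esymm_isSymmetric (Fin m) ℤ i σ]
    congr 1
    change (rename σ).toRingHom _ = _
    rw [map_multiset_esymm, Multiset.map_map]
    conv_rhs => rw [← hu, Multiset.map_map]
    simp
  have hord : p ∈ idealOfVars (Fin m) ℤ ^ (i + 1) := by
    simp only [p, esymm_eq_sum_monomial]
    rw [Finset.esymm_map_val, Finset.mul_sum, ← Finset.sum_sub_distrib]
    refine Ideal.sum_mem _ fun s hs => ?_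
    rw [Finset.mem_powersetCard] at hs
    have hmon : monomial (∑ a ∈ s, Finsupp.single a 1) (1 : ℤ) = ∏ a ∈ s, (X a : MvPolynomial (Fin m) ℤ) := by
      rw [monomial_sum_one]; rfl
    have h := (prod_sub_prod_mem_pow_succ (idealOfVars (Fin m) ℤ)
      (fun a : Fin m => (1 + X a) ^ j - 1) (fun a => (j : MvPolynomial (Fin m) ℤ) * X a)
      (fun a => Ideal.mul_mem_left _ _ (Ideal.subset_span (Set.mem_range_self a)))
      (fun a => one_add_pow_sub_sub_mem_sq _ (Ideal.subset_span (Set.mem_range_self a)) j) s).2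
    rwa [hs.2, Finset.prod_mul_distrib, Finset.prod_const, hs.2, ← hmon] at h
  obtain ⟨c, hc, hcv⟩ := exists_mem_gammaFiltration_of_isSymmetric (P := P) (e := e) hm hp hord
  obtain ⟨L, f, hf, hL, w', hw', hfe'⟩ := exists_split hK he
  have hmn : (P.aug e).toNat = m := by omega
  let w : Fin m → L.carrier := fun a => w' (Fin.cast hmn.symm a)
  have hw : ∀ a, L.posStr.IsLine (w a) := fun a => hw' _
  have hfe : f e = ∑ a, w a := by
    rw [hfe']; exact Fintype.sum_equiv (finCongr hmn) _ _ fun a => rfl
  suffices h : adams P j (gamma i (e - (P.aug e : K))) - (j : K) ^ i * gamma i (e - (P.aug e : K)) = c by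
    rwa [h]
  apply hf.injective
  rw [hcv L.carrier L.posStr f hf.isLambdaHom w hw hfe, map_sub, map_mul, map_pow, map_natCast,
    map_adams hf, map_gamma hf.isLambdaHom, map_sub, map_intCast, hfe, hm, Int.cast_natCast]
  have hg := gamma_sum_lines_sub_card hw i
  rw [Fintype.card_fin] at hg
  simp only [p, map_sub, map_mul, map_pow, map_natCast, aeval_esymm_eq_multiset_esymm]
  rw [hg, ← adamsHom_apply hL, map_multiset_esymm, Multiset.map_map]
  congr 1
  change _ = (MvPolynomial.aeval fun a => w a - 1).toRingHom _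
  rw [map_multiset_esymm, Multiset.map_map]
  congr 1
  refine Multiset.map_congr rfl fun a _ => ?_
  simp [-adamsHom_apply, map_sub, adams_line (hw a) j ▸ adamsHom_apply hL j (w a)]

theorem adams_sub_pow_mul_mem (hK : HasSplitting K P) (j : ℕ) {n : ℕ} {x : K}
    (hx : x ∈ gammaFiltration P n) :
    adams P j x - (j : K) ^ n * x ∈ gammaFiltration P (n + 1) := by
  have hF := isGraded_gammaFiltration P
  let G : ℕ → AddSubgroup K := fun n =>
    { carrier := {x | x ∈ gammaFiltration P n ∧ adams P j x - (j : K) ^ n * x ∈ gammaFiltration P (n + 1)}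
      zero_mem' := by
        refine ⟨zero_mem _, ?_⟩
        rw [← adamsHom_apply hK, map_zero, mul_zero, sub_zero]
        exact zero_mem _
      add_mem' := fun {a b} ha hb => ⟨add_mem ha.1 hb.1, by
        convert add_mem ha.2 hb.2 using 1
        rw [adams_add]; ring⟩
      neg_mem' := fun {a} ha => ⟨neg_mem ha.1, by
        convert neg_mem ha.2 using 1
        simp only [← adamsHom_apply hK, map_neg]; ring⟩ }
  have psi_mem : ∀ {n : ℕ} {x : K}, x ∈ G n → adams P j x ∈ gammaFiltration P n := by
    intro n x hx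
    have h2 : (j : K) ^ n * x ∈ gammaFiltration P n := by
      simpa using hF.mul_mem (a := 0) (x := (j : K) ^ n) (by simp) hx.1
    have := add_mem (gammaFiltration_antitone (Nat.le_succ n) hx.2) h2
    rwa [sub_add_cancel] at this
  have hG0 : ∀ x, x ∈ G 0 := fun x => ⟨by simp, mem_gammaFiltration_one (by simp [aug_adams hK])⟩
  have hG : IsGraded G := by
    refine ⟨hG0 1, ?_, ?_⟩
    · refine antitone_nat_of_succ_le fun n x hx => ⟨gammaFiltration_antitone (Nat.le_succ n) hx.1, ?_⟩
      refine sub_mem (psi_mem hx) ?_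
      simpa using hF.mul_mem (a := 0) (x := (j : K) ^ n) (by simp) hx.1
    · intro a b x y hx hy
      refine ⟨hF.mul_mem hx.1 hy.1, ?_⟩
      rw [adams_mul hK, pow_add]
      have h1 : (j : K) ^ a * x * (adams P j y - (j : K) ^ b * y) ∈ gammaFiltration P (a + b + 1) := by
        refine hF.mul_mem (a := a) ?_ hy.2
        simpa using hF.mul_mem (a := 0) (x := (j : K) ^ a) (by simp) hx.1
      have h2 : (adams P j x - (j : K) ^ a * x) * adams P j y ∈ gammaFiltration P (a + b + 1) := by
        have := hF.mul_mem hx.2 (psi_mem hy)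
        rwa [show a + 1 + b = a + b + 1 by ring] at this
      convert add_mem h1 h2 using 1
      ring
  have hgen : ∀ y : K, P.aug y = 0 → GradedSeries G (PowerSeries.map (RingHom.id K) (gammaSeries y)) := by
    refine gammaGraded_of_pos (RingHom.id K) hG fun e he => ⟨by simp, fun i => ?_⟩
    simp only [PowerSeries.map_id, RingHom.id_apply, id_eq, coeff_gammaSeries]
    exact ⟨gamma_mem_gammaFiltration (by simp) i, adams_gamma_sub_mem hK he j i⟩
  exact (map_mem_of_gammaGraded (RingHom.id K) hG hG0 hgen hx).2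

theorem adams_mem_gammaFiltration (hK : HasSplitting K P) (j : ℕ) {n : ℕ} {x : K}
    (hx : x ∈ gammaFiltration P n) : adams P j x ∈ gammaFiltration P n := by
  have h2 : (j : K) ^ n * x ∈ gammaFiltration P n := by
    simpa using mul_mem_gammaFiltration' (P := P) (a := 0) (x := (j : K) ^ n) (by simp) hx
  have := add_mem (gammaFiltration_antitone (Nat.le_succ n) (adams_sub_pow_mul_mem hK j hx)) h2
  rwa [sub_add_cancel] at this

theorem exists_nsmul_mem_gammaFiltration (hK : HasSplitting K P) {j : ℕ} (hj : 2 ≤ j) (n : ℕ) (x : K)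
    (hx : ∃ N : ℕ, 1 ≤ N ∧ (N : K) * (adams P j x - (j : K) ^ n * x) ∈ gammaFiltration P (n + 1)) :
    ∃ N : ℕ, 1 ≤ N ∧ (N : K) * x ∈ gammaFiltration P n := by
  obtain ⟨N, hN, hNx⟩ := hx
  have key : ∀ k, k ≤ n → ∃ M : ℕ, 1 ≤ M ∧ (M : K) * x ∈ gammaFiltration P k := by
    intro k hk
    induction k with
    | zero => exact ⟨1, le_rfl, by simp⟩
    | succ k ih =>
      obtain ⟨M, hM, hMx⟩ := ih (by omega)
      have h1 := adams_sub_pow_mul_mem hK j hMx
      rw [adams_mul hK, adams_natCast] at h1
      have h2 := gammaFiltration_antitone (show k + 1 ≤ n + 1 by omega) hNx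
      have h1' := mul_mem_gammaFiltration' (P := P) (a := 0) (x := (N : K)) (by simp) h1
      have h2' := mul_mem_gammaFiltration' (P := P) (a := 0) (x := (M : K)) (by simp) h2
      rw [zero_add] at h1' h2'
      have h3 := sub_mem h1' h2'
      have hlt : j ^ k < j ^ n := Nat.pow_lt_pow_right (by omega) (by omega)
      refine ⟨N * M * (j ^ n - j ^ k), Nat.one_le_iff_ne_zero.mpr (Nat.mul_ne_zero (Nat.mul_ne_zero (by omega) (by omega)) (by omega)), ?_⟩
      have heq : ((N * M * (j ^ n - j ^ k) : ℕ) : K) * x =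
          (N : K) * ((M : K) * adams P j x - (j : K) ^ k * ((M : K) * x)) -
            (M : K) * ((N : K) * (adams P j x - (j : K) ^ n * x)) := by
        rw [Nat.cast_mul, Nat.cast_mul, Nat.cast_sub hlt.le, Nat.cast_pow, Nat.cast_pow]; ring
      rw [heq]; exact h3
  exact key n le_rfl

end Groth.LambdaCore
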