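import Groth.Agent.LambdaCore.Split
import Groth.Prelude.Def_KGr
import Mathlib.RingTheory.MvPolynomial.Symmetric.Defs

/-!
# Logarithmic derivatives and the Chern character polynomial
-/

set_option autoImplicit false
universe u v

open PowerSeries

namespace Groth.LambdaCore

variable {R : Type u} [CommRing R]

/-- `t A'/A`. -/
noncomputable def logDer (A : PowerSeries R) : PowerSeries R :=
  PowerSeries.X * PowerSeries.derivative R A * A.invOfUnit 1

theorem mul_invOfUnit' {A : PowerSeries R} (h : constantCoeff A = 1) : A * A.invOfUnit 1 = 1 :=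
  PowerSeries.mul_invOfUnit A 1 (by simpa using h)

theorem isUnit_of_constantCoeff {A : PowerSeries R} (h : constantCoeff A = 1) : IsUnit A :=
  IsUnit.of_mul_eq_one _ (mul_invOfUnit' h)

theorem logDer_mul_self {A : PowerSeries R} (h : constantCoeff A = 1) :
    logDer A * A = PowerSeries.X * PowerSeries.derivative R A := by
  have := mul_invOfUnit' h
  rw [logDer]
  linear_combination (PowerSeries.X * PowerSeries.derivative R A) * this

theorem eq_logDer {A B : PowerSeries R} (h : constantCoeff A = 1)
    (hB : B * A = PowerSeries.X * PowerSeries.derivative R A) : B = logDer A :=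
  (isUnit_of_constantCoeff h).mul_right_cancel (hB.trans (logDer_mul_self h).symm)

theorem logDer_one : logDer (1 : PowerSeries R) = 0 := by simp [logDer]

theorem logDer_mul {A B : PowerSeries R} (hA : constantCoeff A = 1) (hB : constantCoeff B = 1) :
    logDer (A * B) = logDer A + logDer B := by
  refine (eq_logDer (by simp [hA, hB]) ?_).symm
  rw [Derivation.leibniz, smul_eq_mul, smul_eq_mul]
  linear_combination B * logDer_mul_self hA + A * logDer_mul_self hB

theorem logDer_prod {ι : Type v} (s : Finset ι) (A : ι → PowerSeries R)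
    (hA : ∀ i ∈ s, constantCoeff (A i) = 1) :
    logDer (∏ i ∈ s, A i) = ∑ i ∈ s, logDer (A i) := by
  classical
  induction s using Finset.induction_on with
  | empty => simp [logDer_one]
  | insert a s ha ih =>
    have h' : ∀ i ∈ s, constantCoeff (A i) = 1 := fun i hi => hA i (Finset.mem_insert_of_mem hi)
    rw [Finset.prod_insert ha, Finset.sum_insert ha, logDer_mul (hA a (Finset.mem_insert_self a s))
      (by rw [map_prod]; exact Finset.prod_eq_one h'), ih h']

theorem map_derivative {S : Type v} [CommRing S] (f : R →+* S) (A : PowerSeries R) :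
    PowerSeries.map f (PowerSeries.derivative R A) = PowerSeries.derivative S (PowerSeries.map f A) := by
  ext i; simp [PowerSeries.coeff_derivative]

theorem map_logDer {S : Type v} [CommRing S] (f : R →+* S) {A : PowerSeries R}
    (h : constantCoeff A = 1) :
    PowerSeries.map f (logDer A) = logDer (PowerSeries.map f A) := by
  refine eq_logDer (by rw [← coeff_zero_eq_constantCoeff_apply, PowerSeries.coeff_map,
    coeff_zero_eq_constantCoeff_apply, h, map_one]) ?_
  rw [← map_mul, logDer_mul_self h, map_mul, map_derivative, PowerSeries.map_X]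

theorem coeff_logDer_linear (w : R) (k : ℕ) (hk : 1 ≤ k) :
    coeff k (logDer (1 + PowerSeries.C w * PowerSeries.X)) = (-1) ^ (k + 1) * w ^ k := by
  have h : PowerSeries.mk (fun j => if j = 0 then 0 else (-1 : R) ^ (j + 1) * w ^ j) =
      logDer (1 + PowerSeries.C w * PowerSeries.X) := by
    refine eq_logDer (by simp) ?_
    have hd : PowerSeries.derivative R (1 + PowerSeries.C w * PowerSeries.X) = PowerSeries.C w := by
      simp
    rw [hd]
    ext j
    rw [mul_add, mul_one, ← mul_assoc, map_add]
    match j with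
    | 0 => simp
    | 1 => simp
    | j + 2 => simp [PowerSeries.coeff_X]; ring
  rw [← h, PowerSeries.coeff_mk, if_neg (by omega)]

theorem coeff_logDer_prod_linear {ι : Type v} (s : Finset ι) (w : ι → R) (k : ℕ) (hk : 1 ≤ k) :
    coeff k (logDer (∏ i ∈ s, (1 + PowerSeries.C (w i) * PowerSeries.X))) =
      (-1) ^ (k + 1) * ∑ i ∈ s, w i ^ k := by
  rw [logDer_prod _ _ (fun i _ => by simp), map_sum, Finset.mul_sum]
  exact Finset.sum_congr rfl fun i _ => coeff_logDer_linear (w i) k hk

/-- The series `1 + a₀ t + a₁ t² + ⋯`. -/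
noncomputable def serOf {d : ℕ} (a : Fin d → R) : PowerSeries R :=
  PowerSeries.mk fun i => if i = 0 then 1 else if h : i - 1 < d then a ⟨i - 1, h⟩ else 0

theorem constantCoeff_serOf {d : ℕ} (a : Fin d → R) : constantCoeff (serOf a) = 1 := by
  rw [← coeff_zero_eq_constantCoeff_apply, serOf, PowerSeries.coeff_mk, if_pos rfl]

theorem map_serOf {S : Type v} [CommRing S] (f : R →+* S) {d : ℕ} (a : Fin d → R) :
    PowerSeries.map f (serOf a) = serOf (fun i => f (a i)) := by
  ext i
  simp only [serOf, PowerSeries.coeff_map, PowerSeries.coeff_mk]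
  split_ifs <;> simp

theorem serOf_esymm {d : ℕ} :
    serOf (fun i : Fin d => MvPolynomial.esymm (Fin d) ℚ ((i : ℕ) + 1)) =
      ∏ i : Fin d, (1 + PowerSeries.C (MvPolynomial.X i : MvPolynomial (Fin d) ℚ) * PowerSeries.X) := by
  ext1 i
  rw [coeff_prod_one_add_C_mul_X_series, ← MvPolynomial.esymm_eq_multiset_esymm, serOf,
    PowerSeries.coeff_mk]
  split_ifs with h h'
  · subst h; rw [MvPolynomial.esymm_zero]
  · simp only
    rw [show i - 1 + 1 = i by omega]
  · rw [MvPolynomial.esymm, Finset.powersetCard_eq_empty.2 (by simp; omega), Finset.sum_empty]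

theorem aeval_expTrunc {A : Type*} [CommRing A] [Algebra ℚ A] (d : ℕ) (x : A) :
    Polynomial.aeval x (KGr.expTrunc d) =
      1 + ∑ k ∈ Finset.Icc 1 d, algebraMap ℚ A (1 / (k.factorial : ℚ)) * x ^ k := by
  rw [KGr.expTrunc, map_sum, Finset.range_eq_Ico, ← Finset.sum_Ico_add' _ 0 (d + 1) 0,
    Finset.sum_eq_sum_Ico_succ_bot (Nat.succ_pos d)]
  simp [Finset.Ico_add_one_right_eq_Icc]

/-- The Chern character polynomial through the logarithmic derivative. -/
theorem aeval_chPoly {A : Type v} [CommRing A] [Algebra ℚ A] (d : ℕ) (a : Fin d → A) :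
    MvPolynomial.aeval a (KGr.chPoly d) = (d : A) +
      ∑ k ∈ Finset.Icc 1 d, algebraMap ℚ A ((-1) ^ (k + 1) / (k.factorial : ℚ)) *
        coeff k (logDer (serOf a)) := by
  have huniv : KGr.chPoly d = (d : MvPolynomial (Fin d) ℚ) +
      ∑ k ∈ Finset.Icc 1 d, MvPolynomial.C ((-1) ^ (k + 1) / (k.factorial : ℚ)) *
        coeff k (logDer (serOf (fun i : Fin d => (MvPolynomial.X i : MvPolynomial (Fin d) ℚ)))) := by
    refine (MvPolynomial.esymmAlgEquiv (Fin d) ℚ (Fintype.card_fin d)).injective (Subtype.ext ?_)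
    rw [KGr.chPoly, AlgEquiv.apply_symm_apply]
    let Φ : MvPolynomial (Fin d) ℚ →ₐ[ℚ] MvPolynomial (Fin d) ℚ :=
      MvPolynomial.aeval fun i : Fin d => MvPolynomial.esymm (Fin d) ℚ ((i : ℕ) + 1)
    rw [MvPolynomial.esymmAlgEquiv_apply, MvPolynomial.esymmAlgHom_apply]
    change _ = Φ _
    simp only [map_add, map_natCast, map_sum, map_mul, MvPolynomial.algHom_C]
    have hk : ∀ k, Φ (coeff k (logDer (serOf (fun i : Fin d =>
        (MvPolynomial.X i : MvPolynomial (Fin d) ℚ))))) =
        coeff k (logDer (∏ i : Fin d,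
          (1 + PowerSeries.C (MvPolynomial.X i : MvPolynomial (Fin d) ℚ) * PowerSeries.X))) := by
      intro k
      rw [← serOf_esymm]
      change Φ.toRingHom _ = _
      rw [← PowerSeries.coeff_map, map_logDer _ (constantCoeff_serOf _), map_serOf]
      simp [Φ]
    change ∑ i : Fin d, Polynomial.aeval (MvPolynomial.X i) (KGr.expTrunc d) = _
    simp only [aeval_expTrunc, Finset.sum_add_distrib, Finset.sum_const, Finset.card_univ,
      Fintype.card_fin, nsmul_one]
    rw [Finset.sum_comm]
    congr 1
    refine Finset.sum_congr rfl fun k hk' => ?_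
    rw [hk k, coeff_logDer_prod_linear _ _ k (Finset.mem_Icc.1 hk').1]
    rw [← mul_assoc, show ((-1 : MvPolynomial (Fin d) ℚ)) ^ (k + 1) =
      MvPolynomial.C ((-1) ^ (k + 1)) by simp, MvPolynomial.algebraMap_eq, ← map_mul, Finset.mul_sum]
    refine Finset.sum_congr rfl fun i _ => ?_
    congr 2
    have h1 : ((-1 : ℚ) ^ (k + 1)) * (-1) ^ (k + 1) = 1 := by rw [← mul_pow]; simp
    rw [div_mul_eq_mul_div, h1]
  rw [huniv, map_add, map_natCast, map_sum]
  congr 1
  refine Finset.sum_congr rfl fun k _ => ?_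
  rw [map_mul, MvPolynomial.aeval_C]
  congr 1
  change (MvPolynomial.aeval a).toRingHom _ = _
  rw [← PowerSeries.coeff_map, map_logDer _ (constantCoeff_serOf _), map_serOf]
  simp

theorem aeval_chPoly_map {A : Type v} [CommRing A] [Algebra ℚ A] {S : Type u} [CommRing S] (ι : S →+* A)
    {G : PowerSeries S} (hG : constantCoeff G = 1) (d : ℕ) (a : Fin d → A)
    (h : serOf a = PowerSeries.map ι G) (q : ℚ) :
    algebraMap ℚ A (q - d) + MvPolynomial.aeval a (KGr.chPoly d) = algebraMap ℚ A q +
      ∑ k ∈ Finset.Icc 1 d, algebraMap ℚ A ((-1) ^ (k + 1) / (k.factorial : ℚ)) *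
        ι (coeff k (logDer G)) := by
  rw [aeval_chPoly, h, ← map_logDer ι hG, map_sub, map_natCast, ← add_assoc, sub_add_cancel]
  simp only [PowerSeries.coeff_map]

end Groth.LambdaCore
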