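import Groth.Agent.LambdaCore.Gr
import Groth.Agent.LambdaCore.LogDeriv
import Groth.Agent.LambdaCore.Congruence
import Mathlib.RingTheory.PowerSeries.Exp

/-!
# The Chern character is the eigen decomposition of the Adams operations
-/

set_option autoImplicit false
universe v u

open Finset LambdaRing TensorProduct

namespace Groth.LambdaCore

open Polynomial in
/-- Evaluating a polynomial at intertwined endomorphisms. -/
theorem aeval_intertwine {A B : Type*} [AddCommGroup A] [AddCommGroup B] (g : A →+ B)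
    (α : Module.End ℤ A) (β : Module.End ℤ B) (h : ∀ a, g (α a) = β (g a)) (p : ℤ[X]) (a : A) :
    g (aeval α p a) = aeval β p (g a) := by
  induction p using Polynomial.induction_on' generalizing a with
  | add p q hp hq => simp [hp, hq]
  | monomial n c =>
    have : ∀ a, g ((α ^ n) a) = (β ^ n) (g a) := by
      induction n with
      | zero => simp
      | succ n ih => intro a; rw [pow_succ, pow_succ, Module.End.mul_apply, Module.End.mul_apply, ih, h]
    simp [aeval_monomial, Module.End.mul_apply, this]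

section Universal

open Polynomial

/-- The eigenvalue polynomial. -/
noncomputable def allPoly (n : ℕ) : ℤ[X] := ∏ l ∈ Finset.range n, (X - C ((2 : ℤ) ^ l))

/-- The polynomial cutting out the `k`th eigenspace, `k ≤ d`. -/
noncomputable def eigPoly (d k : ℕ) : ℤ[X] :=
  ∏ l ∈ (Finset.range (d + 1)).erase k, (X - C ((2 : ℤ) ^ l))

/-- Its value at `2 ^ k`. -/
noncomputable def eigVal (d k : ℕ) : ℤ := (eigPoly d k).eval ((2 : ℤ) ^ k)

theorem eigVal_ne_zero (d k : ℕ) : eigVal d k ≠ 0 := by
  rw [eigVal, eigPoly, eval_prod, Finset.prod_ne_zero_iff]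
  intro l hl
  rw [eval_sub, eval_X, eval_C, sub_ne_zero]
  intro h
  exact (Finset.mem_erase.1 hl).1 (Nat.pow_right_injective le_rfl (by exact_mod_cast h.symm))

theorem eval_eigPoly {d k l : ℕ} (hl : l ≤ d) (h : l ≠ k) : (eigPoly d k).eval ((2 : ℤ) ^ l) = 0 := by
  rw [eigPoly, eval_prod]
  exact Finset.prod_eq_zero (Finset.mem_erase.2 ⟨h, Finset.mem_range.2 (by omega)⟩) (by simp)

theorem sub_mul_eigPoly {d k : ℕ} (hk : k ≤ d) :
    (X - C ((2 : ℤ) ^ k)) * eigPoly d k = allPoly (d + 1) :=
  Finset.mul_prod_erase _ (fun l => X - C ((2 : ℤ) ^ l)) (Finset.mem_range.2 (by omega))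

/-- The Lagrange identity, with denominators cleared. -/
theorem sum_eigPoly (d : ℕ) :
    ∑ k ∈ Finset.range (d + 1),
      C (∏ l ∈ (Finset.range (d + 1)).erase k, eigVal d l) * eigPoly d k =
      C (∏ l ∈ Finset.range (d + 1), eigVal d l) := by
  rw [← sub_eq_zero]
  refine eq_zero_of_natDegree_lt_card_of_eval_eq_zero _
    (f := fun l : Fin (d + 1) => (2 : ℤ) ^ (l : ℕ)) (fun a b h => Fin.ext
      (Nat.pow_right_injective le_rfl (Nat.cast_injective (R := ℤ) (by push_cast; exact h)))) (fun l => ?_) ?_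
  · rw [eval_sub, eval_C, eval_finsetSum, Finset.sum_eq_single (l : ℕ), eval_mul, eval_C]
    · change _ * eigVal d l - _ = 0
      rw [Finset.prod_erase_mul _ (fun i => eigVal d i) (Finset.mem_range.2 l.2), sub_self]
    · intro b _ hb
      rw [eval_mul, eval_eigPoly (by omega) (Ne.symm hb), mul_zero]
    · intro h; exact absurd (Finset.mem_range.2 l.2) h
  · rw [Fintype.card_fin, Nat.lt_succ_iff]
    refine (natDegree_sub_le _ _).trans (max_le ?_ ((natDegree_C _).le.trans (Nat.zero_le _)))
    refine natDegree_sum_le_of_forall_le _ _ fun k hk => (natDegree_C_mul_le _ _).trans ?_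
    refine (natDegree_prod_le _ _).trans ?_
    refine (Finset.sum_le_card_nsmul _ _ 1 fun l _ => natDegree_X_sub_C_le _).trans ?_
    rw [Finset.card_erase_of_mem hk]
    simp

/-- Substitution of `X²` for `X`. -/
noncomputable def sqEnd : Module.End ℤ ℤ[X] := (expand ℤ 2).toLinearMap

/-- The `k`th eigencomponent of a universal line element. -/
noncomputable def eigLine (d k : ℕ) : ℤ[X] := aeval sqEnd (eigPoly d k) X

/-- The error of the leading term, in the variable `x = u - 1`. -/
noncomputable def eigErr (d k : ℕ) : ℤ[X] :=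
  C (k.factorial : ℤ) * (eigLine d k).comp (1 + X) - C (eigVal d k) * X ^ k

open PowerSeries in
theorem coeff_eigErr {d k : ℕ} (hk : k ≤ d) {j : ℕ} (hj : j ≤ k) : (eigErr d k).coeff j = 0 := by
  let e : PowerSeries ℚ := PowerSeries.exp ℚ
  let E : PowerSeries ℚ := e - 1
  let r : Module.End ℤ (PowerSeries ℚ) := (PowerSeries.rescale (2 : ℚ)).toAddMonoidHom.toIntLinearMap
  let ev : ℤ[X] →+* PowerSeries ℚ := (Polynomial.aeval e).toRingHom
  have hsq : ∀ p, ev (sqEnd p) = r (ev p) := by
    intro p
    have h : ev.comp (expand ℤ 2).toRingHom = (PowerSeries.rescale (2 : ℚ)).comp ev := by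
      refine Polynomial.ringHom_ext (fun a => by simp) ?_
      change Polynomial.aeval e (expand ℤ 2 Polynomial.X) =
        PowerSeries.rescale (2 : ℚ) (Polynomial.aeval e Polynomial.X)
      rw [expand_X, map_pow, Polynomial.aeval_X, sq]
      ext n
      rw [show e * e = PowerSeries.exp ℚ * PowerSeries.exp ℚ from rfl]
      have := PowerSeries.exp_mul_exp_eq_exp_add (A := ℚ) 1 1
      rw [PowerSeries.rescale_one, RingHom.id_apply] at this
      rw [this, one_add_one_eq_two]
    exact congr($h p)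
  have hline : ∀ n, PowerSeries.coeff n (ev (eigLine d k)) =
      (((eigPoly d k).eval ((2 : ℤ) ^ n) : ℤ) : ℚ) * (1 / n.factorial) := by
    intro n
    have h1 : ev (eigLine d k) = Polynomial.aeval r (eigPoly d k) e := by
      change ev.toAddMonoidHom _ = _
      rw [eigLine, aeval_intertwine ev.toAddMonoidHom sqEnd r hsq]
      simp [ev]
    rw [h1]
    let β : Module.End ℤ ℚ := (AddMonoidHom.mulLeft ((2 : ℚ) ^ n)).toIntLinearMap
    refine (aeval_intertwine (PowerSeries.coeff n).toAddMonoidHom r β (fun a => by simp [r, β])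
      (eigPoly d k) e).trans ?_
    have hβ : ∀ (p : ℤ[X]) (q : ℚ), Polynomial.aeval β p q = ((p.eval ((2 : ℤ) ^ n) : ℤ) : ℚ) * q := by
      intro p
      induction p using Polynomial.induction_on' with
      | add p q hp hq => intro x; simp [hp, hq, add_mul]
      | monomial m c =>
        intro x
        have : ∀ x, (β ^ m) x = ((2 : ℚ) ^ n) ^ m * x := by
          induction m with
          | zero => simp
          | succ m ih => intro x; rw [pow_succ, Module.End.mul_apply, ih]; simp [β, pow_succ]; ring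
        simp [aeval_monomial, Module.End.mul_apply, this]
        ring
    rw [hβ]
    simp [e]
  have hE0 : PowerSeries.constantCoeff E = 0 := by simp [E, e]
  obtain ⟨U, hU⟩ := PowerSeries.X_dvd_iff.2 hE0
  have hU0 : PowerSeries.constantCoeff U = 1 := by
    have h := congrArg (PowerSeries.coeff 1) hU
    rw [PowerSeries.coeff_succ_X_mul, PowerSeries.coeff_zero_eq_constantCoeff_apply] at h
    simpa [E, e, PowerSeries.coeff_one] using h.symm
  have hErr : ∀ n, n ≤ k → PowerSeries.coeff n (Polynomial.aeval E (eigErr d k)) = 0 := by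
    intro n hn
    have h1 : Polynomial.aeval E (eigErr d k) =
        PowerSeries.C (k.factorial : ℚ) * ev (eigLine d k) -
          PowerSeries.C ((eigVal d k : ℤ) : ℚ) * (PowerSeries.X ^ k * U ^ k) := by
      rw [eigErr, map_sub, map_mul, map_mul, map_pow, Polynomial.aeval_X, Polynomial.aeval_comp, hU,
        mul_pow]
      simp [ev, ← hU, E]
    rw [h1, map_sub, PowerSeries.coeff_C_mul, PowerSeries.coeff_C_mul, hline,
      PowerSeries.coeff_X_pow_mul']
    rcases eq_or_lt_of_le hn with rfl | hlt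
    · rw [if_pos le_rfl, Nat.sub_self, PowerSeries.coeff_zero_eq_constantCoeff_apply, map_pow, hU0,
        one_pow, mul_one, eigVal]
      have : (n.factorial : ℚ) ≠ 0 := by positivity
      field_simp
      ring
    · rw [if_neg (by omega), eval_eigPoly (by omega) hlt.ne, Int.cast_zero]
      ring
  by_contra hne
  have hr : eigErr d k ≠ 0 := fun h => hne (by rw [h, Polynomial.coeff_zero])
  set t := (eigErr d k).natTrailingDegree with ht
  have hle : t ≤ j := natTrailingDegree_le_of_ne_zero hne
  obtain ⟨q, hq⟩ : (Polynomial.X : ℤ[X]) ^ t ∣ eigErr d k :=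
    Polynomial.X_pow_dvd_iff.2 fun i hi => coeff_eq_zero_of_lt_natTrailingDegree hi
  have hq0 : q.coeff 0 ≠ 0 := by
    have := (trailingCoeff_nonzero_iff_nonzero (p := eigErr d k)).2 hr
    rw [trailingCoeff, ← ht, hq] at this
    simpa [Polynomial.coeff_X_pow_mul'] using this
  have h0 := hErr t (hle.trans hj)
  rw [hq, map_mul, map_pow, Polynomial.aeval_X, hU, mul_pow, mul_assoc,
    PowerSeries.coeff_X_pow_mul', if_pos le_rfl, Nat.sub_self,
    PowerSeries.coeff_zero_eq_constantCoeff_apply, map_mul, map_pow, hU0, one_pow, one_mul] at h0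
  have h2 : PowerSeries.constantCoeff (Polynomial.aeval (PowerSeries.X * U) q) = (q.coeff 0 : ℚ) := by
    rw [Polynomial.aeval_def, Polynomial.hom_eval₂]
    simp [Polynomial.eval₂_at_zero]
  rw [h2, Int.cast_eq_zero] at h0
  exact hq0 h0

end Universal

variable {K : Type v} [CommRing K] [LambdaOps K] (P : PosStructure K)

/-- The second Adams operation as an endomorphism. -/
noncomputable def psiTwo : Module.End ℤ K := (adamsAdd P 2).toIntLinearMap

/-- The `k`th eigencomponent, scaled. -/
noncomputable def eigComp (d k : ℕ) : Module.End ℤ K := Polynomial.aeval (psiTwo P) (eigPoly d k)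

variable {P} (hK : HasSplitting K P)

include hK

theorem aeval_psiTwo_mem (p : Polynomial ℤ) {n : ℕ} {x : K} (hx : x ∈ gammaFiltration P n) :
    Polynomial.aeval (psiTwo P) p x ∈ gammaFiltration P n ∧
      Polynomial.aeval (psiTwo P) p x - p.eval ((2 : ℤ) ^ n) • x ∈ gammaFiltration P (n + 1) := by
  induction p using Polynomial.induction_on' with
  | add p q hp hq =>
    refine ⟨by simpa using add_mem hp.1 hq.1, ?_⟩
    convert add_mem hp.2 hq.2 using 1
    simp [add_smul]
    abel
  | monomial m c =>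
    have key : (psiTwo P ^ m) x ∈ gammaFiltration P n ∧
        (psiTwo P ^ m) x - (((2 : ℤ) ^ n) ^ m) • x ∈ gammaFiltration P (n + 1) := by
      induction m with
      | zero => simpa using hx
      | succ m ih =>
        rw [pow_succ', Module.End.mul_apply]
        change adams P 2 _ ∈ _ ∧ adams P 2 _ - _ ∈ _
        refine ⟨adams_mem_gammaFiltration hK 2 ih.1, ?_⟩
        have h1 := adams_sub_pow_mul_mem hK 2 ih.1
        have h2 := (gammaFiltration P (n + 1)).zsmul_mem ih.2 ((2 : ℤ) ^ n)
        convert add_mem h1 h2 using 1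
        simp only [zsmul_eq_mul, pow_succ]
        push_cast
        ring
    simp only [Polynomial.aeval_monomial, Module.End.mul_apply, Module.algebraMap_end_apply,
      Polynomial.eval_monomial]
    refine ⟨(gammaFiltration P n).zsmul_mem key.1 c, ?_⟩
    rw [mul_smul, ← smul_sub]
    exact (gammaFiltration P (n + 1)).zsmul_mem key.2 c

theorem allPoly_mem (n : ℕ) (x : K) :
    Polynomial.aeval (psiTwo P) (allPoly n) x ∈ gammaFiltration P n := by
  induction n with
  | zero => simp
  | succ n ih =>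
    rw [allPoly, Finset.prod_range_succ, mul_comm, map_mul, Module.End.mul_apply]
    have := (aeval_psiTwo_mem hK (Polynomial.X - Polynomial.C ((2 : ℤ) ^ n)) ih).2
    simpa [allPoly] using this

theorem eigComp_mem {d k : ℕ} (hk : k ≤ d + 1) (x : K) :
    eigComp P d k x ∈ gammaFiltration P k := by
  have h : eigPoly d k = (∏ l ∈ ((Finset.range (d + 1)).erase k) \ Finset.range k,
      (Polynomial.X - Polynomial.C ((2 : ℤ) ^ l))) * allPoly k :=
    (Finset.prod_sdiff fun l hl => by simp at hl ⊢; omega).symm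
  rw [eigComp, h, map_mul, Module.End.mul_apply]
  exact (aeval_psiTwo_mem hK _ (allPoly_mem hK k x)).1

variable {d : ℕ} (hd : gammaFiltration P (d + 1) = ⊥)

include hd

theorem allPoly_eq_zero (x : K) : Polynomial.aeval (psiTwo P) (allPoly (d + 1)) x = 0 := by
  have := allPoly_mem hK (d + 1) x
  rwa [hd, AddSubgroup.mem_bot] at this

theorem adams_eigComp {k : ℕ} (hk : k ≤ d) (x : K) :
    adams P 2 (eigComp P d k x) = (2 : K) ^ k * eigComp P d k x := by
  have h := allPoly_eq_zero hK hd x
  rw [← sub_mul_eigPoly hk, map_mul, Module.End.mul_apply, map_sub, Polynomial.aeval_X,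
    Polynomial.aeval_C, LinearMap.sub_apply, Module.algebraMap_end_apply, sub_eq_zero,
    zsmul_eq_mul] at h
  rw [Int.cast_pow, Int.cast_ofNat] at h
  exact h

/-- An eigenvector which is torsion one step further in the filtration is torsion. -/
theorem exists_smul_eq_zero_of_eigen {k : ℕ} {z : K} (hz : adams P 2 z = (2 : K) ^ k * z)
    (h : ∃ M : ℤ, M ≠ 0 ∧ M • z ∈ gammaFiltration P (k + 1)) : ∃ M : ℤ, M ≠ 0 ∧ M • z = 0 := by
  have key : ∀ m, k + 1 ≤ m → ∃ M : ℤ, M ≠ 0 ∧ M • z ∈ gammaFiltration P m := by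
    intro m hm
    induction m, hm using Nat.le_induction with
    | base => exact h
    | succ m hm ih =>
      obtain ⟨M, hM, hMz⟩ := ih
      refine ⟨((2 : ℤ) ^ k - 2 ^ m) * M, mul_ne_zero (sub_ne_zero.2 fun e => ?_) hM, ?_⟩
      · have := Nat.pow_right_injective (le_refl 2) (show (2 : ℕ) ^ k = 2 ^ m by exact_mod_cast e)
        omega
      · have h1 := adams_sub_pow_mul_mem hK 2 hMz
        convert h1 using 1
        rw [← adamsAdd_apply, map_zsmul, adamsAdd_apply, hz]
        simp only [zsmul_eq_mul]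
        push_cast
        ring
  obtain ⟨M, hM, hMz⟩ := key (max (d + 1) (k + 1)) (le_max_right _ _)
  have := gammaFiltration_antitone (le_max_left (d + 1) (k + 1)) hMz
  rw [hd, AddSubgroup.mem_bot] at this
  exact ⟨M, hM, this⟩

omit hd in
variable (d) in
/-- The class of the `k`th eigencomponent. -/
noncomputable def grComp (k : ℕ) (hk : k ≤ d) : K →+ KGr.Gr P :=
  AddMonoidHom.mk' (fun x => (1 / (eigVal d k : ℚ)) ⊗ₜ[ℤ]
    grZ P k ⟨eigComp P d k x, eigComp_mem hK (by omega) x⟩) fun a b => by
      rw [← TensorProduct.tmul_add, ← map_add]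
      congr 2
      exact Subtype.ext (map_add _ _ _)

omit hd in
variable (d) in
/-- The total eigen decomposition class. -/
noncomputable def eigCh : K →+ KGr.Gr P :=
  ∑ k : Fin (d + 1), grComp hK d k (by omega)

omit hd hK in
theorem gammaSeries_mem {x : K} (hx : P.aug x = 0) : gammaSeries x ∈ gradedSub P := fun i => by
  rw [coeff_gammaSeries]; exact gamma_mem_gammaFiltration hx i

omit hd hK in
theorem logDer_gammaSeries_mem {x : K} (hx : P.aug x = 0) :
    logDer (gammaSeries x) ∈ gradedSub P := by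
  refine Subring.mul_mem _ (fun i => ?_) fun i => ?_
  · cases i with
    | zero => simp
    | succ i =>
      rw [PowerSeries.coeff_succ_X_mul, PowerSeries.coeff_derivative, coeff_gammaSeries]
      have := mul_mem_gammaFiltration' (a := i + 1) (b := 0) (gamma_mem_gammaFiltration hx (i + 1))
        (show ((i : K) + 1) ∈ gammaFiltration P 0 by simp)
      simpa using this
  · exact (GradedSeries.of_mul_eq_one (isGraded_gammaFiltration P)
      ⟨constantCoeff_gammaSeries x, gammaSeries_mem hx⟩
      (mul_invOfUnit' (constantCoeff_gammaSeries x))).2 i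

omit hd hK in
/-- The Newton class of degree `k`. -/
noncomputable def newton (k : ℕ) : K →+ K :=
  AddMonoidHom.mk' (fun x => PowerSeries.coeff k (logDer (gammaSeries (x - (P.aug x : K)))))
    fun a b => by
      rw [map_add, Int.cast_add, add_sub_add_comm, gammaSeries_add,
        logDer_mul (constantCoeff_gammaSeries _) (constantCoeff_gammaSeries _), map_add]

omit hd hK in
theorem newton_mem (k : ℕ) (x : K) : newton (P := P) k x ∈ gammaFiltration P k :=
  logDer_gammaSeries_mem (by simp) k

omit hK in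
theorem chK_eq_newton (x : K) :
    KGr.chK P d x = algebraMap ℚ (KGr.Gr P) (P.aug x : ℚ) +
      ∑ k ∈ Finset.Icc 1 d, algebraMap ℚ (KGr.Gr P) ((-1) ^ (k + 1) / (k.factorial : ℚ)) *
        ((1 : ℚ) ⊗ₜ[ℤ] grZ P k ⟨newton k x, newton_mem k x⟩) := by
  have hx : P.aug (x - (P.aug x : K)) = 0 := by simp
  let g : gradedSub P := ⟨_, gammaSeries_mem (P := P) hx⟩
  let ι : KGr.GrZ P →+* KGr.Gr P := Algebra.TensorProduct.includeRight.toRingHom
  have hc : PowerSeries.constantCoeff (grSeries P g) = 1 := by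
    rw [← PowerSeries.coeff_zero_eq_constantCoeff_apply, coeff_grSeries, ← grZ_one]
    exact congrArg (grZ P 0) (Subtype.ext (by simp [g]))
  have hser : serOf (fun i : Fin d => KGr.chern P ((i : ℕ) + 1) x) =
      PowerSeries.map ι (grSeries P g) := by
    ext n
    rw [serOf, PowerSeries.coeff_mk, PowerSeries.coeff_map]
    rcases eq_or_ne n 0 with rfl | hn
    · rw [if_pos rfl, PowerSeries.coeff_zero_eq_constantCoeff_apply, hc, map_one]
    rw [if_neg hn, coeff_grSeries]
    change _ = (1 : ℚ) ⊗ₜ[ℤ] _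
    split_ifs with h
    · obtain ⟨m, rfl⟩ := Nat.exists_eq_succ_of_ne_zero hn
      simp only [Nat.succ_sub_one, KGr.chern]
      rw [grK_eq (gamma_mem_gammaFiltration hx _)]
      refine congrArg _ (congrArg (grZ P _) (Subtype.ext ?_))
      simp [g]
    · have : PowerSeries.coeff n g.1 ∈ gammaFiltration P (d + 1) :=
        gammaFiltration_antitone (by omega) (g.2 n)
      rw [hd, AddSubgroup.mem_bot] at this
      rw [show (⟨PowerSeries.coeff n g.1, g.2 n⟩ : gammaFiltration P n) = 0 from Subtype.ext this,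
        map_zero, TensorProduct.tmul_zero]
  let L : gradedSub P := ⟨_, logDer_gammaSeries_mem (P := P) hx⟩
  let D : gradedSub P := ⟨PowerSeries.X * PowerSeries.derivative K g.1, by
    have h := Subring.mul_mem _ (logDer_gammaSeries_mem (P := P) hx) g.2
    rwa [logDer_mul_self (constantCoeff_gammaSeries _)] at h⟩
  have hL : grSeries P L = logDer (grSeries P g) := by
    refine eq_logDer hc ?_
    rw [← map_mul, show L * g = D from Subtype.ext (logDer_mul_self (constantCoeff_gammaSeries _))]
    ext n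
    cases n with
    | zero =>
      rw [coeff_grSeries]
      refine Eq.trans ?_ (PowerSeries.coeff_zero_X_mul _).symm
      exact (congrArg (grZ P 0) (Subtype.ext (by simp [D]) : _ = (0 : gammaFiltration P 0))).trans
        (map_zero _)
    | succ n =>
      rw [coeff_grSeries]
      refine Eq.trans ?_ (PowerSeries.coeff_succ_X_mul _ _).symm
      rw [PowerSeries.coeff_derivative, coeff_grSeries, ← Nat.cast_add_one, ← nsmul_eq_mul',
        ← map_nsmul]
      exact congrArg (grZ P _) (Subtype.ext (by simp [D, g, PowerSeries.coeff_derivative]; ring))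
  have hch := aeval_chPoly_map ι hc d (fun i : Fin d => KGr.chern P ((i : ℕ) + 1) x) hser (P.aug x : ℚ)
  refine hch.trans ?_
  refine congrArg _ (Finset.sum_congr rfl fun k _ => ?_)
  rw [← hL, coeff_grSeries]
  rfl

omit hK hd in
theorem tmul_eq_of_zsmul_eq {G : Type*} [AddCommGroup G] {a b : ℤ} {u w : G} (ha : a ≠ 0)
    (h : a • u = b • w) (q : ℚ) : q ⊗ₜ[ℤ] u = (q * b / a) ⊗ₜ[ℤ] w := by
  have h1 : q = a • (q / a) := by
    rw [zsmul_eq_mul, mul_div_cancel₀]; exact_mod_cast ha
  conv_lhs => rw [h1]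
  rw [TensorProduct.smul_tmul, h, ← TensorProduct.smul_tmul, zsmul_eq_mul]
  congr 1
  ring

omit hd in
theorem eigComp_of_eigen {k l : ℕ} {z : K} (hz : adams P 2 z = (2 : K) ^ l * z) :
    eigComp P d k z = (eigPoly d k).eval ((2 : ℤ) ^ l) • z := by
  rw [eigComp]
  induction eigPoly d k using Polynomial.induction_on' with
  | add p q hp hq => simp [hp, hq, add_smul]
  | monomial m c =>
    have : (psiTwo P ^ m) z = (((2 : ℤ) ^ l) ^ m) • z := by
      induction m with
      | zero => simp
      | succ m ih =>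
        rw [pow_succ', Module.End.mul_apply, ih, map_zsmul]
        change _ • adams P 2 z = _
        rw [hz, pow_succ]
        simp only [zsmul_eq_mul]
        push_cast
        ring
    simp [Polynomial.aeval_monomial, Module.End.mul_apply, this, mul_smul]

omit hd in
theorem sum_smul_eigComp (x : K) :
    ∑ k ∈ Finset.range (d + 1),
      (∏ l ∈ (Finset.range (d + 1)).erase k, eigVal d l) • eigComp P d k x =
      (∏ l ∈ Finset.range (d + 1), eigVal d l) • x := by
  have h := congrArg (fun p => Polynomial.aeval (psiTwo P) p x) (sum_eigPoly d)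
  simp only [map_sum, map_mul, LinearMap.sum_apply, Module.End.mul_apply, Polynomial.aeval_C,
    Module.algebraMap_end_apply] at h
  exact h

theorem aug_eigComp (k : ℕ) (x : K) :
    P.aug (eigComp P d k x) = (eigPoly d k).eval 1 * P.aug x := by
  change P.aug.toAddMonoidHom _ = _
  rw [eigComp, aeval_intertwine P.aug.toAddMonoidHom (psiTwo P) (1 : Module.End ℤ ℤ)
    (fun a => aug_adams hK 2 a), ← map_one (algebraMap ℤ (Module.End ℤ ℤ)),
    Polynomial.aeval_algebraMap_apply, Module.algebraMap_end_apply, Polynomial.coe_aeval_eq_eval]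
  rfl

theorem leading_eigComp {e : K} (he : e ∈ P.pos) {k : ℕ} (hk : k ≤ d) :
    (k.factorial : ℤ) • eigComp P d k e - (eigVal d k * (-1) ^ (k + 1)) • newton (P := P) k e ∈
      gammaFiltration P (k + 1) ∨ k = 0 := by
  rcases Nat.eq_zero_or_pos k with rfl | hk0
  · exact Or.inr rfl
  refine Or.inl ?_
  set m := (P.aug e).toNat with hm
  have hm' : P.aug e = m := (aug_toNat he).symm
  let p : MvPolynomial (Fin m) ℤ := ∑ i : Fin m, Polynomial.aeval (MvPolynomial.X i) (eigErr d k)
  have hp : p.IsSymmetric := by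
    intro σ
    simp only [p, map_sum, ← Polynomial.aeval_algHom_apply, MvPolynomial.rename_X]
    exact Fintype.sum_equiv σ _ _ (fun _ => rfl)
  have hord : p ∈ MvPolynomial.idealOfVars (Fin m) ℤ ^ (k + 1) := by
    refine Ideal.sum_mem _ fun i _ => ?_
    obtain ⟨r, hr⟩ : (Polynomial.X : Polynomial ℤ) ^ (k + 1) ∣ eigErr d k :=
      Polynomial.X_pow_dvd_iff.2 fun j hj => coeff_eigErr hk (Nat.lt_succ_iff.1 hj)
    rw [hr, map_mul, map_pow, Polynomial.aeval_X]
    exact Ideal.mul_mem_right _ _ (Ideal.pow_mem_pow (show (MvPolynomial.X i : MvPolynomial (Fin m) ℤ) ∈ MvPolynomial.idealOfVars (Fin m) ℤ from Ideal.subset_span ⟨i, rfl⟩) _)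
  obtain ⟨c, hc, hcf⟩ := exists_mem_gammaFiltration_of_isSymmetric (P := P) (e := e) hm' hp hord
  obtain ⟨L, f, hf, hL, u, hu, hfe⟩ := exists_split hK he
  have hfc := hcf L.carrier L.posStr f hf.isLambdaHom u hu hfe
  suffices h : (k.factorial : ℤ) • eigComp P d k e -
      (eigVal d k * (-1) ^ (k + 1)) • newton (P := P) k e = c from h ▸ hc
  refine hf.injective ?_
  rw [hfc, map_sub, map_zsmul, map_zsmul]
  have hy : f (eigComp P d k e) = ∑ i, Polynomial.aeval (u i) (eigLine d k) := by
    change f.toAddMonoidHom _ = _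
    rw [eigComp, aeval_intertwine f.toAddMonoidHom (psiTwo P) (psiTwo L.posStr)
      (fun a => map_adams hf 2 a)]
    change Polynomial.aeval (psiTwo L.posStr) (eigPoly d k) (f e) = _
    rw [hfe, map_sum]
    refine Finset.sum_congr rfl fun i _ => ?_
    have hi : ∀ q : Polynomial ℤ, Polynomial.aeval (u i) (sqEnd q) =
        psiTwo L.posStr (Polynomial.aeval (u i) q) := by
      intro q
      have : (Polynomial.aeval (u i)).toRingHom.comp (Polynomial.expand ℤ 2).toRingHom =
          (adamsHom hL 2).comp (Polynomial.aeval (u i)).toRingHom := by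
        refine Polynomial.ringHom_ext (fun a => by simp) ?_
        simp [adams_line (hu i)]
      exact congr($this q)
    have h := aeval_intertwine (Polynomial.aeval (u i)).toAddMonoidHom sqEnd (psiTwo L.posStr) hi
      (eigPoly d k) Polynomial.X
    refine Eq.trans ?_ h.symm
    congr 1
    simp
  have hn : f (newton (P := P) k e) = (-1) ^ (k + 1) * ∑ i, (u i - 1) ^ k := by
    change f (PowerSeries.coeff k (logDer (gammaSeries (e - (P.aug e : K))))) = _
    rw [← PowerSeries.coeff_map, map_logDer f (constantCoeff_gammaSeries _),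
      map_gammaSeries hf.isLambdaHom,
      show f (e - (P.aug e : K)) = ∑ i, (u i - 1) by
        rw [map_sub, map_intCast, hfe, Finset.sum_sub_distrib]
        congr 1
        simp only [Finset.sum_const, Finset.card_univ, Fintype.card_fin, nsmul_one]
        rw [← Int.cast_natCast, aug_toNat he],
      gammaSeries_sum, Finset.prod_congr rfl (fun i _ => gammaSeries_line_sub_one (hu i)),
      coeff_logDer_prod_linear _ _ k hk0]
  rw [hy, hn, map_sum]
  simp only [zsmul_eq_mul, Finset.mul_sum, ← Finset.sum_sub_distrib]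
  refine Finset.sum_congr rfl fun i _ => ?_
  rw [← Polynomial.aeval_algHom_apply, MvPolynomial.aeval_X, eigErr]
  simp only [map_sub, map_mul, map_pow, Polynomial.aeval_X, Polynomial.aeval_comp, map_add, map_one,
    Polynomial.aeval_C, eq_intCast, map_intCast, map_natCast, Int.cast_mul, Int.cast_pow, Int.cast_neg, Int.cast_one,
    Int.cast_natCast, add_sub_cancel]
  have h1 : ((-1 : L.carrier) ^ (k + 1)) * (-1) ^ (k + 1) = 1 := by rw [← mul_pow]; simp
  linear_combination (-((eigVal d k : L.carrier) * (u i - 1) ^ k)) * h1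

/-- The Chern character as a homomorphism. -/
noncomputable def chHom : K →+ KGr.Gr P :=
  AddMonoidHom.mk' (KGr.chK P d) fun a b => by
    rw [chK_eq_newton hd, chK_eq_newton hd, chK_eq_newton hd, map_add, Int.cast_add]
    refine (congrArg₂ (· + ·) (RingHom.map_add _ _ _) ?_).trans (add_add_add_comm _ _ _ _)
    rw [← Finset.sum_add_distrib]
    refine Finset.sum_congr rfl fun k _ => ?_
    rw [← mul_add, ← TensorProduct.tmul_add, ← map_add]
    congr 2
    exact congrArg (grZ P k) (Subtype.ext (map_add _ _ _))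

theorem chK_eq_eigCh (x : K) : KGr.chK P d x = eigCh hK d x := by
  change chHom hd x = _
  obtain ⟨e, e', he, he', rfl⟩ := P.exists_sub x
  rw [map_sub, map_sub]
  suffices h : ∀ e ∈ P.pos, chHom hd e = eigCh hK d e by rw [h e he, h e' he']
  intro e he
  change KGr.chK P d e = _
  rw [chK_eq_newton hd, eigCh, AddMonoidHom.finsetSum_apply, Fin.sum_univ_succ]
  have hrange : ∀ g : ℕ → KGr.Gr P, ∑ k ∈ Finset.Icc 1 d, g k = ∑ i : Fin d, g ((i : ℕ) + 1) := by
    intro g
    rw [Fin.sum_univ_eq_sum_range (fun i => g (i + 1)), Finset.range_eq_Ico,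
      Finset.sum_Ico_add' g 0 d 1, Finset.Ico_add_one_right_eq_Icc]
  rw [hrange (fun k => algebraMap ℚ (KGr.Gr P) ((-1) ^ (k + 1) / (k.factorial : ℚ)) *
    ((1 : ℚ) ⊗ₜ[ℤ] grZ P k ⟨newton k e, newton_mem k e⟩))]
  congr 1
  · change _ = (1 / (eigVal d 0 : ℚ)) ⊗ₜ[ℤ] grZ P 0 ⟨eigComp P d 0 e, _⟩
    have hv : (eigPoly d 0).eval 1 = eigVal d 0 := by simp [eigVal]
    rw [grZ_eq_of_sub_mem (y := (eigVal d 0 * P.aug e : ℤ) • (1 : K))
      _ (by simp) (mem_gammaFiltration_one (by simp [aug_eigComp hK hd, hv]))]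
    rw [show (⟨(eigVal d 0 * P.aug e : ℤ) • (1 : K), _⟩ : gammaFiltration P 0) =
      (eigVal d 0 * P.aug e : ℤ) • ⟨1, one_mem_gammaFiltration_zero⟩ from rfl, map_zsmul, grZ_one,
      ← TensorProduct.smul_tmul, zsmul_eq_mul]
    change (P.aug e : ℚ) ⊗ₜ[ℤ] (1 : KGr.GrZ P) = _
    congr 1
    have : (eigVal d 0 : ℚ) ≠ 0 := by exact_mod_cast eigVal_ne_zero d 0
    push_cast
    field_simp
  · refine Finset.sum_congr rfl fun i _ => ?_
    have hk : (i : ℕ) + 1 ≤ d := by omega
    have h := (leading_eigComp hK hd he hk).resolve_right (Nat.succ_ne_zero _)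
    change _ = (1 / (eigVal d ((i : ℕ) + 1) : ℚ)) ⊗ₜ[ℤ] _
    rw [Algebra.TensorProduct.algebraMap_apply, Algebra.TensorProduct.tmul_mul_tmul, one_mul,
      mul_one]
    have h' : ((((i : ℕ) + 1).factorial : ℕ) : ℤ) •
        grZ P ((i : ℕ) + 1) ⟨eigComp P d ((i : ℕ) + 1) e, eigComp_mem hK (by omega) e⟩ =
        (eigVal d ((i : ℕ) + 1) * (-1) ^ ((i : ℕ) + 1 + 1)) •
          grZ P ((i : ℕ) + 1) ⟨newton ((i : ℕ) + 1) e, newton_mem _ e⟩ := by
      rw [← map_zsmul, ← map_zsmul]
      exact grZ_eq_of_sub_mem _ _ h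
    refine Eq.trans ?_ (tmul_eq_of_zsmul_eq (by exact_mod_cast Nat.factorial_ne_zero _) h' _).symm
    congr 1
    have := eigVal_ne_zero d ((i : ℕ) + 1)
    have : (eigVal d ((i : ℕ) + 1) : ℚ) ≠ 0 := by exact_mod_cast this
    push_cast
    simp
    field_simp

theorem chK_of_eigen {l : ℕ} {z : K} (hl : z ∈ gammaFiltration P l)
    (hz : adams P 2 z = (2 : K) ^ l * z) :
    KGr.chK P d z = (1 : ℚ) ⊗ₜ[ℤ] grZ P l ⟨z, hl⟩ := by
  change chHom hd z = _
  rcases Nat.lt_or_ge d l with h | h
  · have h0 : z = 0 := by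
      simpa [hd] using gammaFiltration_antitone (show d + 1 ≤ l by omega) hl
    subst h0
    rw [map_zero, show (⟨0, hl⟩ : gammaFiltration P l) = 0 from rfl, map_zero,
      TensorProduct.tmul_zero]
  change KGr.chK P d z = _
  rw [chK_eq_eigCh hK hd, eigCh, AddMonoidHom.finsetSum_apply,
    Finset.sum_eq_single (⟨l, by omega⟩ : Fin (d + 1))]
  · change (1 / (eigVal d l : ℚ)) ⊗ₜ[ℤ] _ = _
    rw [show (⟨eigComp P d l z, eigComp_mem hK (by omega) z⟩ : gammaFiltration P l) =
      eigVal d l • ⟨z, hl⟩ from Subtype.ext (eigComp_of_eigen hK hz), map_zsmul,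
      ← TensorProduct.smul_tmul, zsmul_eq_mul, mul_one_div_cancel (by exact_mod_cast eigVal_ne_zero d l)]
  · intro k _ hk
    have hne : l ≠ (k : ℕ) := fun e => hk (Fin.ext e.symm)
    change (1 / (eigVal d k : ℚ)) ⊗ₜ[ℤ] _ = 0
    rw [show (⟨eigComp P d k z, eigComp_mem hK (by omega) z⟩ : gammaFiltration P k) = 0 from
      Subtype.ext ((eigComp_of_eigen hK hz).trans (by rw [eval_eigPoly h hne, zero_smul]; rfl)), map_zero,
      TensorProduct.tmul_zero]
  · simp

theorem chK_mul (x y : K) : KGr.chK P d (x * y) = KGr.chK P d x * KGr.chK P d y := by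
  let N := ∏ l ∈ Finset.range (d + 1), eigVal d l
  have hN : (N : ℚ) ≠ 0 := by
    exact_mod_cast Finset.prod_ne_zero_iff.2 fun l _ => eigVal_ne_zero d l
  have hu : IsUnit (algebraMap ℚ (KGr.Gr P) (N * N)) :=
    (mul_ne_zero hN hN).isUnit.map _
  refine hu.mul_left_cancel ?_
  rw [map_mul, show algebraMap ℚ (KGr.Gr P) (N : ℚ) = (N : KGr.Gr P) from map_intCast _ N,
    mul_assoc, mul_assoc (N : KGr.Gr P) (N : KGr.Gr P) (_ * _),
    mul_left_comm (N : KGr.Gr P) (KGr.chK P d x), ← mul_assoc (N : KGr.Gr P) (KGr.chK P d x),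
    ← zsmul_eq_mul, ← zsmul_eq_mul, ← zsmul_eq_mul, ← zsmul_eq_mul]
  change N • N • chHom hd (x * y) = N • chHom hd x * N • chHom hd y
  rw [← map_zsmul, ← map_zsmul, ← map_zsmul, ← map_zsmul]
  have e : N • N • (x * y) = (N • x) * (N • y) := by simp only [zsmul_eq_mul]; ring
  rw [e]
  simp only [N, ← sum_smul_eigComp hK, Finset.sum_mul_sum, map_sum, map_zsmul, smul_mul_assoc,
    mul_smul_comm]
  refine Finset.sum_congr rfl fun a ha => Finset.sum_congr rfl fun b hb => ?_
  congr 2
  rw [Finset.mem_range, Nat.lt_succ_iff] at ha hb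
  change KGr.chK P d _ = KGr.chK P d _ * KGr.chK P d _
  have hxa := eigComp_mem hK (d := d) (k := a) (by omega) x
  have hyb := eigComp_mem hK (d := d) (k := b) (by omega) y
  rw [chK_of_eigen hK hd hxa (adams_eigComp hK hd ha x),
    chK_of_eigen hK hd hyb (adams_eigComp hK hd hb y),
    chK_of_eigen hK hd (mul_mem_gammaFiltration' hxa hyb) (by
      rw [adams_mul hK, adams_eigComp hK hd ha x, adams_eigComp hK hd hb y, pow_add]; ring),
    Algebra.TensorProduct.tmul_mul_tmul, one_mul, grZ_mul rfl hxa hyb]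

theorem chK_one : KGr.chK P d (1 : K) = 1 := by
  rw [chK_of_eigen hK hd (l := 0) one_mem_gammaFiltration_zero (by simp [adams_one]), grZ_one]
  rfl

/-- The Chern character is bijective after tensoring with `ℚ`. -/
theorem exists_linearMap_bijective :
    ∃ Φ : TensorProduct ℤ ℚ K →ₗ[ℚ] KGr.Gr P,
      (∀ x : K, Φ ((1 : ℚ) ⊗ₜ[ℤ] x) = KGr.chK P d x) ∧ Function.Bijective Φ := by
  let Φ := LinearMap.liftBaseChange ℚ (chHom hd).toIntLinearMap
  have hΦ : ∀ x : K, Φ ((1 : ℚ) ⊗ₜ[ℤ] x) = KGr.chK P d x := fun x => by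
    simp [Φ]
    rfl
  refine ⟨Φ, hΦ, (injective_iff_map_eq_zero Φ).2 fun t ht => ?_, ?_⟩
  · obtain ⟨⟨x, m, hm⟩, hx⟩ := IsLocalizedModule.surj (nonZeroDivisors ℤ) (TensorProduct.mk ℤ ℚ K 1) t
    have hm0 : (m : ℚ) ≠ 0 := by exact_mod_cast nonZeroDivisors.ne_zero hm
    change m • t = (1 : ℚ) ⊗ₜ[ℤ] x at hx
    suffices h : (1 : ℚ) ⊗ₜ[ℤ] x = 0 by
      rw [h, ← Int.cast_smul_eq_zsmul ℚ] at hx
      exact (smul_eq_zero.1 hx).resolve_left hm0
    have hch : KGr.chK P d x = 0 := by
      rw [← hΦ, ← hx, map_zsmul, ht, smul_zero]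
    let c : ℕ → ℤ := fun k => ∏ l ∈ (Finset.range (d + 1)).erase k, eigVal d l
    let b : ∀ k, gammaFiltration P k := fun k =>
      if hk : k ≤ d then c k • ⟨eigComp P d k x, eigComp_mem hK (by omega) x⟩ else 0
    have h1 : (1 : ℚ) ⊗ₜ[ℤ] ∑ k ∈ Finset.range (d + 1), grZ P k (b k) = 0 := by
      rw [TensorProduct.tmul_sum]
      refine Eq.trans ?_ (show (∏ l ∈ Finset.range (d + 1), eigVal d l) • chHom hd x = 0 by
        rw [show chHom hd x = 0 from hch, smul_zero])
      rw [← map_zsmul, ← sum_smul_eigComp hK, map_sum]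
      refine Finset.sum_congr rfl fun k hk => ?_
      have hk' : k ≤ d := Nat.lt_succ_iff.1 (Finset.mem_range.1 hk)
      rw [map_zsmul]
      change _ = _ • KGr.chK P d _
      rw [chK_of_eigen hK hd (eigComp_mem hK (by omega) x) (adams_eigComp hK hd hk' x),
        ← TensorProduct.tmul_smul, ← map_zsmul]
      simp only [b, dif_pos hk']
      rfl
    obtain ⟨M, hM, hM'⟩ := exists_nsmul_eq_zero h1
    rw [Finset.smul_sum, Finset.sum_congr rfl fun k _ => (map_nsmul (grZ P k) M (b k)).symm] at hM'
    have h2 : ∀ k ∈ Finset.range (d + 1), (1 : ℚ) ⊗ₜ[ℤ] eigComp P d k x = 0 := by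
      intro k hk
      have hk' : k ≤ d := Nat.lt_succ_iff.1 (Finset.mem_range.1 hk)
      have h3 := mem_succ_of_sum_grZ_eq_zero (b := fun j => M • b j) hM' hk
      have h4 : ((M : ℤ) * c k) • eigComp P d k x ∈ gammaFiltration P (k + 1) := by
        simpa [b, dif_pos hk', mul_smul] using h3
      obtain ⟨M', hM'0, hM'z⟩ := exists_smul_eq_zero_of_eigen hK hd (adams_eigComp hK hd hk' x)
        ⟨_, mul_ne_zero (by exact_mod_cast hM)
          (Finset.prod_ne_zero_iff.2 fun l _ => eigVal_ne_zero d l), h4⟩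
      have h5 : ((M' : ℚ)) • ((1 : ℚ) ⊗ₜ[ℤ] eigComp P d k x) = 0 := by
        rw [Int.cast_smul_eq_zsmul, ← TensorProduct.tmul_smul, hM'z, TensorProduct.tmul_zero]
      exact (smul_eq_zero.1 h5).resolve_left (by exact_mod_cast hM'0)
    have h6 : ((∏ l ∈ Finset.range (d + 1), eigVal d l : ℤ) : ℚ) • ((1 : ℚ) ⊗ₜ[ℤ] x) = 0 := by
      rw [Int.cast_smul_eq_zsmul, ← TensorProduct.tmul_smul, ← sum_smul_eigComp hK,
        TensorProduct.tmul_sum]
      refine Finset.sum_eq_zero fun k hk => ?_
      rw [TensorProduct.tmul_smul, h2 k hk, smul_zero]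
    exact (smul_eq_zero.1 h6).resolve_left
      (by exact_mod_cast Finset.prod_ne_zero_iff.2 fun l _ => eigVal_ne_zero d l)
  · rw [← LinearMap.range_eq_top, eq_top_iff]
    have key : ∀ (j n : ℕ), d + 1 ≤ n + j → ∀ b : gammaFiltration P n,
        (1 : ℚ) ⊗ₜ[ℤ] grZ P n b ∈ LinearMap.range Φ := by
      intro j
      induction j with
      | zero =>
        intro n hn b
        have : b = 0 := Subtype.ext (by simpa [hd] using gammaFiltration_antitone hn b.2)
        simp [this]
      | succ j ih =>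
        intro n hn b
        rcases Nat.lt_or_ge d n with h | h
        · exact ih n (by omega) b
        have hmem : KGr.chK P d b.1 ∈ LinearMap.range Φ := ⟨_, hΦ b.1⟩
        rw [chK_eq_eigCh hK hd, eigCh, AddMonoidHom.finsetSum_apply,
          ← Finset.add_sum_erase _ _ (Finset.mem_univ (⟨n, by omega⟩ : Fin (d + 1)))] at hmem
        have hn' : grComp hK d n (by omega) b.1 = (1 : ℚ) ⊗ₜ[ℤ] grZ P n b := by
          change (1 / (eigVal d n : ℚ)) ⊗ₜ[ℤ] _ = _
          rw [grZ_eq_of_sub_mem (x := eigComp P d n b.1) (y := eigVal d n • b.1) _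
            ((gammaFiltration P n).zsmul_mem b.2 _) (aeval_psiTwo_mem hK (eigPoly d n) b.2).2,
            show (⟨eigVal d n • b.1, _⟩ : gammaFiltration P n) = eigVal d n • b from rfl, map_zsmul,
            ← TensorProduct.smul_tmul, zsmul_eq_mul,
            mul_one_div_cancel (by exact_mod_cast eigVal_ne_zero d n)]
        refine hn' ▸ (Submodule.add_mem_iff_left _ ?_).1 hmem
        refine Submodule.sum_mem _ fun k hk => ?_
        have hkn : (k : ℕ) ≠ n := fun e => (Finset.mem_erase.1 hk).1 (Fin.ext e)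
        change (1 / (eigVal d k : ℚ)) ⊗ₜ[ℤ] grZ P k ⟨eigComp P d k b.1, _⟩ ∈ _
        rcases Nat.lt_or_ge (k : ℕ) n with hlt | hge
        · rw [show grZ P k ⟨eigComp P d k b.1, eigComp_mem hK (by omega) b.1⟩ = 0 from
            grZ_eq_zero (gammaFiltration_antitone hlt (aeval_psiTwo_mem hK (eigPoly d k) b.2).1),
            TensorProduct.tmul_zero]
          exact Submodule.zero_mem _
        · rw [show (1 / (eigVal d k : ℚ)) = (1 / (eigVal d k : ℚ)) • (1 : ℚ) by simp,
            ← TensorProduct.smul_tmul']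
          exact Submodule.smul_mem _ _ (ih k (by omega) _)
    intro t ht
    clear ht
    induction t using TensorProduct.induction_on with
    | zero => exact Submodule.zero_mem _
    | add a b ha hb => exact Submodule.add_mem _ ha hb
    | tmul q a =>
      rw [show q = q • (1 : ℚ) by simp, ← TensorProduct.smul_tmul']
      refine Submodule.smul_mem _ _ ?_
      have ha : a ∈ AddSubgroup.closure {a | ∃ n b, a = grZ P n b} := by
        rw [grZ_closure_eq_top]; trivial
      induction ha using AddSubgroup.closure_induction with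
      | mem a ha => obtain ⟨n, b, rfl⟩ := ha; exact key (d + 1) n (by omega) b
      | zero => rw [TensorProduct.tmul_zero]; exact Submodule.zero_mem _
      | add a b _ _ ha hb => rw [TensorProduct.tmul_add]; exact Submodule.add_mem _ ha hb
      | neg a _ ha => rw [TensorProduct.tmul_neg]; exact Submodule.neg_mem _ ha

end Groth.LambdaCore
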