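import Groth.Agent.LambdaCore.Congruence

/-!
# The determinant, and `L ≅ F^1/F^2`
-/

set_option autoImplicit false
universe u v

open Finset LambdaRing

namespace Groth.LambdaCore

variable {K : Type u} [CommRing K] [LambdaOps K] {P : PosStructure K}

/-- `det e = λ^{ε e}(e)`. -/
noncomputable def detPos (P : PosStructure K) (e : K) : K := LambdaOps.lam (P.aug e).toNat e

theorem detPos_add {e e' : K} (he : e ∈ P.pos) (he' : e' ∈ P.pos) :
    detPos P (e + e') = detPos P e * detPos P e' := by
  simp only [detPos]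
  rw [map_add, Int.toNat_add (P.aug_pos e he).le (P.aug_pos e' he').le, LambdaOps.lam_add]
  rw [Finset.sum_eq_single (P.aug e).toNat]
  · rw [Nat.add_sub_cancel_left]
  · intro i hi hne
    rcases lt_or_gt_of_ne hne with h | h
    · rw [lam_eq_zero_of_toNat_lt he' (i := (P.aug e).toNat + (P.aug e').toNat - i) (by omega), mul_zero]
    · rw [lam_eq_zero_of_toNat_lt he h, zero_mul]
  · intro h; simp at h

theorem detPos_line {w : K} (hw : P.IsLine w) : detPos P w = w := by
  simp [detPos, hw.2, LambdaOps.lam_one]

/-- The determinant of a positive element as a unit. -/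
noncomputable def detUnit (P : PosStructure K) {e : K} (he : e ∈ P.pos) : Kˣ := (P.isUnit_lam e he).unit

theorem detUnit_add {e e' : K} (he : e ∈ P.pos) (he' : e' ∈ P.pos) :
    detUnit P (P.add_mem _ _ he he') = detUnit P he * detUnit P he' :=
  Units.ext (detPos_add he he')

/-- `det` extended to all of `K`, as a homomorphism to the units. -/
noncomputable def detFun (P : PosStructure K) (x : K) : Additive Kˣ :=
  Additive.ofMul (detUnit P (P.exists_sub x).choose_spec.choose_spec.1 *
    (detUnit P (P.exists_sub x).choose_spec.choose_spec.2.1)⁻¹)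

theorem detFun_eq {x e e' : K} (he : e ∈ P.pos) (he' : e' ∈ P.pos) (h : x = e - e') :
    detFun P x = Additive.ofMul (detUnit P he * (detUnit P he')⁻¹) := by
  obtain ⟨ha, hb, hx⟩ := (P.exists_sub x).choose_spec.choose_spec
  rw [detFun]
  congr 1
  rw [mul_inv_eq_iff_eq_mul, mul_right_comm, eq_mul_inv_iff_mul_eq]
  apply Units.ext
  rw [← detUnit_add ha he', ← detUnit_add he hb]
  change detPos P _ = detPos P _
  congr 1
  linear_combination h - hx

/-- The determinant `K → Kˣ`. -/
noncomputable def detHom (P : PosStructure K) : K →+ Additive Kˣ :=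
  AddMonoidHom.mk' (detFun P) fun x y => by
    obtain ⟨a, b, ha, hb, rfl⟩ := P.exists_sub x
    obtain ⟨c, d, hc, hd, rfl⟩ := P.exists_sub y
    rw [detFun_eq (P.add_mem _ _ ha hc) (P.add_mem _ _ hb hd) (by ring), detFun_eq ha hb rfl,
      detFun_eq hc hd rfl, ← ofMul_mul, detUnit_add ha hc, detUnit_add hb hd]
    congr 1
    rw [mul_inv]
    exact mul_mul_mul_comm _ _ _ _

theorem detHom_apply_pos {e : K} (he : e ∈ P.pos) :
    detHom P e = Additive.ofMul (detUnit P he) := by
  change detFun P e = _
  rw [detFun_eq (P.add_mem _ _ he one_mem_pos) one_mem_pos (by ring), detUnit_add he one_mem_pos,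
    mul_inv_cancel_right]

theorem detHom_line {w : K} (hw : P.IsLine w) : ((detHom P w).toMul : K) = w := by
  rw [detHom_apply_pos hw.1]; exact detPos_line hw

theorem detHom_natCast (n : ℕ) : detHom P (n : K) = 0 := by
  rw [← nsmul_one, map_nsmul]
  have : detHom P (1 : K) = 0 := by
    apply Additive.toMul.injective
    exact Units.ext (detHom_line isLine_one)
  rw [this, nsmul_zero]

theorem detHom_intCast (n : ℤ) : detHom P (n : K) = 0 := by
  cases n with
  | ofNat n => simpa using detHom_natCast n
  | negSucc n => rw [Int.cast_negSucc, map_neg, detHom_natCast, neg_zero]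

theorem map_detHom {L : Type u} [CommRing L] [LambdaOps L] {P' : PosStructure L} {f : K →+* L}
    (hf : IsExtension P P' f) (x : K) :
    f ((detHom P x).toMul : K) = ((detHom P' (f x)).toMul : L) := by
  have key : ∀ {e} (he : e ∈ P.pos), Units.map (f : K →* L) (detUnit P he) = detUnit P' (hf.pos_subset e he) := by
    intro e he
    apply Units.ext
    change f (LambdaOps.lam (P.aug e).toNat e) = LambdaOps.lam (P'.aug (f e)).toNat (f e)
    rw [hf.isLambdaHom, hf.aug_comp]
  obtain ⟨a, b, ha, hb, rfl⟩ := P.exists_sub x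
  rw [map_sub f, map_sub (detHom P), map_sub (detHom P'), detHom_apply_pos ha, detHom_apply_pos hb,
    detHom_apply_pos (hf.pos_subset a ha), detHom_apply_pos (hf.pos_subset b hb), ← key ha, ← key hb]
  simp [toMul_sub, div_eq_mul_inv, ← map_inv]

theorem detHom_mul_of_aug_eq_zero (hK : HasSplitting K P) {x y : K} (hx : P.aug x = 0)
    (hy : P.aug y = 0) : detHom P (x * y) = 0 := by
  have key : ∀ {a b}, a ∈ P.pos → b ∈ P.pos →
      detHom P (a * b) = P.aug b • detHom P a + P.aug a • detHom P b := by
    intro a b ha hb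
    obtain ⟨L, f, hf, -, ⟨v, hv, hfv⟩, ⟨w, hw, hfw⟩⟩ := exists_split₂ hK ha hb
    have hinj : Function.Injective (Units.map (f : K →* L.carrier)) :=
      Units.map_injective hf.injective
    apply Additive.toMul.injective
    apply hinj
    have hmap : ∀ z, Units.map (f : K →* L.carrier) (detHom P z).toMul = (detHom L.posStr (f z)).toMul :=
      fun z => Units.ext (map_detHom hf z)
    have hvw : ∀ p : Fin (P.aug a).toNat × Fin (P.aug b).toNat,
        detHom L.posStr (v p.1 * w p.2) = detHom L.posStr (v p.1) + detHom L.posStr (w p.2) := by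
      intro p
      apply Additive.toMul.injective
      refine Units.ext ?_
      simp only [toMul_add, Units.val_mul, detHom_line (hv p.1), detHom_line (hw p.2)]
      exact detHom_line (IsLine.mul (hv p.1) (hw p.2))
    rw [hmap, toMul_add, map_mul (Units.map (f : K →* L.carrier)), toMul_zsmul, toMul_zsmul, map_zpow,
      map_zpow, hmap, hmap,
      ← toMul_zsmul, ← toMul_zsmul, ← toMul_add]
    congr 1
    rw [map_mul, hfv, hfw, Finset.sum_mul_sum, ← Fintype.sum_prod_type', map_sum, map_sum, map_sum,
      Finset.sum_congr rfl fun p _ => hvw p, Fintype.sum_prod_type]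
    simp only [Finset.sum_add_distrib, Finset.sum_const, Finset.card_univ, Fintype.card_fin]
    simp only [← natCast_zsmul, aug_toNat ha, aug_toNat hb]
    exact congrArg (· + _) (map_sum (zsmulAddGroupHom (α := Additive L.carrierˣ) (P.aug b)) _ _).symm
  obtain ⟨a, b, ha, hb, rfl⟩ := P.exists_sub x
  obtain ⟨c, d, hc, hd, rfl⟩ := P.exists_sub y
  rw [map_sub, sub_eq_zero] at hx hy
  simp only [sub_mul, mul_sub, map_sub, key ha hc, key ha hd, key hb hc, key hb hd, hx, hy]
  abel

theorem detHom_eq_zero_of_mem_two (hK : HasSplitting K P) {x : K} (hx : x ∈ gammaFiltration P 2) :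
    detHom P x = 0 := by
  let G : ℕ → AddSubgroup K := fun n =>
    if n = 0 then ⊤ else if n = 1 then gammaFiltration P 1 else gammaFiltration P 1 ⊓ (detHom P).ker
  have hG0 : ∀ x : K, x ∈ G 0 := fun x => by simp [G]
  have hF1 : ∀ {n x}, n ≠ 0 → x ∈ G n → P.aug x = 0 := by
    intro n x hn h
    rw [← mem_gammaFiltration_one_iff hK]
    simp only [G, if_neg hn] at h
    split_ifs at h
    · exact h
    · exact h.1
  have hdet : ∀ {n x}, 2 ≤ n → x ∈ G n → detHom P x = 0 := by
    intro n x hn h
    simp only [G, if_neg (show n ≠ 0 by omega), if_neg (show n ≠ 1 by omega)] at h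
    exact h.2
  have hscal : ∀ {b : ℕ} (z : K) {y : K}, y ∈ G b → z * y ∈ G b := by
    intro b z y hy
    match b with
    | 0 => exact hG0 _
    | 1 => simp only [G, if_neg one_ne_zero, if_pos] at hy ⊢
           simpa using mul_mem_gammaFiltration' (P := P) (a := 0) (x := z) (by simp) hy
    | n + 2 =>
      have hy0 := hF1 (by omega) hy
      have hyd := hdet (by omega) hy
      simp only [G, if_neg (show n + 2 ≠ 0 by omega), if_neg (show n + 2 ≠ 1 by omega)]
      refine ⟨mem_gammaFiltration_one (by simp [hy0]), ?_⟩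
      change detHom P (z * y) = 0
      have h := detHom_mul_of_aug_eq_zero hK (x := z - (P.aug z : K)) (by simp) hy0
      rwa [sub_mul, map_sub, ← zsmul_eq_mul, map_zsmul, hyd, smul_zero, sub_zero] at h
  have hG : IsGraded G := by
    refine ⟨hG0 1, ?_, ?_⟩
    · refine antitone_nat_of_succ_le fun n => ?_
      match n with
      | 0 => simp [G]
      | 1 => simp [G]
      | n + 2 => simp [G]
    · intro a b x y hx hy
      rcases eq_or_ne a 0 with rfl | ha
      · rw [zero_add]; exact hscal x hy
      rcases eq_or_ne b 0 with rfl | hb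
      · rw [add_zero, mul_comm]; exact hscal y hx
      simp only [G, if_neg (show a + b ≠ 0 by omega), if_neg (show a + b ≠ 1 by omega)]
      exact ⟨mem_gammaFiltration_one (by simp [hF1 ha hx]),
        detHom_mul_of_aug_eq_zero hK (hF1 ha hx) (hF1 hb hy)⟩
  have hgen : ∀ y : K, P.aug y = 0 → GradedSeries G (PowerSeries.map (RingHom.id K) (gammaSeries y)) := by
    refine gammaGraded_of_pos (RingHom.id K) hG fun e he => ⟨by simp, fun i => ?_⟩
    simp only [PowerSeries.map_id, id_eq, coeff_gammaSeries]
    have hx0 : P.aug (e - (P.aug e : K)) = 0 := by simp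
    match i with
    | 0 => exact hG0 _
    | 1 => simp only [G, if_neg one_ne_zero, if_pos]; exact gamma_mem_gammaFiltration hx0 1
    | i + 2 =>
      simp only [G, if_neg (show i + 2 ≠ 0 by omega), if_neg (show i + 2 ≠ 1 by omega)]
      refine ⟨mem_gammaFiltration_one (aug_gamma hK hx0 (by omega)), ?_⟩
      change detHom P _ = 0
      obtain ⟨L, f, hf, hL, w, hw, hfe⟩ := exists_split hK he
      apply Additive.toMul.injective
      apply Units.map_injective (f := (f : K →* L.carrier)) hf.injective
      apply Units.ext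
      change f _ = f _
      rw [map_detHom hf, map_gamma hf.isLambdaHom, toMul_zero, Units.val_one, map_one]
      rw [show f (e - (P.aug e : K)) = ∑ a, w a - (Fintype.card (Fin (P.aug e).toNat) : L.carrier) by
        rw [map_sub, map_intCast, hfe, Fintype.card_fin, ← Int.cast_natCast, aug_toNat he],
        gamma_sum_lines_sub_card hw, Finset.esymm_map_val, map_sum]
      rw [Finset.sum_eq_zero, toMul_zero, Units.val_one]
      intro s hs
      rw [Finset.mem_powersetCard] at hs
      obtain ⟨a, ha⟩ : s.Nonempty := Finset.card_pos.mp (by omega)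
      rw [← Finset.mul_prod_erase s _ ha]
      apply detHom_mul_of_aug_eq_zero hL
      · simp [(hw a).2]
      · obtain ⟨b, hb⟩ : (s.erase a).Nonempty :=
          Finset.card_pos.mp (by rw [Finset.card_erase_of_mem ha]; omega)
        rw [map_prod]
        exact Finset.prod_eq_zero hb (by simp [(hw b).2])
  exact hdet le_rfl (map_mem_of_gammaGraded (RingHom.id K) hG hG0 hgen hx)

open MvPolynomial in
theorem sub_sub_detPos_sub_one_mem (hK : HasSplitting K P) {e : K} (he : e ∈ P.pos) :
    e - (P.aug e : K) - (detPos P e - 1) ∈ gammaFiltration P 2 := by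
  classical
  obtain ⟨m, hm⟩ : ∃ m : ℕ, P.aug e = m := ⟨_, (aug_toNat he).symm⟩
  let p : MvPolynomial (Fin m) ℤ :=
    (∑ a : Fin m, (X a : MvPolynomial (Fin m) ℤ)) - (∏ a : Fin m, (1 + X a : MvPolynomial (Fin m) ℤ) - 1)
  have hp : p.IsSymmetric := fun σ => by
    simp only [p, map_sub, map_sum, map_prod, map_add, map_one, rename_X]
    rw [Equiv.sum_comp σ (fun a => (X a : MvPolynomial (Fin m) ℤ)),
      Equiv.prod_comp σ (fun a => (1 + X a : MvPolynomial (Fin m) ℤ))]
  have hord : p ∈ idealOfVars (Fin m) ℤ ^ 2 := by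
    simp only [p]
    generalize (Finset.univ : Finset (Fin m)) = s
    suffices h : ∑ a ∈ s, (X a : MvPolynomial (Fin m) ℤ) ∈ idealOfVars (Fin m) ℤ ∧
        (∑ a ∈ s, X a) - (∏ a ∈ s, (1 + X a) - 1) ∈ idealOfVars (Fin m) ℤ ^ 2 from h.2
    induction s using Finset.induction_on with
    | empty => simp
    | insert a s ha ih =>
      have hX : (X a : MvPolynomial (Fin m) ℤ) ∈ idealOfVars (Fin m) ℤ :=
        Ideal.subset_span (Set.mem_range_self a)
      rw [Finset.sum_insert ha, Finset.prod_insert ha]
      refine ⟨Ideal.add_mem _ hX ih.1, ?_⟩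
      have : ((X a : MvPolynomial (Fin m) ℤ) + ∑ b ∈ s, X b) - ((1 + X a) * ∏ b ∈ s, (1 + X b) - 1) =
          ((∑ b ∈ s, X b) - (∏ b ∈ s, (1 + X b) - 1)) * (1 + X a) - X a * ∑ b ∈ s, X b := by ring
      rw [this]
      refine Ideal.sub_mem _ (Ideal.mul_mem_right _ _ ih.2) ?_
      rw [sq]
      exact Ideal.mul_mem_mul hX ih.1
  obtain ⟨c, hc, hcv⟩ := exists_mem_gammaFiltration_of_isSymmetric (P := P) (e := e) hm hp hord
  obtain ⟨L, f, hf, hL, w', hw', hfe'⟩ := exists_split hK he
  have hmn : (P.aug e).toNat = m := by omega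
  let w : Fin m → L.carrier := fun a => w' (Fin.cast hmn.symm a)
  have hw : ∀ a, L.posStr.IsLine (w a) := fun a => hw' _
  have hfe : f e = ∑ a, w a := by
    rw [hfe']; exact Fintype.sum_equiv (finCongr hmn) _ _ fun a => rfl
  suffices h : e - (P.aug e : K) - (detPos P e - 1) = c by rwa [h]
  apply hf.injective
  rw [hcv L.carrier L.posStr f hf.isLambdaHom w hw hfe]
  simp only [p, map_sub, map_intCast, map_one, map_sum, map_prod, map_add, aeval_X, detPos,
    hf.isLambdaHom _ e, hfe, hmn, add_sub_cancel]
  rw [lam_sum_lines hw, Finset.esymm_map_val]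
  have hu : Finset.powersetCard m (Finset.univ : Finset (Fin m)) = {Finset.univ} := by
    simpa using Finset.powersetCard_self (Finset.univ : Finset (Fin m))
  rw [hu, Finset.sum_singleton, Finset.sum_sub_distrib, hm]
  simp

theorem lineElements_equiv_gr1 (hK : HasSplitting K P)
    (hLinv : ∀ w : K, P.IsLine w → ∃ w' : K, P.IsLine w' ∧ w * w' = 1)
    (hdet : ∀ e : K, e ∈ P.pos → LambdaOps.lam (P.aug e).toNat e ∈ P.pos) :
    (∀ x : K, x ∈ gammaFiltration P 1 → ∃ w : K, P.IsLine w ∧ x - (w - 1) ∈ gammaFiltration P 2) ∧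
    ∀ w z : K, P.IsLine w → P.IsLine z → w - z ∈ gammaFiltration P 2 → w = z := by
  constructor
  · intro x hx
    have hline : ∀ {e}, e ∈ P.pos → P.IsLine (detPos P e) := by
      intro e he
      refine ⟨hdet e he, ?_⟩
      obtain ⟨L, f, hf, -, w, hw, hfe⟩ := exists_split hK he
      rw [detPos, ← hf.aug_comp, hf.isLambdaHom, hfe, lam_sum_lines hw, map_multiset_esymm,
        Multiset.map_map, Multiset.map_congr (f := L.posStr.aug ∘ w) (g := fun _ => (1 : ℤ)) rfl (fun a _ => (hw a).2)]
      simp [Multiset.esymm, Multiset.map_const']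
      have h1 : Multiset.powersetCard (P.aug e).toNat (Multiset.replicate (P.aug e).toNat (1 : ℤ)) =
          {Multiset.replicate (P.aug e).toNat 1} := by
        generalize (P.aug e).toNat = k
        have h := Multiset.card_powersetCard k (Multiset.replicate k (1 : ℤ))
        rw [Multiset.card_replicate, Nat.choose_self, Multiset.card_eq_one] at h
        obtain ⟨t, ht⟩ := h
        have hmem : Multiset.replicate k (1 : ℤ) ∈ Multiset.powersetCard k (Multiset.replicate k (1 : ℤ)) := by
          simp [Multiset.mem_powersetCard]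
        rw [ht, Multiset.mem_singleton] at hmem
        rw [ht, hmem]
      simp [h1]
    rw [mem_gammaFiltration_one_iff hK] at hx
    obtain ⟨a, b, ha, hb, rfl⟩ := P.exists_sub x
    obtain ⟨b', hb'l, hbb'⟩ := hLinv _ (hline hb)
    refine ⟨detPos P a * b', IsLine.mul (hline ha) hb'l, ?_⟩
    rw [map_sub, sub_eq_zero] at hx
    have h1 := sub_sub_detPos_sub_one_mem hK ha
    have h2 := sub_sub_detPos_sub_one_mem hK hb
    have h3 : (detPos P a - detPos P b) * (b' - 1) ∈ gammaFiltration P 2 :=
      mul_mem_gammaFiltration' (a := 1) (b := 1)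
        (mem_gammaFiltration_one (by rw [map_sub, (hline ha).2, (hline hb).2, sub_self]))
        (mem_gammaFiltration_one (by rw [map_sub, hb'l.2, map_one, sub_self]))
    rw [← hx] at h2
    convert sub_mem (sub_mem h1 h2) h3 using 1
    linear_combination -hbb'
  · intro w z hw hz h
    have h1 := detHom_eq_zero_of_mem_two hK h
    rw [map_sub, sub_eq_zero] at h1
    rw [← detHom_line hw, h1, detHom_line hz]

end Groth.LambdaCore
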