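import Groth.Agent.LambdaCore.Split
import Mathlib.RingTheory.AdjoinRoot
import Mathlib.RingTheory.Norm.Defs

/-!
# Splitting a monic polynomial in an injective extension which reflects units
-/

set_option autoImplicit false
universe u v

open Finset Polynomial

namespace Groth.LambdaCore

theorem of_injective_of_monic {R : Type u} [CommRing R] {p : R[X]} (hp : p.Monic)
    (h : p.natDegree ≠ 0) : Function.Injective (AdjoinRoot.of p) := by
  rw [injective_iff_map_eq_zero]
  intro r hr
  by_contra hne
  rw [← AdjoinRoot.mk_C, AdjoinRoot.mk_eq_zero] at hr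
  refine hp.not_dvd_of_natDegree_lt (by simpa using hne) ?_ hr
  rw [natDegree_C]; omega

theorem isUnit_of_map_adjoinRoot {R : Type u} [CommRing R] {p : R[X]} (hp : p.Monic)
    (h : p.natDegree ≠ 0) {r : R} (hr : IsUnit (AdjoinRoot.of p r)) : IsUnit r := by
  have h1 := hr.map (Algebra.norm R (S := AdjoinRoot p))
  rw [← AdjoinRoot.algebraMap_eq, Algebra.norm_algebraMap_of_basis (AdjoinRoot.powerBasis' hp).basis,
    Fintype.card_fin] at h1
  exact isUnit_pow_iff (by simpa using h) |>.mp h1

/-- All roots of a monic polynomial, in an injective extension reflecting units. -/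
theorem exists_roots (n : ℕ) : ∀ (R : Type u) [CommRing R] (p : R[X]), p.Monic → p.natDegree = n →
    ∃ (A : Type u) (_ : CommRing A) (ι : R →+* A), Function.Injective ι ∧
      (∀ r, IsUnit (ι r) → IsUnit r) ∧
      ∃ w : Fin n → A, p.map ι = ∏ i, (X - C (w i)) := by
  induction n with
  | zero =>
    intro R _ p hp hn
    refine ⟨R, inferInstance, RingHom.id R, Function.injective_id, fun r h => h, Fin.elim0, ?_⟩
    simp [hp.natDegree_eq_zero.mp hn]
  | succ n ih =>
    intro R _ p hp hn
    rcases subsingleton_or_nontrivial R with hs | hs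
    · rw [Subsingleton.elim p 0, natDegree_zero] at hn
      omega
    obtain ⟨q, hq⟩ := X_sub_C_dvd_sub_C_eval (a := AdjoinRoot.root p) (p := p.map (AdjoinRoot.of p))
    rw [eval_map, AdjoinRoot.eval₂_root, map_zero, sub_zero] at hq
    have : Nontrivial (AdjoinRoot p) := (of_injective_of_monic hp (by omega)).nontrivial
    have hqm : q.Monic := (monic_X_sub_C (AdjoinRoot.root p)).of_mul_monic_left (hq ▸ hp.map _)
    have hqn : q.natDegree = n := by
      have := congrArg natDegree hq
      rw [hp.natDegree_map, hn, (monic_X_sub_C _).natDegree_mul hqm, natDegree_X_sub_C] at this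
      omega
    obtain ⟨A, _, ι, hι, hu, w, hw⟩ := ih (AdjoinRoot p) q hqm hqn
    refine ⟨A, inferInstance, ι.comp (AdjoinRoot.of p),
      hι.comp (of_injective_of_monic hp (by omega)),
      fun r h => isUnit_of_map_adjoinRoot hp (by omega) (hu _ h), Fin.cons (ι (AdjoinRoot.root p)) w, ?_⟩
    rw [← Polynomial.map_map, hq, Polynomial.map_mul, hw, Fin.prod_univ_succ]
    simp

/-- All roots, the first one being the tautological root of `AdjoinRoot p`. -/
theorem exists_roots_root {R : Type u} [CommRing R] {p : R[X]} (hp : p.Monic) {n : ℕ}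
    (hn : p.natDegree = n + 1) :
    ∃ (A : Type u) (_ : CommRing A) (ι : AdjoinRoot p →+* A), Function.Injective ι ∧
      (∀ r, IsUnit (ι r) → IsUnit r) ∧
      ∃ w : Fin (n + 1) → A, w 0 = ι (AdjoinRoot.root p) ∧
        p.map (ι.comp (AdjoinRoot.of p)) = ∏ i, (X - C (w i)) := by
  rcases subsingleton_or_nontrivial R with hs | hs
  · have : Subsingleton R[X] := inferInstance
    rw [Subsingleton.elim p 0, natDegree_zero] at hn
    omega
  obtain ⟨q, hq⟩ := X_sub_C_dvd_sub_C_eval (a := AdjoinRoot.root p) (p := p.map (AdjoinRoot.of p))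
  rw [eval_map, AdjoinRoot.eval₂_root, map_zero, sub_zero] at hq
  have : Nontrivial (AdjoinRoot p) := (of_injective_of_monic hp (by omega)).nontrivial
  have hqm : q.Monic := (monic_X_sub_C (AdjoinRoot.root p)).of_mul_monic_left (hq ▸ hp.map _)
  have hqn : q.natDegree = n := by
    have := congrArg natDegree hq
    rw [hp.natDegree_map, hn, (monic_X_sub_C _).natDegree_mul hqm, natDegree_X_sub_C] at this
    omega
  obtain ⟨A, _, ι, hι, hu, w, hw⟩ := exists_roots n (AdjoinRoot p) q hqm hqn
  refine ⟨A, inferInstance, ι, hι, hu, Fin.cons (ι (AdjoinRoot.root p)) w, by simp, ?_⟩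
  rw [← Polynomial.map_map, hq, Polynomial.map_mul, hw, Fin.prod_univ_succ]
  simp

/-- Vieta for a product indexed by a finite type. -/
theorem coeff_prod_X_sub_C {A : Type u} [CommRing A] {m : ℕ} (w : Fin m → A) {k : ℕ} (hk : k ≤ m) :
    (∏ i, (X - C (w i))).coeff (m - k) = (-1) ^ k * (Finset.univ.val.map w).esymm k := by
  have h := Multiset.prod_X_sub_C_coeff (Finset.univ.val.map w) (k := m - k) (by simp)
  simp only [Multiset.card_map, Finset.card_val, Finset.card_univ, Fintype.card_fin, Multiset.map_map,
    Nat.sub_sub_self hk] at h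
  exact h

end Groth.LambdaCore
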