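import Groth.Agent.LambdaCore.Sigma
import Groth.Agent.LambdaCore.Symm
import Groth.Agent.LambdaCore.RootsExt

/-!
# The elementary extension `K[T]/(p_e)` as a λ-ring with positive structure
-/

set_option autoImplicit false
universe u v

open Finset LambdaRing

namespace Groth.LambdaCore

variable {K : Type u} [CommRing K] [LambdaOps K] {P : PosStructure K}

theorem lamSeries_mul_line (hK : HasSplitting K P) {w : K} (hw : P.IsLine w) (x : K) :
    lamSeries (x * w) = PowerSeries.rescale w (lamSeries x) := by
  have key : ∀ {a}, a ∈ P.pos → lamSeries (a * w) = PowerSeries.rescale w (lamSeries a) := by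
    intro a ha
    obtain ⟨L, f, hf, -, v, hv, hfa⟩ := exists_split hK ha
    apply PowerSeries.map_injective f hf.injective
    have hr : PowerSeries.map f (PowerSeries.rescale w (lamSeries a)) =
        PowerSeries.rescale (f w) (lamSeries (f a)) := by
      ext k; simp [hf.isLambdaHom k a]
    rw [map_lamSeries hf.isLambdaHom, hr, map_mul, hfa, Finset.sum_mul,
      lamSeries_sum_lines fun i => IsLine.mul (hv i) (IsExtension.isLine hf hw),
      lamSeries_sum_lines hv, map_prod]
    refine Finset.prod_congr rfl fun i _ => ?_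
    simp [rescale_C, PowerSeries.rescale_X]
    ring
  obtain ⟨a, b, ha, hb, rfl⟩ := P.exists_sub x
  apply (isUnit_lamSeries (b * w)).mul_right_cancel
  rw [sub_mul, lamSeries_sub_mul, key ha, key hb, ← map_mul, lamSeries_sub_mul]

theorem extPoly_monic_natDegree (P : PosStructure K) (e : K) [Nontrivial K] :
    (KRR.extPoly P e).Monic ∧ (KRR.extPoly P e).natDegree = (P.aug e).toNat := by
  set m := (P.aug e).toNat with hm
  set g : Polynomial K := ∑ i ∈ range m,
    Polynomial.C ((-1 : K) ^ (i + 1) * LambdaOps.lam (i + 1) e) * Polynomial.X ^ (m - (i + 1))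
  have h : KRR.extPoly P e = Polynomial.X ^ m + g := by
    rw [KRR.extPoly, Finset.sum_range_succ', add_comm]
    simp [g, LambdaOps.lam_zero, hm]
  have hdeg : g.degree < (Polynomial.X ^ m : Polynomial K).degree := by
    rw [Polynomial.degree_X_pow]
    refine lt_of_le_of_lt (Polynomial.degree_sum_le _ _) ?_
    refine (Finset.sup_lt_iff (WithBot.bot_lt_coe m)).mpr ?_
    intro i hi
    simp at hi
    exact lt_of_le_of_lt (Polynomial.degree_C_mul_X_pow_le _ _) (Nat.cast_lt.mpr (Nat.sub_lt (lt_of_le_of_lt (Nat.zero_le i) hi) i.succ_pos))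
  rw [h]
  refine ⟨(Polynomial.monic_X_pow m).add_of_left hdeg, ?_⟩
  apply Polynomial.natDegree_eq_of_degree_eq_some
  rw [Polynomial.degree_add_eq_left_of_degree_lt hdeg, Polynomial.degree_X_pow]

omit [LambdaOps K] in
theorem nontrivial_of_posStructure [LambdaOps K] (P : PosStructure K) : Nontrivial K :=
  P.aug.domain_nontrivial

/-- In any extension where `p_e` splits with roots `w`, `λ^k e = e_k(w)`. -/
theorem esymm_roots {e : K} (he : e ∈ P.pos) {m : ℕ} (hm : P.aug e = m) {A : Type v} [CommRing A]
    [Algebra K A] {w : Fin m → A}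
    (hw : (KRR.extPoly P e).map (algebraMap K A) = ∏ i, (Polynomial.X - Polynomial.C (w i))) (k : ℕ) :
    (Finset.univ.val.map w).esymm k = algebraMap K A (LambdaOps.lam k e) := by
  have := nontrivial_of_posStructure P
  have hm' : (P.aug e).toNat = m := by omega
  rcases le_or_gt k m with hk | hk
  · have h := congrArg (fun q => Polynomial.coeff q (m - k)) hw
    simp only [Polynomial.coeff_map, coeff_prod_X_sub_C w hk] at h
    rw [KRR.extPoly, hm', Polynomial.finsetSum_coeff, Finset.sum_eq_single k] at h
    · rw [Polynomial.coeff_C_mul_X_pow, if_pos rfl, map_mul, map_pow, map_neg, map_one] at h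
      exact ((isUnit_one.neg.pow k).mul_left_cancel h).symm
    · intro i hi hne
      simp at hi
      rw [Polynomial.coeff_C_mul_X_pow, if_neg (by omega)]
    · intro hk'; simp at hk'; omega
  · rw [P.lam_eq_zero e he k (by omega), map_zero, Finset.esymm_map_val,
      Finset.powersetCard_eq_empty.mpr (by simp; omega), Finset.sum_empty]

omit [LambdaOps K] in
theorem rename_coeff_prod_rescale {m : ℕ} (c : PowerSeries K) (i k : ℕ) :
    (PowerSeries.coeff k (∏ S ∈ powersetCard i (Finset.univ : Finset (Fin m)),
      PowerSeries.rescale (∏ a ∈ S, (MvPolynomial.X a : MvPolynomial (Fin m) K))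
        (PowerSeries.map MvPolynomial.C c))).IsSymmetric := by
  intro σ
  change (MvPolynomial.rename σ).toRingHom _ = _
  rw [← PowerSeries.coeff_map, map_prod]
  congr 1
  refine Finset.prod_equiv (Equiv.finsetCongr σ) (fun S => ?_) (fun S _ => ?_)
  · simp [Finset.mem_powersetCard]
  · ext j
    simp [MvPolynomial.rename_X, Finset.prod_map]

/-- Multiplication by `λ^i e` on `λ_t`, in any extension where `p_e` splits. -/
theorem map_lamSeries_mul_lam (hK : HasSplitting K P) {e : K} (he : e ∈ P.pos) {m : ℕ}
    (hm : P.aug e = m) {A : Type u} [CommRing A] [Algebra K A] {w : Fin m → A}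
    (hw : (KRR.extPoly P e).map (algebraMap K A) = ∏ i, (Polynomial.X - Polynomial.C (w i)))
    (b : K) (i : ℕ) :
    PowerSeries.map (algebraMap K A) (lamSeries (b * LambdaOps.lam i e)) =
      ∏ S ∈ powersetCard i (Finset.univ : Finset (Fin m)),
        PowerSeries.rescale (∏ a ∈ S, w a) (PowerSeries.map (algebraMap K A) (lamSeries b)) := by
  obtain ⟨L, f, hf, hL, v', hv', hfe'⟩ := exists_split hK he
  have hmn : (P.aug e).toNat = m := by omega
  let v : Fin m → L.carrier := fun a => v' (Fin.cast hmn.symm a)
  have hv : ∀ a, L.posStr.IsLine (v a) := fun a => hv' _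
  have hfe : f e = ∑ a, v a := by
    rw [hfe']; exact Fintype.sum_equiv (finCongr hmn) _ _ fun a => rfl
  let p : ℕ → MvPolynomial (Fin m) K := fun k =>
    PowerSeries.coeff k (∏ S ∈ powersetCard i (Finset.univ : Finset (Fin m)),
      PowerSeries.rescale (∏ a ∈ S, (MvPolynomial.X a : MvPolynomial (Fin m) K))
        (PowerSeries.map MvPolynomial.C (lamSeries b)))
  have hev : ∀ (B : Type u) [CommRing B] [Algebra K B] (z : Fin m → B) (k : ℕ),
      MvPolynomial.aeval z (p k) = PowerSeries.coeff k (∏ S ∈ powersetCard i (Finset.univ : Finset (Fin m)),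
        PowerSeries.rescale (∏ a ∈ S, z a) (PowerSeries.map (algebraMap K B) (lamSeries b))) := by
    intro B _ _ z k
    simp only [p]
    change (MvPolynomial.aeval z).toRingHom _ = _
    rw [← PowerSeries.coeff_map, map_prod]
    congr 1
    refine Finset.prod_congr rfl fun S _ => ?_
    ext j
    simp
  ext k
  obtain ⟨c, hc⟩ := exists_eq_algebraMap_of_isSymmetric.{u, u} (R := K)
    (rename_coeff_prod_rescale (lamSeries b) i k : (p k).IsSymmetric) (fun k => LambdaOps.lam k e)
  rw [← hev A w k, hc A w (esymm_roots he hm hw), PowerSeries.coeff_map]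
  congr 1
  apply hf.injective
  let : Algebra K L.carrier := f.toAlgebra
  have h2 := hc L.carrier v (fun k => by
    change _ = f _
    rw [hf.isLambdaHom, hfe, lam_sum_lines hv])
  rw [hev L.carrier v k] at h2
  change _ = f c at h2
  rw [← h2, coeff_lamSeries, hf.isLambdaHom, map_mul, hf.isLambdaHom i e, hfe, lam_sum_lines hv,
    Finset.esymm_map_val, Finset.mul_sum, ← coeff_lamSeries, lamSeries_sum]
  congr 1
  refine Finset.prod_congr rfl fun S _ => ?_
  rw [show PowerSeries.map (algebraMap K L.carrier) (lamSeries b) = lamSeries (f b) from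
    map_lamSeries hf.isLambdaHom b]
  refine lamSeries_mul_line hL ?_ (f b)
  refine Finset.prod_induction _ (fun z => L.posStr.IsLine z) (fun _ _ hx hy => IsLine.mul hx hy)
    isLine_one fun a _ => hv a

section EvalSeries

variable {A : Type u} [CommRing A]

/-- `a ↦ rescale z (λ_t a)` as an additive map to the units of `A[[t]]`. -/
noncomputable def termHom (φ : K →+* A) (z : A) : K →+ Additive (PowerSeries A)ˣ :=
  AddMonoidHom.mk' (fun a => Additive.ofMul (Units.map
    ((PowerSeries.rescale z).comp (PowerSeries.map φ) : PowerSeries K →* PowerSeries A)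
    (isUnit_lamSeries a).unit)) fun a b => by
      rw [← ofMul_mul, ← map_mul]
      congr 2
      exact Units.ext (lamSeries_add a b)

@[simp] theorem val_termHom (φ : K →+* A) (z : A) (a : K) :
    ((termHom φ z a).toMul : PowerSeries A) = PowerSeries.rescale z (PowerSeries.map φ (lamSeries a)) := rfl

/-- `Σ a_j T^j ↦ Π rescale x^j (λ_t a_j)`. -/
noncomputable def evalSeries (φ : K →+* A) (x : A) : Polynomial K →+ Additive (PowerSeries A)ˣ :=
  AddMonoidHom.mk' (fun h => h.sum fun j a => termHom φ (x ^ j) a) fun p q =>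
    Polynomial.sum_add_index p q _ (fun _ => map_zero _) (fun _ a b => map_add _ a b)

theorem evalSeries_monomial (φ : K →+* A) (x : A) (j : ℕ) (a : K) :
    evalSeries φ x (Polynomial.C a * Polynomial.X ^ j) = termHom φ (x ^ j) a := by
  rw [Polynomial.C_mul_X_pow_eq_monomial]
  exact Polynomial.sum_monomial_index a _ (map_zero _)

theorem map_evalSeries {B : Type u} [CommRing B] (φ : K →+* A) (g : A →+* B) (x : A) (h : Polynomial K) :
    PowerSeries.map g ((evalSeries φ x h).toMul : PowerSeries A) =
      ((evalSeries (g.comp φ) (g x) h).toMul : PowerSeries B) := by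
  induction h using Polynomial.induction_on' with
  | add p q hp hq => simp [map_add, toMul_add, hp, hq]
  | monomial j a =>
    rw [← Polynomial.C_mul_X_pow_eq_monomial, evalSeries_monomial, evalSeries_monomial, val_termHom,
      val_termHom]
    ext k; simp

theorem constantCoeff_evalSeries (φ : K →+* A) (x : A) (h : Polynomial K) :
    PowerSeries.constantCoeff ((evalSeries φ x h).toMul : PowerSeries A) = 1 ∧
      PowerSeries.coeff 1 ((evalSeries φ x h).toMul : PowerSeries A) = Polynomial.eval₂ φ x h := by
  induction h using Polynomial.induction_on' with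
  | add p q hp hq =>
    rw [map_add, toMul_add, Units.val_mul]
    refine ⟨by simp [hp.1, hq.1], ?_⟩
    rw [coeff_mul_range, Finset.sum_range_succ, Finset.sum_range_one]
    simp [hp.1, hp.2, hq.1, hq.2, add_comm]
  | monomial j a =>
    rw [← Polynomial.C_mul_X_pow_eq_monomial, evalSeries_monomial, val_termHom]
    refine ⟨?_, by
      rw [PowerSeries.coeff_rescale, pow_one, PowerSeries.coeff_map, coeff_lamSeries, LambdaOps.lam_one,
        Polynomial.eval₂_mul, Polynomial.eval₂_C, Polynomial.eval₂_X_pow, mul_comm]⟩
    rw [← PowerSeries.coeff_zero_eq_constantCoeff_apply]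
    simp [LambdaOps.lam_zero]

variable {e : K} {m : ℕ}

/-- In the splitting extension, `p_e` is killed. -/
theorem evalSeries_extPoly_mul (hK : HasSplitting K P) (he : e ∈ P.pos) (hm : P.aug e = (m + 1 : ℕ))
    [Algebra K A] {w : Fin (m + 1) → A}
    (hw : (KRR.extPoly P e).map (algebraMap K A) = ∏ i, (Polynomial.X - Polynomial.C (w i)))
    (h : Polynomial K) : evalSeries (algebraMap K A) (w 0) (KRR.extPoly P e * h) = 0 := by
  classical
  induction h using Polynomial.induction_on' with
  | add p q hp hq => rw [mul_add, map_add, hp, hq, add_zero]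
  | monomial j b =>
    rw [← Polynomial.C_mul_X_pow_eq_monomial, KRR.extPoly, show (P.aug e).toNat = m + 1 by omega,
      Finset.sum_mul, map_sum]
    let g : A → Additive (PowerSeries A)ˣ := fun z => termHom (algebraMap K A) z b
    have hterm : ∀ i ∈ range (m + 2),
        evalSeries (algebraMap K A) (w 0) (Polynomial.C ((-1 : K) ^ i * LambdaOps.lam i e) *
          Polynomial.X ^ (m + 1 - i) * (Polynomial.C b * Polynomial.X ^ j)) =
        ∑ S ∈ powersetCard i (Finset.univ : Finset (Fin (m + 1))),
          (-1 : ℤ) ^ S.card • g (w 0 ^ (m + 1 - S.card + j) * ∏ a ∈ S, w a) := by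
      intro i _
      have hexp : Polynomial.C ((-1 : K) ^ i * LambdaOps.lam i e) * Polynomial.X ^ (m + 1 - i) *
          (Polynomial.C b * Polynomial.X ^ j) =
            Polynomial.C (((-1 : ℤ) ^ i) • (b * LambdaOps.lam i e)) * Polynomial.X ^ (m + 1 - i + j) := by
        rw [zsmul_eq_mul]
        simp only [Int.cast_pow, Int.cast_neg, Int.cast_one, map_mul, pow_add]
        ring
      rw [hexp, evalSeries_monomial, map_zsmul]
      have hsum : termHom (algebraMap K A) (w 0 ^ (m + 1 - i + j)) (b * LambdaOps.lam i e) =
          ∑ S ∈ powersetCard i (Finset.univ : Finset (Fin (m + 1))),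
            g (w 0 ^ (m + 1 - i + j) * ∏ a ∈ S, w a) := by
        apply Additive.toMul.injective
        apply Units.ext
        rw [val_termHom, map_lamSeries_mul_lam hK he hm hw b i, map_prod, toMul_sum,
          ← Units.coeHom_apply, map_prod]
        refine Finset.prod_congr rfl fun S _ => ?_
        simp [g, PowerSeries.rescale_rescale, mul_comm]
      rw [hsum]
      rw [show (-1 : ℤ) ^ i • (∑ S ∈ powersetCard i (Finset.univ : Finset (Fin (m + 1))),
          g (w 0 ^ (m + 1 - i + j) * ∏ a ∈ S, w a)) = _ from
        map_sum (zsmulAddGroupHom (α := Additive (PowerSeries A)ˣ) ((-1 : ℤ) ^ i)) _ _]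
      refine Finset.sum_congr rfl fun S hS => ?_
      rw [(Finset.mem_powersetCard.mp hS).2]
      rfl
    rw [Finset.sum_congr rfl hterm]
    have hu := Finset.sum_powerset (f := fun S : Finset (Fin (m + 1)) =>
      (-1 : ℤ) ^ S.card • g (w 0 ^ (m + 1 - S.card + j) * ∏ a ∈ S, w a)) (s := Finset.univ)
    rw [Finset.card_univ, Fintype.card_fin] at hu
    rw [← hu, ← Finset.insert_erase (Finset.mem_univ (0 : Fin (m + 1))),
      Finset.sum_powerset_insert (Finset.notMem_erase _ _), ← Finset.sum_add_distrib]
    refine Finset.sum_eq_zero fun S hS => ?_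
    rw [Finset.mem_powerset] at hS
    have h0 : (0 : Fin (m + 1)) ∉ S := fun h => Finset.notMem_erase _ _ (hS h)
    have hc : S.card ≤ m := (Finset.card_le_card hS).trans (by simp)
    rw [Finset.card_insert_of_notMem h0, Finset.prod_insert h0,
      show m + 1 - (S.card + 1) + j = (m - S.card + j) by omega,
      show m + 1 - S.card + j = (m - S.card + j) + 1 by omega, pow_succ, mul_assoc,
      pow_succ (-1 : ℤ), mul_neg, mul_one, neg_smul, add_neg_cancel]

end EvalSeries

end Groth.LambdaCore
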