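import Groth.Agent.LambdaCore.Elementary

/-!
# Existence of the elementary extension
-/

set_option autoImplicit false
universe u

open Finset LambdaRing

namespace Groth.LambdaCore

variable {A : Type u} [CommRing A]

/-- `s` is a polynomial of degree at most `n` whose coefficient of `t^n` is a unit. -/
def PolyUnitTop (s : PowerSeries A) (n : ℕ) : Prop :=
  (∀ k, n < k → PowerSeries.coeff k s = 0) ∧ IsUnit (PowerSeries.coeff n s)

theorem polyUnitTop_one : PolyUnitTop (1 : PowerSeries A) 0 :=
  ⟨fun k hk => by rw [PowerSeries.coeff_one, if_neg (by omega)], by simp⟩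

theorem PolyUnitTop.mul {s t : PowerSeries A} {a b : ℕ} (hs : PolyUnitTop s a) (ht : PolyUnitTop t b) :
    PolyUnitTop (s * t) (a + b) := by
  refine ⟨fun k hk => ?_, ?_⟩
  · rw [coeff_mul_range]
    refine Finset.sum_eq_zero fun i hi => ?_
    rcases lt_or_ge a i with h | h
    · rw [hs.1 i h, zero_mul]
    · rw [ht.1 (k - i) (by omega), mul_zero]
  · rw [coeff_mul_range, Finset.sum_eq_single a]
    · rw [Nat.add_sub_cancel_left]; exact hs.2.mul ht.2
    · intro i hi hne
      rcases lt_or_gt_of_ne hne with h | h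
      · rw [ht.1 (a + b - i) (by omega), mul_zero]
      · rw [hs.1 i h, zero_mul]
    · intro h; simp at h

theorem PolyUnitTop.rescale {s : PowerSeries A} {a : ℕ} (hs : PolyUnitTop s a) {z : A} (hz : IsUnit z) :
    PolyUnitTop (PowerSeries.rescale z s) a :=
  ⟨fun k hk => by simp [hs.1 k hk], by rw [PowerSeries.coeff_rescale]; exact (hz.pow _).mul hs.2⟩

theorem PolyUnitTop.prod {ι : Type*} {s : Finset ι} {f : ι → PowerSeries A} {a : ℕ}
    (h : ∀ i ∈ s, PolyUnitTop (f i) a) : PolyUnitTop (∏ i ∈ s, f i) (s.card * a) := by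
  classical
  induction s using Finset.induction_on with
  | empty => simpa using polyUnitTop_one
  | insert x s hx ih =>
    rw [Finset.prod_insert hx, Finset.card_insert_of_notMem hx, add_mul, one_mul, add_comm]
    exact (h x (Finset.mem_insert_self _ _)).mul (ih fun i hi => h i (Finset.mem_insert_of_mem hi))

variable {K : Type u} [CommRing K] [LambdaOps K] {P : PosStructure K}

theorem exists_lambdaOps_elementaryExtension (hK : HasSplitting K P) {e : K} (he : e ∈ P.pos) :
    ∃ (inst : LambdaOps (AdjoinRoot (KRR.extPoly P e))) (Pe : @PosStructure _ _ inst),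
      (∀ (i : ℕ) (x : K), @LambdaOps.lam _ _ inst i (AdjoinRoot.of (KRR.extPoly P e) x) =
        AdjoinRoot.of (KRR.extPoly P e) (LambdaOps.lam i x)) ∧
      (∀ i : ℕ, 2 ≤ i → @LambdaOps.lam _ _ inst i (AdjoinRoot.root (KRR.extPoly P e)) = 0) ∧
      @IsExtension K _ _ _ _ inst P Pe (AdjoinRoot.of (KRR.extPoly P e)) ∧
      @PosStructure.IsLine _ _ inst Pe (AdjoinRoot.root (KRR.extPoly P e)) ∧
      (2 ≤ P.aug e → AdjoinRoot.of (KRR.extPoly P e) e - AdjoinRoot.root (KRR.extPoly P e) ∈
        (@PosStructure.pos _ _ inst Pe)) := by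
  classical
  have := nontrivial_of_posStructure P
  obtain ⟨m, hm⟩ : ∃ m : ℕ, P.aug e = (m + 1 : ℕ) :=
    ⟨(P.aug e).toNat - 1, by have := P.aug_pos e he; omega⟩
  obtain ⟨hmon, hdeg⟩ := extPoly_monic_natDegree P e
  rw [show (P.aug e).toNat = m + 1 by omega] at hdeg
  obtain ⟨B, _, ι, hι, hu, w, hw0, hw⟩ := exists_roots_root hmon hdeg
  set φ := AdjoinRoot.of (KRR.extPoly P e) with hφ
  set ℓ := AdjoinRoot.root (KRR.extPoly P e) with hℓ
  have hinjφ : Function.Injective φ := of_injective_of_monic hmon (by omega)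
  let : Algebra K B := (ι.comp φ).toAlgebra
  let Φ := evalSeries φ ℓ
  -- `Φ` kills the multiples of `p_e`
  have hkill : ∀ h, Φ (KRR.extPoly P e * h) = 0 := by
    intro h
    apply Additive.toMul.injective
    apply Units.ext
    apply PowerSeries.map_injective ι hι
    rw [map_evalSeries, ← hw0]
    change (((evalSeries (algebraMap K B) (w 0) (KRR.extPoly P e * h)).toMul : (PowerSeries B)ˣ) : PowerSeries B) = _
    rw [evalSeries_extPoly_mul hK he hm hw h]
    simp
  let Λ : AdjoinRoot (KRR.extPoly P e) →+ Additive (PowerSeries (AdjoinRoot (KRR.extPoly P e)))ˣ :=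
    Φ.comp (AdjoinRoot.modByMonicHom hmon).toAddMonoidHom
  have hΛ : ∀ h, Λ (AdjoinRoot.mk _ h) = Φ h := by
    intro h
    change Φ (AdjoinRoot.modByMonicHom hmon (AdjoinRoot.mk _ h)) = Φ h
    rw [AdjoinRoot.modByMonicHom_mk, Polynomial.modByMonic_eq_sub_mul_div, map_sub, hkill, sub_zero]
  let L : AdjoinRoot (KRR.extPoly P e) → PowerSeries (AdjoinRoot (KRR.extPoly P e)) := fun x =>
    ((Λ x).toMul : (PowerSeries (AdjoinRoot (KRR.extPoly P e)))ˣ)
  have hLadd : ∀ x y, L (x + y) = L x * L y := fun x y => by simp [L, map_add, toMul_add]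
  have hL : ∀ h, L (AdjoinRoot.mk _ h) =
      ((Φ h).toMul : (PowerSeries (AdjoinRoot (KRR.extPoly P e)))ˣ) := fun h => by simp [L, hΛ]
  have hL01 : ∀ x, PowerSeries.constantCoeff (L x) = 1 ∧ PowerSeries.coeff 1 (L x) = x := by
    intro x
    obtain ⟨h, rfl⟩ := AdjoinRoot.mk_surjective x
    rw [hL]
    obtain ⟨h1, h2⟩ := constantCoeff_evalSeries φ ℓ h
    refine ⟨h1, h2.trans ?_⟩
    rw [← AdjoinRoot.aeval_eq]; rfl
  let inst : LambdaOps (AdjoinRoot (KRR.extPoly P e)) :=
    { lam := fun i x => PowerSeries.coeff i (L x)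
      lam_zero := fun x => by rw [PowerSeries.coeff_zero_eq_constantCoeff_apply]; exact (hL01 x).1
      lam_one := fun x => (hL01 x).2
      lam_add := fun k x y => by rw [hLadd, coeff_mul_range] }
  have hlam : ∀ i x, @LambdaOps.lam _ _ inst i x = PowerSeries.coeff i (L x) := fun _ _ => rfl
  -- the values on monomials
  have hLmon : ∀ (a : K) (i : ℕ), L (φ a * ℓ ^ i) =
      PowerSeries.rescale (ℓ ^ i) (PowerSeries.map φ (lamSeries a)) := by
    intro a i
    have h : φ a * ℓ ^ i = AdjoinRoot.mk _ (Polynomial.C a * Polynomial.X ^ i) := by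
      simp [hφ, hℓ]
    rw [h, hL]
    simp [Φ, evalSeries_monomial]
  have hLof : ∀ a, L (φ a) = PowerSeries.map φ (lamSeries a) := fun a => by
    simpa using hLmon a 0
  have hLroot : L ℓ = 1 + PowerSeries.C ℓ * PowerSeries.X := by
    have h := hLmon 1 1
    rw [map_one, one_mul, pow_one, lamSeries_one P] at h
    rw [h]; simp [PowerSeries.rescale_X]
  have hroot : ∀ i : ℕ, 2 ≤ i → @LambdaOps.lam _ _ inst i ℓ = 0 := by
    intro i hi
    obtain ⟨j, rfl⟩ := le_iff_exists_add.mp hi
    rw [hlam, hLroot, show 2 + j = j + 1 + 1 by omega]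
    simp [PowerSeries.coeff_one]
  -- in `B`
  let LB : AdjoinRoot (KRR.extPoly P e) → PowerSeries B := fun x => PowerSeries.map ι (L x)
  have hLBunit : ∀ x, IsUnit (LB x) := fun x => (Units.isUnit _).map _
  have hLBadd : ∀ x y, LB (x + y) = LB x * LB y := fun x y => by simp [LB, hLadd]
  have hLBroot : ∀ x, LB (x * ℓ) = PowerSeries.rescale (w 0) (LB x) := by
    intro x
    obtain ⟨h, rfl⟩ := AdjoinRoot.mk_surjective x
    induction h using Polynomial.induction_on' with
    | add p q hp hq => rw [map_add, add_mul, hLBadd, hp, hq, hLBadd, map_mul]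
    | monomial j b =>
      rw [← Polynomial.C_mul_X_pow_eq_monomial,
        show AdjoinRoot.mk (KRR.extPoly P e) (Polynomial.C b * Polynomial.X ^ j) = φ b * ℓ ^ j by simp [hφ, hℓ],
        mul_assoc, ← pow_succ]
      simp only [LB, hLmon]
      ext k
      simp [hw0, mul_pow, pow_succ]
      ring
  have hLBe : ∀ x, LB (x * φ e) = ∏ i, PowerSeries.rescale (w i) (LB x) := by
    intro x
    obtain ⟨h, rfl⟩ := AdjoinRoot.mk_surjective x
    induction h using Polynomial.induction_on' with
    | add p q hp hq =>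
      rw [map_add, add_mul, hLBadd, hp, hq, ← Finset.prod_mul_distrib]
      exact Finset.prod_congr rfl fun i _ => by rw [hLBadd, map_mul]
    | monomial j b =>
      rw [← Polynomial.C_mul_X_pow_eq_monomial,
        show AdjoinRoot.mk (KRR.extPoly P e) (Polynomial.C b * Polynomial.X ^ j) = φ b * ℓ ^ j by simp [hφ, hℓ],
        show φ b * ℓ ^ j * φ e = φ (b * e) * ℓ ^ j by rw [map_mul]; ring]
      simp only [LB, hLmon]
      have hr : ∀ c, PowerSeries.map ι (PowerSeries.rescale (ℓ ^ j) (PowerSeries.map φ (lamSeries c))) =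
          PowerSeries.rescale (ι ℓ ^ j) (PowerSeries.map (algebraMap K B) (lamSeries c)) := by
        intro c; ext k; simp [RingHom.algebraMap_toAlgebra]
      rw [hr, hr, show b * e = b * LambdaOps.lam 1 e by rw [LambdaOps.lam_one],
        map_lamSeries_mul_lam hK he hm hw b 1, Finset.powersetCard_one, Finset.prod_map, map_prod]
      refine Finset.prod_congr rfl fun i _ => ?_
      simp [PowerSeries.rescale_rescale, mul_comm]
  have hLBq : ∀ x, LB (x * (φ e - ℓ)) = ∏ i : Fin m, PowerSeries.rescale (w i.succ) (LB x) := by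
    intro x
    apply ((hLBunit x).map (PowerSeries.rescale (w 0))).mul_right_cancel
    rw [← hLBroot, ← hLBadd, ← mul_add, sub_add_cancel, hLBe, Fin.prod_univ_succ, mul_comm, hLBroot]
  -- units
  have hwu : ∀ i, IsUnit (w i) := by
    have h := esymm_roots he hm hw (m + 1)
    have hp : Finset.powersetCard (m + 1) (Finset.univ : Finset (Fin (m + 1))) = {Finset.univ} := by
      simpa using Finset.powersetCard_self (Finset.univ : Finset (Fin (m + 1)))
    rw [Finset.esymm_map_val, hp, Finset.sum_singleton] at h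
    have hu' : IsUnit (∏ i, w i) := by
      rw [h]
      refine IsUnit.map _ ?_
      simpa [show (P.aug e).toNat = m + 1 by omega] using P.isUnit_lam e he
    intro i
    exact isUnit_of_dvd_unit (Finset.dvd_prod_of_mem w (Finset.mem_univ i)) hu'
  -- augmentation
  have haug1 : Polynomial.eval₂ P.aug (1 : ℤ) (KRR.extPoly P e) = 0 := by
    have h := congrArg (PowerSeries.coeff 0) (map_aug_negSeries hK he)
    have h2 : Polynomial.eval₂ P.aug (1 : ℤ) (KRR.extPoly P e) =
        ∑ i ∈ range (m + 2), PowerSeries.coeff i (PowerSeries.map P.aug (negSeries e)) := by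
      rw [KRR.extPoly, show (P.aug e).toNat = m + 1 by omega, Polynomial.eval₂_finsetSum]
      simp
    rw [h2, map_aug_negSeries hK he, show (P.aug e).toNat = m + 1 by omega]
    have hc : ((1 - PowerSeries.X : PowerSeries ℤ) ^ (m + 1)) =
        (((1 - Polynomial.X) ^ (m + 1) : Polynomial ℤ) : PowerSeries ℤ) := by simp
    have hd : ((1 - Polynomial.X) ^ (m + 1) : Polynomial ℤ).natDegree < m + 2 := by
      refine Nat.lt_succ_iff.mpr (Polynomial.natDegree_pow_le.trans ?_)
      have : (1 - Polynomial.X : Polynomial ℤ).natDegree ≤ 1 := by compute_degree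
      calc (m + 1) * (1 - Polynomial.X : Polynomial ℤ).natDegree ≤ (m + 1) * 1 := Nat.mul_le_mul_left _ this
        _ = m + 1 := mul_one _
    have he1 := Polynomial.eval_eq_sum_range' hd (1 : ℤ)
    simp only [one_pow, mul_one, Polynomial.eval_pow, Polynomial.eval_sub, Polynomial.eval_one,
      Polynomial.eval_X, sub_self, zero_pow (Nat.succ_ne_zero m)] at he1
    rw [hc]
    simp only [Polynomial.coeff_coe]
    exact he1.symm
  let ε : AdjoinRoot (KRR.extPoly P e) →+* ℤ := AdjoinRoot.lift P.aug 1 haug1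
  have hεof : ∀ a, ε (φ a) = P.aug a := fun a => AdjoinRoot.lift_of haug1
  have hεroot : ε ℓ = 1 := AdjoinRoot.lift_root haug1
  let q := φ e - ℓ
  have hεq : ε q = (m : ℤ) := by
    simp only [q, map_sub, hεof, hεroot, hm]; push_cast; ring
  -- positive elements
  let M : Set (AdjoinRoot (KRR.extPoly P e)) :=
    {x | ∃ a ∈ P.pos, ∃ i j : ℕ, (j = 0 ∨ 1 ≤ m) ∧ x = φ a * ℓ ^ i * q ^ j}
  let good : AdjoinRoot (KRR.extPoly P e) → Prop := fun x =>
    ∃ n : ℕ, 0 < n ∧ ε x = n ∧ PolyUnitTop (LB x) n
  have hgoodM : ∀ x ∈ M, good x := by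
    rintro x ⟨a, ha, i, j, hj, rfl⟩
    induction j with
    | zero =>
      refine ⟨(P.aug a).toNat, by have := P.aug_pos a ha; omega, ?_, ?_⟩
      · simp [map_mul, hεof, hεroot, aug_toNat ha]
      · simp only [pow_zero, mul_one, LB, hLmon]
        have hr : PowerSeries.map ι (PowerSeries.rescale (ℓ ^ i) (PowerSeries.map φ (lamSeries a))) =
            PowerSeries.rescale (w 0 ^ i) (PowerSeries.map (ι.comp φ) (lamSeries a)) := by
          ext k; simp [hw0]
        rw [hr]
        refine PolyUnitTop.rescale ⟨fun k hk => ?_, ?_⟩ ((hwu 0).pow i)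
        · simp [lam_eq_zero_of_toNat_lt ha hk]
        · simpa using (P.isUnit_lam a ha).map (ι.comp φ)
    | succ j ih =>
      have hm1 : 1 ≤ m := hj.resolve_left (by omega)
      obtain ⟨n, hn, hεn, hP⟩ := ih (Or.inr hm1)
      refine ⟨m * n, Nat.mul_pos hm1 hn, ?_, ?_⟩
      · rw [pow_succ, ← mul_assoc, map_mul, hεn, hεq]; push_cast; ring
      · rw [pow_succ, ← mul_assoc]
        change PolyUnitTop (LB (φ a * ℓ ^ i * q ^ j * (φ e - ℓ))) _
        rw [hLBq]
        have := PolyUnitTop.prod (s := (Finset.univ : Finset (Fin m))) (a := n)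
          (f := fun k => PowerSeries.rescale (w k.succ) (LB (φ a * ℓ ^ i * q ^ j)))
          (fun k _ => hP.rescale (hwu _))
        simpa using this
  have hgoodC : ∀ x ∈ AddSubsemigroup.closure M, good x := by
    intro x hx
    induction hx using AddSubsemigroup.closure_induction with
    | mem x h => exact hgoodM x h
    | add x y _ _ hx hy =>
      obtain ⟨a, ha, hεa, hPa⟩ := hx
      obtain ⟨b, hb, hεb, hPb⟩ := hy
      exact ⟨a + b, by omega, by rw [map_add, hεa, hεb]; push_cast; rfl, by rw [hLBadd]; exact hPa.mul hPb⟩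
  have hMof : ∀ a ∈ P.pos, φ a ∈ M := fun a ha => ⟨a, ha, 0, 0, Or.inl rfl, by simp⟩
  have hMmul : ∀ x ∈ M, ∀ y ∈ M, x * y ∈ M := by
    rintro x ⟨a, ha, i, j, hj, rfl⟩ y ⟨b, hb, i', j', hj', rfl⟩
    exact ⟨a * b, P.mul_mem a b ha hb, i + i', j + j', by omega, by rw [map_mul, pow_add, pow_add]; ring⟩
  have hmul : ∀ x y, x ∈ AddSubsemigroup.closure M → y ∈ AddSubsemigroup.closure M →
      x * y ∈ AddSubsemigroup.closure M := by
    intro x y hx hy
    induction hx using AddSubsemigroup.closure_induction with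
    | mem x h =>
      induction hy using AddSubsemigroup.closure_induction with
      | mem y h' => exact AddSubsemigroup.subset_closure (hMmul x h y h')
      | add y y' _ _ hy hy' => rw [mul_add]; exact add_mem hy hy'
    | add x x' _ _ hx hx' => rw [add_mul]; exact add_mem hx hx'
  let Pe : @PosStructure _ _ inst :=
    { aug := ε
      aug_surjective := fun n => ⟨φ (P.aug_surjective n).choose, by
        rw [hεof]; exact (P.aug_surjective n).choose_spec⟩
      pos := (AddSubsemigroup.closure M : Set _)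
      add_mem := fun x y hx hy => add_mem hx hy
      mul_mem := hmul
      natCast_mem := fun n hn => AddSubsemigroup.subset_closure (by simpa using hMof _ (P.natCast_mem n hn))
      exists_sub := fun x => by
        let S := AddSubgroup.closure (AddSubsemigroup.closure M : Set (AdjoinRoot (KRR.extPoly P e)))
        suffices hS : x ∈ S by
          have h1 : (1 : AdjoinRoot (KRR.extPoly P e)) ∈ AddSubsemigroup.closure M :=
            AddSubsemigroup.subset_closure (by simpa using hMof 1 one_mem_pos)
          induction hS using AddSubgroup.closure_induction with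
          | mem y hy => exact ⟨y + 1, 1, add_mem hy h1, h1, by ring⟩
          | zero => exact ⟨1, 1, h1, h1, by ring⟩
          | add a b _ _ ha hb =>
            obtain ⟨p, p', hp, hp', rfl⟩ := ha
            obtain ⟨r, r', hr, hr', rfl⟩ := hb
            exact ⟨p + r, p' + r', add_mem hp hr, add_mem hp' hr', by ring⟩
          | neg a _ ha =>
            obtain ⟨p, p', hp, hp', rfl⟩ := ha
            exact ⟨p', p, hp', hp, by ring⟩
        obtain ⟨h, rfl⟩ := AdjoinRoot.mk_surjective x
        induction h using Polynomial.induction_on' with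
        | add p r hp hr => rw [map_add]; exact add_mem hp hr
        | monomial j b =>
          obtain ⟨a, c, ha, hc, rfl⟩ := P.exists_sub b
          rw [← Polynomial.C_mul_X_pow_eq_monomial,
            show AdjoinRoot.mk (KRR.extPoly P e) (Polynomial.C (a - c) * Polynomial.X ^ j) =
              φ a * ℓ ^ j - φ c * ℓ ^ j by simp [hφ, hℓ, sub_mul]]
          exact sub_mem (AddSubgroup.subset_closure (AddSubsemigroup.subset_closure ⟨a, ha, j, 0, Or.inl rfl, by simp⟩))
            (AddSubgroup.subset_closure (AddSubsemigroup.subset_closure ⟨c, hc, j, 0, Or.inl rfl, by simp⟩))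
      aug_pos := fun x hx => by
        obtain ⟨n, hn, hεn, -⟩ := hgoodC x hx
        rw [hεn]; exact_mod_cast hn
      lam_eq_zero := fun x hx i hi => by
        obtain ⟨n, hn, hεn, hP⟩ := hgoodC x hx
        apply hι
        rw [hεn] at hi
        have := hP.1 i (by exact_mod_cast hi)
        simpa [LB, hlam] using this
      isUnit_lam := fun x hx => by
        obtain ⟨n, hn, hεn, hP⟩ := hgoodC x hx
        apply hu
        rw [hεn, Int.toNat_natCast, hlam]
        simpa [LB] using hP.2 }
  refine ⟨inst, Pe, fun i a => ?_, hroot, ⟨fun i a => ?_, hinjφ, hεof, fun a ha =>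
    AddSubsemigroup.subset_closure (hMof a ha)⟩, ⟨AddSubsemigroup.subset_closure
      ⟨1, one_mem_pos, 1, 0, Or.inl rfl, by simp⟩, hεroot⟩, fun h2 => ?_⟩
  · rw [hlam, hLof]; simp
  · change φ (LambdaOps.lam i a) = PowerSeries.coeff i (L (φ a))
    rw [hLof]; simp
  · exact AddSubsemigroup.subset_closure ⟨1, one_mem_pos, 0, 1, Or.inr (by omega), by simp [q]⟩

end Groth.LambdaCore
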