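import Groth.Agent.LambdaCore.Gamma
import Groth.Agent.LambdaCore.Congruence
import Groth.Agent.LambdaCore.Elementary

/-!
# The γ-filtration of an elementary extension
-/

set_option autoImplicit false
universe u

open Finset LambdaRing

namespace Groth.LambdaCore

variable {K : Type u} [CommRing K] [LambdaOps K] {P : PosStructure K}

theorem sum_gamma_mul_pow_root_sub_one (hK : HasSplitting K P) {e : K} (he : e ∈ P.pos) {r : ℕ}
    (hr : P.aug e = r + 1) :
    ∑ i ∈ range (r + 2), (-1 : AdjoinRoot (KRR.extPoly P e)) ^ i *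
      AdjoinRoot.of (KRR.extPoly P e) (gamma i (e - (P.aug e : K))) *
        (AdjoinRoot.root (KRR.extPoly P e) - 1) ^ (r + 1 - i) = 0 := by
  classical
  have := nontrivial_of_posStructure P
  obtain ⟨hmon, hdeg⟩ := extPoly_monic_natDegree P e
  rw [show (P.aug e).toNat = r + 1 by omega] at hdeg
  obtain ⟨B, _, ι, hι, -, w, hw0, hw⟩ := exists_roots_root hmon hdeg
  let : Algebra K B := (ι.comp (AdjoinRoot.of (KRR.extPoly P e))).toAlgebra
  have hm : P.aug e = (r + 1 : ℕ) := by rw [hr]; push_cast; rfl
  -- the elementary symmetric functions of `w - 1`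
  have hgam : ∀ i, (Finset.univ.val.map fun a => w a - 1).esymm i =
      ι (AdjoinRoot.of (KRR.extPoly P e) (gamma i (e - (P.aug e : K)))) := by
    intro i
    let p : MvPolynomial (Fin (r + 1)) K :=
      (Finset.univ.val.map fun a => (MvPolynomial.X a - 1 : MvPolynomial (Fin (r + 1)) K)).esymm i
    have hp : p.IsSymmetric := by
      intro σ
      have hu : (Finset.univ.val.map σ : Multiset (Fin (r + 1))) = Finset.univ.val := by
        rw [← Equiv.coe_toEmbedding, ← Finset.map_val, Finset.map_univ_equiv]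
      change (MvPolynomial.rename σ).toRingHom _ = _
      rw [map_multiset_esymm, Multiset.map_map]
      simp only [p]
      conv_rhs => rw [← hu, Multiset.map_map]
      simp
    obtain ⟨c, hc⟩ := exists_eq_algebraMap_of_isSymmetric.{u, u} hp (fun k => LambdaOps.lam k e)
    have hev : ∀ (C : Type u) [CommRing C] [Algebra K C] (z : Fin (r + 1) → C),
        MvPolynomial.aeval z p = (Finset.univ.val.map fun a => z a - 1).esymm i := by
      intro C _ _ z
      change (MvPolynomial.aeval z).toRingHom _ = _
      rw [map_multiset_esymm, Multiset.map_map]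
      simp
    have h1 := hc B w (esymm_roots he hm hw)
    rw [hev B w] at h1
    rw [h1]
    change ι (AdjoinRoot.of (KRR.extPoly P e) c) = _
    congr 2
    obtain ⟨L, f, hf, hL, v', hv', hfe'⟩ := exists_split hK he
    have hmn : (P.aug e).toNat = r + 1 := by omega
    let v : Fin (r + 1) → L.carrier := fun a => v' (Fin.cast hmn.symm a)
    have hv : ∀ a, L.posStr.IsLine (v a) := fun a => hv' _
    have hfe : f e = ∑ a, v a := by
      rw [hfe']; exact Fintype.sum_equiv (finCongr hmn) _ _ fun a => rfl
    let : Algebra K L.carrier := f.toAlgebra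
    have h2 := hc L.carrier v (fun k => by
      change _ = f _
      rw [hf.isLambdaHom, hfe, lam_sum_lines hv])
    rw [hev L.carrier v] at h2
    change _ = f c at h2
    apply hf.injective
    rw [← h2, map_gamma hf.isLambdaHom, map_sub, map_intCast, hfe, hm, Int.cast_natCast,
      show ((r + 1 : ℕ) : L.carrier) = (Fintype.card (Fin (r + 1)) : L.carrier) by simp,
      gamma_sum_lines_sub_card hv]
  apply hι
  rw [map_zero, map_sum]
  have h := congrArg (Polynomial.eval (w 0 - 1))
    (Multiset.prod_X_sub_X_eq_sum_esymm (Finset.univ.val.map fun a => w a - 1))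
  rw [Polynomial.eval_multiset_prod, Multiset.prod_eq_zero] at h
  · refine Eq.trans (Finset.sum_congr ?_ fun i hi => ?_) ((Polynomial.eval_finsetSum _ _ _).symm.trans h.symm)
    · simp
    · simp only [map_mul, map_pow, map_neg, map_one, ← hgam, map_sub, ← hw0, Polynomial.eval_mul,
        Polynomial.eval_pow, Polynomial.eval_neg, Polynomial.eval_one, Polynomial.eval_C,
        Polynomial.eval_X, Multiset.card_map, Finset.card_val, Finset.card_univ, Fintype.card_fin]
      ring
  · simp only [Multiset.map_map]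
    exact Multiset.mem_map.mpr ⟨0, Finset.mem_univ (0 : Fin (r + 1)), by simp⟩

set_option maxHeartbeats 1000000 in
theorem gammaFiltration_elementaryExtension (hK : HasSplitting K P) {e : K} (he : e ∈ P.pos) {r : ℕ}
    (hr : P.aug e = r + 1)
    (inst : LambdaOps (AdjoinRoot (KRR.extPoly P e))) (Pe : @PosStructure _ _ inst)
    (hext : @IsExtension K _ _ _ _ inst P Pe (AdjoinRoot.of (KRR.extPoly P e)))
    (hline : @PosStructure.IsLine _ _ inst Pe (AdjoinRoot.root (KRR.extPoly P e)))
    (hsplit : @HasSplitting _ _ inst Pe) (k : ℕ) :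
    @gammaFiltration _ _ inst Pe k =
      ⨆ i ∈ Finset.range (r + 1), AddSubgroup.map
        ((AddMonoidHom.mulRight ((AdjoinRoot.root (KRR.extPoly P e) - 1) ^ i)).comp
          (AdjoinRoot.of (KRR.extPoly P e)).toAddMonoidHom)
        (gammaFiltration P (k - i)) := by
  let := inst
  set φ := AdjoinRoot.of (KRR.extPoly P e) with hφ
  set ℓ := AdjoinRoot.root (KRR.extPoly P e) with hℓ
  let G : ℕ → AddSubgroup (AdjoinRoot (KRR.extPoly P e)) := fun n =>
    ⨆ i ∈ Finset.range (r + 1), AddSubgroup.map
      ((AddMonoidHom.mulRight ((ℓ - 1) ^ i)).comp φ.toAddMonoidHom) (gammaFiltration P (n - i))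
  change gammaFiltration Pe k = G k
  have hFe := isGraded_gammaFiltration Pe
  have hF := isGraded_gammaFiltration P
  have hz1 : ℓ - 1 ∈ gammaFiltration Pe 1 :=
    mem_gammaFiltration_one (by rw [map_sub, hline.2, map_one, sub_self])
  apply le_antisymm
  swap
  · -- `G k ≤ F^k`
    refine iSup₂_le fun i hi => ?_
    rintro _ ⟨y, hy, rfl⟩
    change φ y * (ℓ - 1) ^ i ∈ gammaFiltration Pe k
    have h1 : φ y ∈ gammaFiltration Pe (k - i) := by
      refine map_mem_of_gammaGraded φ hFe (fun x => by rw [gammaFiltration_zero]; exact AddSubgroup.mem_top _) (fun x hx => ⟨by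
        rw [← PowerSeries.coeff_zero_eq_constantCoeff_apply, PowerSeries.coeff_map, coeff_gammaSeries,
          gamma_zero', map_one], fun n => ?_⟩) hy
      rw [PowerSeries.coeff_map, coeff_gammaSeries, map_gamma hext.isLambdaHom]
      exact gamma_mem_gammaFiltration (by rw [hext.aug_comp, hx]) n
    have h2 : (ℓ - 1) ^ i ∈ gammaFiltration Pe i := by
      clear h1 hy hi
      induction i with
      | zero => simp
      | succ i ih => rw [pow_succ]; exact hFe.mul_mem ih hz1
    exact hFe.antitone (show k ≤ k - i + i by omega) (hFe.mul_mem h1 h2)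
  -- the other inclusion
  have hmono : Antitone G := fun a b hab => iSup₂_mono fun i _ =>
    AddSubgroup.map_mono (hF.antitone (Nat.sub_le_sub_right hab i))
  have hbase : ∀ (n : ℕ) {a : ℕ} {y : K}, y ∈ gammaFiltration P a → φ y * (ℓ - 1) ^ n ∈ G (a + n) := by
    intro n
    induction n using Nat.strong_induction_on with
    | _ n ih =>
      intro a y hy
      rcases le_or_gt n r with hn | hn
      · refine AddSubgroup.mem_iSup_of_mem n (AddSubgroup.mem_iSup_of_mem (by simp; omega) ⟨y, ?_, rfl⟩)
        rw [Nat.add_sub_cancel]; exact hy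
      obtain ⟨c, rfl⟩ : ∃ c, n = r + 1 + c := ⟨n - (r + 1), by omega⟩
      have h := sum_gamma_mul_pow_root_sub_one hK he hr
      rw [← hφ, ← hℓ, Finset.sum_range_succ'] at h
      simp only [pow_zero, gamma_zero', map_one, mul_one, one_mul, tsub_zero] at h
      rw [pow_add, ← mul_assoc, eq_neg_of_add_eq_zero_right h, mul_neg, neg_mul, Finset.mul_sum,
        Finset.sum_mul]
      refine neg_mem (AddSubgroup.sum_mem _ fun i hi => ?_)
      simp at hi
      have hg : (-1 : K) ^ (i + 1) * (y * gamma (i + 1) (e - (P.aug e : K))) ∈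
          gammaFiltration P (a + (i + 1)) := by
        simpa using hF.mul_mem (a := 0) (x := (-1 : K) ^ (i + 1)) (by simp)
          (hF.mul_mem hy (gamma_mem_gammaFiltration (by simp) (i + 1)))
      have hmem := ih (r + 1 - (i + 1) + c) (by omega) hg
      rw [show a + (i + 1) + (r + 1 - (i + 1) + c) = a + (r + 1 + c) by omega] at hmem
      convert hmem using 1
      simp only [map_mul, map_pow, map_neg, map_one, pow_add]
      ring
  have hG0 : ∀ x, x ∈ G 0 := by
    intro x
    obtain ⟨h, rfl⟩ := AdjoinRoot.mk_surjective x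
    induction h using Polynomial.induction_on' with
    | add p q hp hq => rw [map_add]; exact add_mem hp hq
    | monomial j b =>
      rw [← Polynomial.C_mul_X_pow_eq_monomial, map_mul, map_pow, AdjoinRoot.mk_C, AdjoinRoot.mk_X,
        ← hℓ, ← hφ, show ℓ = (ℓ - 1) + 1 by ring, add_pow, Finset.mul_sum]
      refine AddSubgroup.sum_mem _ fun i _ => ?_
      have hi := hmono (Nat.zero_le (0 + i))
        (hbase i (a := 0) (y := b * (j.choose i : K)) (by simp))
      convert hi using 1
      simp only [map_mul, map_natCast, one_pow, mul_one]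
      ring
  have hGmul : ∀ {a b : ℕ} {x y : AdjoinRoot (KRR.extPoly P e)}, x ∈ G a → y ∈ G b → x * y ∈ G (a + b) := by
    intro a b x y hx hy
    have key : ∀ i ∈ range (r + 1), ∀ y₁ ∈ gammaFiltration P (a - i),
        φ y₁ * (ℓ - 1) ^ i * y ∈ G (a + b) := by
      intro i hi y₁ hy₁
      have hle : G b ≤ (G (a + b)).comap (AddMonoidHom.mulLeft (φ y₁ * (ℓ - 1) ^ i)) := by
        refine iSup₂_le fun j hj => ?_
        rintro _ ⟨y₂, hy₂, rfl⟩
        change φ y₁ * (ℓ - 1) ^ i * (φ y₂ * (ℓ - 1) ^ j) ∈ G (a + b)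
        refine hmono (show a + b ≤ (a - i + (b - j)) + (i + j) by omega) ?_
        convert hbase (i + j) (hF.mul_mem hy₁ hy₂) using 1
        rw [map_mul, pow_add]; ring
      exact hle hy
    have hle : G a ≤ (G (a + b)).comap (AddMonoidHom.mulRight y) := by
      refine iSup₂_le fun i hi => ?_
      rintro _ ⟨y₁, hy₁, rfl⟩
      exact key i hi y₁ hy₁
    exact hle hx
  have hG : IsGraded G := ⟨hG0 1, hmono, hGmul⟩
  let S := gammaGradedSet (RingHom.id (AdjoinRoot (KRR.extPoly P e))) G hG
  have hS : ∀ x, x ∈ S ↔ GradedSeries G (gammaSeries x) := fun x => by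
    change GradedSeries G _ ↔ _
    rw [PowerSeries.map_id]; rfl
  have hSK : ∀ y : K, P.aug y = 0 → φ y ∈ S := by
    intro y hy
    rw [hS]
    refine ⟨by simp, fun n => ?_⟩
    rw [coeff_gammaSeries, ← map_gamma hext.isLambdaHom]
    simpa using hbase 0 (gamma_mem_gammaFiltration hy n)
  have hz : ℓ - 1 ∈ G 1 := by
    simpa using hbase 1 (a := 0) (y := (1 : K)) (by simp)
  have hv : ∀ j : ℕ, ℓ ^ j - 1 ∈ G 1 ∧ ℓ ^ j - 1 ∈ S := by
    intro j
    have h1 : ℓ ^ j - 1 ∈ G 1 := by
      rw [← geom_sum_mul]
      simpa using hGmul (hG0 (∑ i ∈ range j, ℓ ^ i)) hz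
    refine ⟨h1, ?_⟩
    rw [hS, gammaSeries_line_sub_one (IsLine.pow hline j)]
    exact gradedSeries_one_add_C_mul_X hG h1
  have hprod : ∀ a ∈ P.pos, ∀ j : ℕ, (φ a - (P.aug a : AdjoinRoot (KRR.extPoly P e))) * ℓ ^ j ∈ S := by
    intro a ha j
    obtain ⟨m, hm⟩ : ∃ m : ℕ, P.aug a = m := ⟨_, (aug_toNat ha).symm⟩
    rw [hm, Int.cast_natCast]
    suffices h : φ a * ℓ ^ j - (m : AdjoinRoot (KRR.extPoly P e)) ∈ S by
      have := S.sub_mem h (S.nsmul_mem (hv j).2 m)
      convert this using 1
      rw [nsmul_eq_mul]; ring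
    obtain ⟨L, f, hf, hL, v', hv', hfe'⟩ := exists_split hsplit (hext.pos_subset a ha)
    have hmn : (Pe.aug (φ a)).toNat = m := by rw [hext.aug_comp, hm, Int.toNat_natCast]
    let v : Fin m → L.carrier := fun i => v' (Fin.cast hmn.symm i)
    have hvl : ∀ i, L.posStr.IsLine (v i) := fun i => hv' _
    have hfe : f (φ a) = ∑ i, v i := by
      rw [hfe']; exact Fintype.sum_equiv (finCongr hmn) _ _ fun i => rfl
    let R : PowerSeries (AdjoinRoot (KRR.extPoly P e)) := ∑ i ∈ range (m + 1),
      PowerSeries.C ((ℓ ^ j) ^ i * φ (gamma i (a - (m : K)))) * PowerSeries.X ^ i *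
        (1 + PowerSeries.C (ℓ ^ j - 1) * PowerSeries.X) ^ (m - i)
    have hR : gammaSeries (φ a * ℓ ^ j - (m : AdjoinRoot (KRR.extPoly P e))) = R := by
      apply PowerSeries.map_injective f hf.injective
      rw [map_gammaSeries hf.isLambdaHom]
      have hx : f (φ a * ℓ ^ j - (m : AdjoinRoot (KRR.extPoly P e))) =
          ∑ i, (v i * f (ℓ ^ j) - 1) := by
        simp [map_sub, map_mul, hfe, Finset.sum_mul]
      have hfv := IsExtension.isLine hf (IsLine.pow hline j)
      rw [hx, gammaSeries_sum, Finset.prod_congr rfl fun i _ =>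
        gammaSeries_line_sub_one (IsLine.mul (hvl i) hfv)]
      have hterm : ∀ i, 1 + PowerSeries.C (v i * f (ℓ ^ j) - 1) * PowerSeries.X =
          PowerSeries.C (f (ℓ ^ j)) * PowerSeries.C (v i - 1) * PowerSeries.X +
            (1 + PowerSeries.C (f (ℓ ^ j) - 1) * PowerSeries.X) := by
        intro i; simp only [map_sub, map_one, map_mul]; ring
      simp only [hterm, R, map_sum]
      rw [Finset.prod_add]
      rw [Finset.sum_powerset, Finset.card_univ, Fintype.card_fin]
      refine Finset.sum_congr rfl fun i _ => ?_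
      have hg : f (φ (gamma i (a - (m : K)))) = (Finset.univ.val.map fun b => v b - 1).esymm i := by
        rw [map_gamma hext.isLambdaHom, map_gamma hf.isLambdaHom, map_sub, map_natCast, map_sub,
          map_natCast, hfe, ← gamma_sum_lines_sub_card hvl, Fintype.card_fin]
      simp only [map_mul, map_pow, map_add, map_one, PowerSeries.map_C, PowerSeries.map_X, map_sub, hg,
        Finset.esymm_map_val, map_sum, Finset.sum_mul, Finset.mul_sum]
      refine Finset.sum_congr rfl fun s hs => ?_
      rw [Finset.mem_powersetCard] at hs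
      simp only [Finset.prod_mul_distrib, Finset.prod_const, hs.2, Finset.card_sdiff_of_subset hs.1,
        Finset.card_univ, Fintype.card_fin, map_sub, map_one, map_prod]
    rw [hS, hR]
    refine ⟨by rw [← hR]; simp, fun n => ?_⟩
    simp only [R, map_sum]
    refine AddSubgroup.sum_mem _ fun i _ => ?_
    rw [mul_assoc, PowerSeries.coeff_C_mul, PowerSeries.coeff_X_pow_mul']
    split_ifs with hin
    · have h1 : (ℓ ^ j) ^ i * φ (gamma i (a - (m : K))) ∈ G i := by
        simpa using hGmul (hG0 ((ℓ ^ j) ^ i))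
          (hbase 0 (gamma_mem_gammaFiltration (P := P) (x := a - (m : K)) (by simp [hm]) i))
      have h2 := ((gradedSeries_one_add_C_mul_X hG (hv j).1).pow hG (m - i)).2 (n - i)
      have := hGmul h1 h2
      rwa [Nat.add_sub_cancel' hin] at this
    · rw [mul_zero]; exact zero_mem _
  have hall : ∀ x : AdjoinRoot (KRR.extPoly P e), x - (Pe.aug x : AdjoinRoot (KRR.extPoly P e)) ∈ S := by
    intro x
    obtain ⟨h, rfl⟩ := AdjoinRoot.mk_surjective x
    induction h using Polynomial.induction_on' with
    | add p q hp hq =>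
      convert S.add_mem hp hq using 1
      rw [map_add, map_add, Int.cast_add]; ring
    | monomial j b =>
      obtain ⟨a, c, ha, hc, rfl⟩ := P.exists_sub b
      rw [← Polynomial.C_mul_X_pow_eq_monomial, map_mul, map_pow, AdjoinRoot.mk_C, AdjoinRoot.mk_X,
        ← hℓ, ← hφ, map_mul Pe.aug, map_pow Pe.aug, hline.2, hext.aug_comp, one_pow, mul_one]
      convert S.add_mem (S.sub_mem (hprod a ha j) (hprod c hc j))
        (S.zsmul_mem (hv j).2 (P.aug a - P.aug c)) using 1
      rw [map_sub, map_sub, zsmul_eq_mul, Int.cast_sub]; ring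
  intro x hx
  refine map_mem_of_gammaGraded (RingHom.id _) hG hG0 (fun y hy => ?_) hx
  rw [PowerSeries.map_id]
  have := hall y
  rw [hy, Int.cast_zero, sub_zero] at this
  exact (hS y).mp this

end Groth.LambdaCore
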