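import Groth.Agent.LambdaCore.ElementaryRRBase
import Mathlib.RingTheory.Localization.Away.Basic
import Mathlib.RingTheory.TensorProduct.Basic
import Mathlib.RingTheory.FiniteType
import Mathlib.RingTheory.Nilpotent.Basic

/-!
# Adams–Riemann–Roch for an elementary projection
-/

set_option autoImplicit false
universe u v w

open Finset LambdaRing TensorProduct

namespace Groth.LambdaCore

variable {K : Type u} [CommRing K] [LambdaOps K] {P : PosStructure K}

theorem bott_eq_aeval (j : ℕ) (x : K) {m : ℕ} (hm : P.aug x = m) :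
    KRR.bott P j x = MvPolynomial.aeval (fun i : Fin m => LambdaOps.lam ((i : ℕ) + 1) x) (KRR.bottPoly j m) := by
  have key : ∀ m' : ℕ, m' = m →
      MvPolynomial.aeval (fun i : Fin m' => LambdaOps.lam (i.1 + 1) x) (KRR.bottPoly j m') =
        MvPolynomial.aeval (fun i : Fin m => LambdaOps.lam (i.1 + 1) x) (KRR.bottPoly j m) := by
    rintro m' rfl; rfl
  exact key _ (by rw [hm, Int.toNat_natCast])

theorem aug_lam_eq_esymm_one (hK : HasSplitting K P) {e : K} (he : e ∈ P.pos) {m : ℕ} (hm : P.aug e = m)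
    (k : ℕ) : P.aug (LambdaOps.lam k e) = (Finset.univ.val.map fun _ : Fin m => (1 : ℤ)).esymm k := by
  obtain ⟨L, f, hf, -, w, hw, hfe⟩ := exists_split hK he
  rw [← hf.aug_comp, hf.isLambdaHom, hfe, lam_sum_lines hw, map_multiset_esymm, Multiset.map_map]
  have h : Multiset.map (L.posStr.aug ∘ w) Finset.univ.val = Multiset.replicate m 1 := by
    rw [Multiset.map_congr (f := L.posStr.aug ∘ w) rfl (g := fun _ => (1 : ℤ)) (fun a _ => (hw a).2), Multiset.map_const']
    simp [hm]
  rw [h, Multiset.map_const', Finset.card_val, Finset.card_univ, Fintype.card_fin]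

theorem triangular_solve {T : Type v} [CommRing T] {K' : Type w} [CommRing K'] (ι : K' →+* T) (τ : T)
    {r : ℕ} (hind : ∀ q : ℕ → K', ∑ n ∈ range (r + 1), ι (q n) * τ ^ n = 0 → ∀ n ≤ r, q n = 0)
    (a : ℕ → K') (ha : a 0 = 1) (g : ℕ → K')
    (h : ∑ n ∈ range (r + 1), ι (g n) * ∑ k ∈ range (n + 1), ι (a k) * τ ^ (n - k) = 1) :
    ∀ n ≤ r, g n = if n = 0 then 1 else 0 := by
  let b : ℕ → K' := fun i => ∑ n ∈ Finset.Icc i r, g n * a (n - i)
  have h' : ∑ i ∈ range (r + 1), ι (b i) * τ ^ i = 1 := by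
    rw [← h]
    simp only [b, map_sum, map_mul, Finset.sum_mul, Finset.mul_sum]
    have hin : ∀ n ∈ range (r + 1), ∑ k ∈ range (n + 1), ι (g n) * (ι (a k) * τ ^ (n - k)) =
        ∑ i ∈ range (n + 1), ι (g n) * ι (a (n - i)) * τ ^ i := by
      intro n _
      rw [← Finset.sum_range_reflect]
      refine Finset.sum_congr rfl fun i hi => ?_
      simp at hi
      rw [show n + 1 - 1 - i = n - i by omega, show n - (n - i) = i by omega, mul_assoc]
    rw [Finset.sum_congr rfl hin]
    refine Finset.sum_comm' fun i n => ?_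
    simp only [Finset.mem_range, Finset.mem_Icc]; omega
  have hb : ∀ i ≤ r, b i = if i = 0 then 1 else 0 := by
    intro i hi
    have := hind (fun i => b i - if i = 0 then 1 else 0) ?_ i hi
    · exact sub_eq_zero.mp this
    simp only [map_sub, sub_mul, Finset.sum_sub_distrib, h', apply_ite ι, map_one, map_zero, ite_mul,
      one_mul, zero_mul, Finset.sum_ite_eq', Finset.mem_range]
    simp
  intro n hn
  obtain ⟨d, hd⟩ : ∃ d, n + d = r := ⟨r - n, by omega⟩
  induction d using Nat.strong_induction_on generalizing n with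
  | _ d ih =>
    have h1 := hb n hn
    simp only [b] at h1
    rw [Finset.sum_eq_single n] at h1
    · simpa [ha] using h1
    · intro k hk hne
      rw [Finset.mem_Icc] at hk
      rw [ih (r - k) (by omega) k hk.2 (by omega), if_neg (by omega), zero_mul]
    · intro h2; simp [hn] at h2

variable {e : K} {r : ℕ}

set_option maxHeartbeats 1000000 in
theorem adams_riemann_roch_elementary (hK : HasSplitting K P) (he : e ∈ P.pos) (hr : P.aug e = r + 1)
    (inst : LambdaOps (AdjoinRoot (KRR.extPoly P e))) (Pe : @PosStructure _ _ inst)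
    (hext : @IsExtension K _ _ _ _ inst P Pe (AdjoinRoot.of (KRR.extPoly P e)))
    (hline : @PosStructure.IsLine _ _ inst Pe (AdjoinRoot.root (KRR.extPoly P e)))
    (hsplit : @HasSplitting _ _ inst Pe) (N : ℕ) (hN : @gammaFiltration _ _ inst Pe N = ⊥)
    (f : AdjoinRoot (KRR.extPoly P e) →ₗ[K] K)
    (hf : ∀ i : ℕ, i ≤ r → f (AdjoinRoot.root (KRR.extPoly P e) ^ i) = KRR.sigma i e)
    (linv : AdjoinRoot (KRR.extPoly P e)) (hlinv : linv * AdjoinRoot.root (KRR.extPoly P e) = 1)
    (j : ℕ) (R : Type v) [CommRing R] (ij : R) (hij : (j : R) * ij = 1) :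
    (∃ w : R ⊗[ℤ] (AdjoinRoot (KRR.extPoly P e)), w * ((1 : R) ⊗ₜ[ℤ] @KRR.bott _ _ inst Pe j (AdjoinRoot.of (KRR.extPoly P e) e * linv)) = 1) ∧
    ∀ w : R ⊗[ℤ] (AdjoinRoot (KRR.extPoly P e)), w * ((1 : R) ⊗ₜ[ℤ] @KRR.bott _ _ inst Pe j (AdjoinRoot.of (KRR.extPoly P e) e * linv)) = 1 →
      ∀ x : AdjoinRoot (KRR.extPoly P e),
        (1 : R) ⊗ₜ[ℤ] adams P j (f x) =
          LinearMap.lTensor R f.toAddMonoidHom.toIntLinearMap
            ((j : R ⊗[ℤ] (AdjoinRoot (KRR.extPoly P e))) * w * ((1 : R) ⊗ₜ[ℤ] @adams _ _ inst Pe j x)) := by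
  classical
  let := inst
  have := nontrivial_of_posStructure P
  obtain ⟨hmon, hdeg⟩ := extPoly_monic_natDegree P e
  rw [show (P.aug e).toNat = r + 1 by omega] at hdeg
  set φ := AdjoinRoot.of (KRR.extPoly P e) with hφ
  set ℓ := AdjoinRoot.root (KRR.extPoly P e) with hℓ
  have hs : Pe.aug linv = 1 := by
    have := congrArg Pe.aug hlinv
    rwa [map_mul, hline.2, mul_one, map_one] at this
  -- `θ`
  set θ := MvPolynomial.aeval (fun i : Fin (r + 1) => linv ^ ((i : ℕ) + 1) *
    φ (LambdaOps.lam ((i : ℕ) + 1) e)) (KRR.bottPoly j (r + 1)) with hθdef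
  have hlamx : ∀ i, LambdaOps.lam i (φ e * linv) = linv ^ i * φ (LambdaOps.lam i e) := by
    intro i
    have h := congrArg (PowerSeries.coeff i) (lamSeries_mul_line hsplit hline (φ e * linv))
    rw [mul_assoc, hlinv, mul_one, coeff_lamSeries, PowerSeries.coeff_rescale, coeff_lamSeries,
      ← hext.isLambdaHom] at h
    rw [h, ← mul_assoc, ← mul_pow, hlinv, one_pow, one_mul]
  have hbott : KRR.bott Pe j (φ e * linv) = θ := by
    rw [bott_eq_aeval (P := Pe) j (φ e * linv) (m := r + 1) (by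
      rw [map_mul, hs, mul_one, hext.aug_comp, hr]; push_cast; rfl)]
    simp only [hlamx, hθdef]
    rfl
  have hεθ : Pe.aug θ = (j : ℤ) ^ (r + 1) := by
    rw [hθdef, map_aeval_int]
    have hm : P.aug e = (r + 1 : ℕ) := by rw [hr]; push_cast; rfl
    simp only [map_mul, map_pow, hs, one_pow, one_mul, hext.aug_comp, aug_lam_eq_esymm_one hK he hm]
    rw [aeval_esymm_bottPoly j (fun _ : Fin (r + 1) => (1 : ℤ))]
    simp
  have hnil : ∀ x, Pe.aug x = 0 → x ^ N = 0 := by
    intro x hx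
    have hmem : ∀ n, x ^ n ∈ gammaFiltration Pe n := by
      intro n
      induction n with
      | zero => simp
      | succ n ih => rw [pow_succ]; exact mul_mem_gammaFiltration' ih (mem_gammaFiltration_one hx)
    have := hmem N
    rwa [hN, AddSubgroup.mem_bot] at this
  rw [hbott]
  -- tensors
  let inc : AdjoinRoot (KRR.extPoly P e) →+* R ⊗[ℤ] AdjoinRoot (KRR.extPoly P e) :=
    (Algebra.TensorProduct.includeRight (R := ℤ) (A := R) (B := AdjoinRoot (KRR.extPoly P e))).toRingHom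
  have hinc : ∀ x, (1 : R) ⊗ₜ[ℤ] x = inc x := fun _ => rfl
  let incR : R →+* R ⊗[ℤ] AdjoinRoot (KRR.extPoly P e) := Algebra.TensorProduct.includeLeftRingHom
  have hjj : (j : R ⊗[ℤ] AdjoinRoot (KRR.extPoly P e)) * incR ij = 1 := by
    rw [← map_natCast incR, ← map_mul, hij, map_one]
  have hjunit : IsUnit ((j : R ⊗[ℤ] AdjoinRoot (KRR.extPoly P e))) := IsUnit.of_mul_eq_one _ hjj
  have hθunit : IsUnit (inc θ) := by
    have hz : IsNilpotent (θ - ((j : ℤ) ^ (r + 1) : ℤ)) :=
      ⟨N, hnil _ (by rw [map_sub, map_intCast, hεθ]; simp)⟩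
    have h := (hz.map inc).isUnit_add_left_of_commute (u := (j : R ⊗[ℤ] AdjoinRoot (KRR.extPoly P e)) ^ (r + 1))
      (hjunit.pow _) (Commute.all _ _)
    convert h using 1
    simp
  refine ⟨⟨↑hθunit.unit⁻¹, IsUnit.val_inv_mul hθunit⟩, fun w hw => ?_⟩
  rw [hinc] at hw
  let ι' : R ⊗[ℤ] K →+* R ⊗[ℤ] AdjoinRoot (KRR.extPoly P e) :=
    (Algebra.TensorProduct.map (AlgHom.id ℤ R) φ.toIntAlgHom).toRingHom
  have hι'tmul : ∀ (t : R) (a : K), ι' (t ⊗ₜ[ℤ] a) = t ⊗ₜ[ℤ] φ a := fun t a => by simp [ι']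
  have hι'inc : ∀ a : K, ι' ((1 : R) ⊗ₜ[ℤ] a) = inc (φ a) := fun a => by rw [hι'tmul]; rfl
  let f' := LinearMap.lTensor R f.toAddMonoidHom.toIntLinearMap
  have hf'inc : ∀ y, f' (inc y) = (1 : R) ⊗ₜ[ℤ] f y := fun y => by simp [f', ← hinc]
  have hfmul : ∀ (a : K) y, f (φ a * y) = a * f y := fun a y => by
    rw [hφ, ← AdjoinRoot.algebraMap_eq, ← Algebra.smul_def, map_smul, smul_eq_mul]
  have hf'lin : ∀ k y, f' (ι' k * y) = k * f' y := by
    intro k y
    induction k using TensorProduct.induction_on with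
    | zero => simp
    | add p q hp hq => simp only [map_add, add_mul, hp, hq]
    | tmul t a =>
      induction y using TensorProduct.induction_on with
      | zero => simp
      | add p q hp hq => simp only [mul_add, map_add, hp, hq]
      | tmul t' z => simp [f', hι'tmul, Algebra.TensorProduct.tmul_mul_tmul, hfmul]
  obtain ⟨a, ha0, hrel, hid⟩ := exists_coeff_functional_bott hK he hr f hf linv hlinv j
  simp only [← hφ, ← hℓ, ← hθdef] at hrel hid
  set τ := inc (ℓ ^ j) with hτ
  set σ := inc (linv ^ j) with hσ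
  let g : ℕ → R ⊗[ℤ] K := fun n => f' ((j : R ⊗[ℤ] AdjoinRoot (KRR.extPoly P e)) * w * σ ^ n)
  -- the key relation
  have hrel1 : ∑ n ∈ range (r + 1), ι' (g n) *
      ∑ k ∈ range (n + 1), ι' ((1 : R) ⊗ₜ[ℤ] a k) * τ ^ (n - k) = 1 := by
    have hY : ∀ Y, ∑ n ∈ range (r + 1), ι' (f' (inc θ * Y * inc linv ^ n)) *
          inc (∑ k ∈ range (n + 1), φ ((-1) ^ k * LambdaOps.lam k e) * ℓ ^ (n - k)) =
        (j : R ⊗[ℤ] AdjoinRoot (KRR.extPoly P e)) * ∑ n ∈ range (r + 1), ι' (f' (Y * σ ^ n)) *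
          inc (∑ k ∈ range (n + 1), φ (a k) * (ℓ ^ j) ^ (n - k)) := by
      intro Y
      induction Y using TensorProduct.induction_on with
      | zero => simp
      | add p q hp hq => simp only [mul_add, add_mul, map_add, Finset.sum_add_distrib, hp, hq]
      | tmul t y =>
        have ht : ∀ z, t ⊗ₜ[ℤ] z = incR t * inc z := fun z => by simp [incR, inc]
        have hRK : ∀ z : AdjoinRoot (KRR.extPoly P e), ι' (f' (incR t * inc z)) = incR t * inc (φ (f z)) := by
          intro z; rw [← ht, ← ht]; simp [f', hι'tmul]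
        have h1 : ∀ n, inc θ * t ⊗ₜ[ℤ] y * inc linv ^ n = incR t * inc (θ * y * linv ^ n) := fun n => by
          rw [ht, map_mul, map_mul, map_pow]; ring
        have h2 : ∀ n, t ⊗ₜ[ℤ] y * σ ^ n = incR t * inc (y * (linv ^ j) ^ n) := fun n => by
          rw [ht, map_mul, hσ, ← map_pow]; ring
        simp only [h1, h2, hRK, mul_assoc, ← map_mul inc, ← Finset.mul_sum, ← map_sum inc]
        simp only [← mul_assoc θ y]
        rw [hid y, map_mul, map_natCast]
        ring
    have h := hY w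
    rw [mul_comm] at hw
    simp only [hw, one_mul] at h
    have hl : ∀ n ∈ range (r + 1), ι' (f' (inc linv ^ n)) *
        inc (∑ k ∈ range (n + 1), φ ((-1) ^ k * LambdaOps.lam k e) * ℓ ^ (n - k)) =
        if n = 0 then 1 else 0 := by
      intro n hn
      simp at hn
      rw [← map_pow, hf'inc, hι'inc]
      rcases eq_or_ne n 0 with rfl | h0
      · have : f 1 = 1 := by
          have := hf 0 (Nat.zero_le _)
          simpa [sigma_zero] using this
        simp [this, LambdaOps.lam_zero]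
      · rw [functional_linv_pow he hr f hf linv hlinv n (by omega) hn, if_neg h0]; simp
    rw [Finset.sum_congr rfl hl, Finset.sum_ite_eq', if_pos (by simp), Finset.mul_sum] at h
    refine (Finset.sum_congr rfl fun n _ => ?_).trans h.symm
    simp only [g, hτ, map_sum, map_mul, map_pow, ← hι'inc]
    rw [show f' ((j : R ⊗[ℤ] AdjoinRoot (KRR.extPoly P e)) * w * σ ^ n) = (j : R ⊗[ℤ] K) * f' (w * σ ^ n) by
      rw [mul_assoc, ← map_natCast ι', hf'lin], map_mul, map_natCast]
    ring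
  -- the powers of `τ` are independent
  let : Algebra (R ⊗[ℤ] K) (R ⊗[ℤ] AdjoinRoot (KRR.extPoly P e)) := ι'.toAlgebra
  let Sτ : Submodule (R ⊗[ℤ] K) (R ⊗[ℤ] AdjoinRoot (KRR.extPoly P e)) :=
    Submodule.span (R ⊗[ℤ] K) (Set.range fun n : Fin (r + 1) => τ ^ (n : ℕ))
  have hsmul : ∀ (k : R ⊗[ℤ] K) (y : R ⊗[ℤ] AdjoinRoot (KRR.extPoly P e)), k • y = ι' k * y := fun _ _ => rfl
  have hpow : ∀ n, τ ^ n ∈ Sτ := by
    intro n
    induction n using Nat.strong_induction_on with
    | _ n ih =>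
      rcases le_or_gt n r with hn | hn
      · exact Submodule.subset_span ⟨⟨n, by omega⟩, rfl⟩
      obtain ⟨c, rfl⟩ : ∃ c, n = r + 1 + c := ⟨n - (r + 1), by omega⟩
      have h := congrArg inc hrel
      rw [map_sum, Finset.sum_range_succ'] at h
      simp only [ha0, map_one, one_mul, tsub_zero, map_mul, map_pow, map_zero] at h
      have h' : τ ^ (r + 1) = -∑ k ∈ range (r + 1), inc (φ (a (k + 1))) * τ ^ (r + 1 - (k + 1)) := by
        rw [hτ, map_pow]; exact eq_neg_of_add_eq_zero_right h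
      have e2 : τ ^ (r + 1 + c) = -∑ k ∈ range (r + 1), inc (φ (a (k + 1))) * τ ^ (r + 1 - (k + 1)) * τ ^ c := by
        rw [pow_add, h', ← Finset.sum_mul]; ring
      rw [e2]
      refine neg_mem (Submodule.sum_mem _ fun k hk => ?_)
      rw [mul_assoc, ← pow_add, ← hι'inc, ← hsmul]
      exact Sτ.smul_mem _ (ih _ (by simp at hk; omega))
  have hsmem : ∀ (k : R ⊗[ℤ] K) (n : ℕ), ι' k * (τ - 1) ^ n ∈ Sτ := by
    intro k n
    rw [← hsmul, sub_eq_add_neg, add_pow]
    refine Sτ.smul_mem _ (Submodule.sum_mem _ fun i _ => ?_)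
    have : τ ^ i * (-1) ^ (n - i) * (n.choose i : R ⊗[ℤ] AdjoinRoot (KRR.extPoly P e)) =
        ((-1) ^ (n - i) * (n.choose i : R ⊗[ℤ] K)) • τ ^ i := by
      rw [hsmul]; simp; ring
    rw [this]
    exact Sτ.smul_mem _ (hpow i)
  set z := inc (ℓ - 1) with hz
  have hzN : z ^ N = 0 := by
    rw [hz, ← map_pow, hnil _ (by rw [map_sub, hline.2, map_one, sub_self]), map_zero]
  have hdec : ∀ y : R ⊗[ℤ] AdjoinRoot (KRR.extPoly P e), ∃ k y', y = ι' k + z * y' := by
    intro y
    induction y using TensorProduct.induction_on with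
    | zero => exact ⟨0, 0, by simp⟩
    | add p q hp hq =>
      obtain ⟨k, y', rfl⟩ := hp; obtain ⟨k', y'', rfl⟩ := hq
      exact ⟨k + k', y' + y'', by rw [map_add]; ring⟩
    | tmul t y =>
      obtain ⟨h, rfl⟩ := AdjoinRoot.mk_surjective y
      obtain ⟨q, hq⟩ := Polynomial.X_sub_C_dvd_sub_C_eval (a := (1 : K)) (p := h)
      refine ⟨t ⊗ₜ[ℤ] h.eval 1, t ⊗ₜ[ℤ] AdjoinRoot.mk _ q, ?_⟩
      rw [hι'tmul, hz, ← hinc, Algebra.TensorProduct.tmul_mul_tmul, one_mul, ← TensorProduct.tmul_add]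
      congr 1
      have := congrArg (AdjoinRoot.mk (KRR.extPoly P e)) (eq_add_of_sub_eq hq)
      rw [this]
      simp [hφ, hℓ]; ring
  have hall : ∀ n, ∀ y, z ^ n * y ∈ Sτ := by
    suffices h : ∀ d n, n + d = N → ∀ y, z ^ n * y ∈ Sτ by
      intro n y
      rcases le_or_gt n N with hn | hn
      · exact h (N - n) n (by omega) y
      · obtain ⟨c, rfl⟩ := le_iff_exists_add.mp hn.le
        rw [pow_add, hzN, zero_mul, zero_mul]; exact zero_mem _
    intro d
    induction d with
    | zero => intro n hn y; rw [show n = N by omega, hzN, zero_mul]; exact zero_mem _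
    | succ d ih =>
      intro n hn y
      obtain ⟨k, y', rfl⟩ := hdec y
      rw [mul_add, ← mul_assoc, ← pow_succ]
      refine add_mem ?_ (ih (n + 1) (by omega) y')
      -- `τ - 1 = z v` with `v ≡ j`
      have hτz : τ - 1 = z * ∑ i ∈ range j, inc ℓ ^ i := by
        rw [hτ, hz, map_sub, map_one, map_pow, mul_geom_sum]
      obtain ⟨v', hv'⟩ : z ∣ (∑ i ∈ range j, inc ℓ ^ i) * incR ij - 1 := by
        obtain ⟨c, hc⟩ : z ∣ ∑ i ∈ range j, inc ℓ ^ i - (j : R ⊗[ℤ] AdjoinRoot (KRR.extPoly P e)) := by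
          have : ∑ i ∈ range j, inc ℓ ^ i - (j : R ⊗[ℤ] AdjoinRoot (KRR.extPoly P e)) =
              ∑ i ∈ range j, (inc ℓ ^ i - 1 ^ i) := by simp
          rw [this]
          refine Finset.dvd_sum fun i _ => ?_
          rw [hz, map_sub, map_one]
          exact sub_dvd_pow_sub_pow _ _ i
        exact ⟨c * incR ij, by rw [← mul_assoc, ← hc, sub_mul, hjj]⟩
      obtain ⟨v'', hv''⟩ : z ∣ ((∑ i ∈ range j, inc ℓ ^ i) * incR ij) ^ n - 1 := by
        refine dvd_trans ⟨v', hv'⟩ ?_
        simpa using sub_dvd_pow_sub_pow ((∑ i ∈ range j, inc ℓ ^ i) * incR ij) 1 n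
      have hk : z ^ n * ι' k = ι' (((ij ^ n) ⊗ₜ[ℤ] (1 : K)) * k) * (τ - 1) ^ n - z ^ (n + 1) * (v'' * ι' k) := by
        rw [map_mul, hι'tmul, map_one, show (ij ^ n) ⊗ₜ[ℤ] (1 : AdjoinRoot (KRR.extPoly P e)) = incR (ij ^ n) from rfl,
          map_pow, hτz, mul_pow, pow_succ]
        linear_combination (-(z ^ n * ι' k)) * hv''
      rw [hk]
      exact sub_mem (hsmem _ n) (ih (n + 1) (by omega) _)
  have htop : Sτ = ⊤ := eq_top_iff.mpr fun y _ => by simpa using hall 0 y
  have hind : ∀ q : ℕ → R ⊗[ℤ] K, ∑ n ∈ range (r + 1), ι' (q n) * τ ^ n = 0 → ∀ n ≤ r, q n = 0 := by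
    let C : ℕ → R ⊗[ℤ] AdjoinRoot (KRR.extPoly P e) →+ R ⊗[ℤ] K := fun i =>
      (LinearMap.lTensor R ((Polynomial.lcoeff K i).comp (AdjoinRoot.modByMonicHom hmon)).toAddMonoidHom.toIntLinearMap).toAddMonoidHom
    have hClin : ∀ i k y, C i (ι' k * y) = k * C i y := by
      intro i k y
      induction k using TensorProduct.induction_on with
      | zero => simp
      | add p q hp hq => simp only [map_add, add_mul, hp, hq]
      | tmul t b =>
        induction y using TensorProduct.induction_on with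
        | zero => simp
        | add p q hp hq => simp only [mul_add, map_add, hp, hq]
        | tmul t' x =>
          have hb : φ b * x = b • x := by rw [Algebra.smul_def]; rfl
          rw [hι'tmul, Algebra.TensorProduct.tmul_mul_tmul]
          simp [C, hb, Algebra.TensorProduct.tmul_mul_tmul]
    have hXmod : ∀ i : Fin (r + 1), (Polynomial.X ^ (i : ℕ) : Polynomial K) %ₘ KRR.extPoly P e = Polynomial.X ^ (i : ℕ) :=
      fun i => (Polynomial.modByMonic_eq_self_iff hmon).mpr (Polynomial.degree_lt_degree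
        (hdeg.symm ▸ (Polynomial.natDegree_X_pow_le _).trans_lt i.2))
    let Ψ : (Fin (r + 1) → R ⊗[ℤ] K) →ₗ[R ⊗[ℤ] K] (Fin (r + 1) → R ⊗[ℤ] K) :=
      { toFun := fun q i => C i (∑ n : Fin (r + 1), ι' (q n) * τ ^ (n : ℕ))
        map_add' := fun q q' => by
          funext i; simp only [Pi.add_apply, map_add, add_mul, Finset.sum_add_distrib]
        map_smul' := fun k q => by
          funext i
          simp only [Pi.smul_apply, smul_eq_mul, RingHom.id_apply, map_mul, mul_assoc, ← Finset.mul_sum,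
            hClin] }
    have hsurj : Function.Surjective Ψ := by
      intro q
      have hy := hall 0 (∑ n : Fin (r + 1), ι' (q n) * inc ℓ ^ (n : ℕ))
      rw [pow_zero, one_mul, Submodule.mem_span_range_iff_exists_fun] at hy
      obtain ⟨q', hq'⟩ := hy
      refine ⟨q', ?_⟩
      funext i
      change C i (∑ n : Fin (r + 1), ι' (q' n) * τ ^ (n : ℕ)) = q i
      rw [show (∑ n : Fin (r + 1), ι' (q' n) * τ ^ (n : ℕ)) = _ from hq', map_sum]
      rw [Finset.sum_eq_single i]
      · rw [hClin, ← map_pow inc]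
        have : C i (inc (ℓ ^ (i : ℕ))) = (1 : R ⊗[ℤ] K) := by
          simp [C, ← hinc, hℓ, Algebra.TensorProduct.one_def, ← AdjoinRoot.mk_X, ← map_pow,
            AdjoinRoot.modByMonicHom_mk, hXmod i]
        rw [this, mul_one]
      · intro n _ hne
        rw [hClin, ← map_pow inc]
        have : C i (inc (ℓ ^ (n : ℕ))) = 0 := by
          simp [C, ← hinc, hℓ, ← AdjoinRoot.mk_X, ← map_pow,
            AdjoinRoot.modByMonicHom_mk, hXmod n, Polynomial.coeff_X_pow,
            (Fin.val_injective.ne hne).symm]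
        rw [this, mul_zero]
      · simp
    have hinj := OrzechProperty.injective_of_surjective_endomorphism Ψ hsurj
    intro q hq n hn
    have h0 : Ψ (fun i => q i) = Ψ 0 := by
      rw [map_zero]
      funext i
      change C i (∑ m : Fin (r + 1), ι' (q m) * τ ^ (m : ℕ)) = 0
      rw [Fin.sum_univ_eq_sum_range (fun m => ι' (q m) * τ ^ m), hq, map_zero]
    exact congrFun (hinj h0) ⟨n, by omega⟩
  have hg := triangular_solve ι' τ hind (fun k => (1 : R) ⊗ₜ[ℤ] a k) (by rw [ha0]; rfl) g hrel1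
  -- conclude
  intro x
  rw [hinc]
  obtain ⟨h, hh⟩ := AdjoinRoot.mk_surjective (x * ℓ ^ r)
  have hdeg' : (h %ₘ KRR.extPoly P e).natDegree < r + 1 := by
    rw [← hdeg]
    exact Polynomial.natDegree_modByMonic_lt _ hmon fun h1 => by rw [h1] at hdeg; simp at hdeg
  have hx : x = ∑ i ∈ range (r + 1), φ ((h %ₘ KRR.extPoly P e).coeff i) * linv ^ (r - i) := by
    have hmod : x * ℓ ^ r = AdjoinRoot.mk _ (h %ₘ KRR.extPoly P e) := by
      rw [← hh, AdjoinRoot.mk_eq_mk, Polynomial.modByMonic_eq_sub_mul_div, sub_sub_cancel]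
      exact dvd_mul_right _ _
    calc x = x * ℓ ^ r * linv ^ r := by rw [mul_assoc, ← mul_pow, mul_comm ℓ, hlinv, one_pow, mul_one]
      _ = _ := by
        rw [hmod, Polynomial.as_sum_range' _ _ hdeg', map_sum, Finset.sum_mul]
        refine Finset.sum_congr rfl fun i hi => ?_
        simp at hi
        rw [← Polynomial.C_mul_X_pow_eq_monomial, map_mul, map_pow, AdjoinRoot.mk_C, AdjoinRoot.mk_X,
          ← hℓ, ← hφ, ← Polynomial.as_sum_range' _ _ hdeg']
        obtain ⟨c, rfl⟩ := le_iff_exists_add.mp hi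
        rw [Nat.add_sub_cancel_left, pow_add, mul_assoc, ← mul_assoc (ℓ ^ i), ← mul_pow, mul_comm ℓ, hlinv,
          one_pow, one_mul]
  have hψφ : ∀ b, adams Pe j (φ b) = φ (adams P j b) := fun b => (map_adams hext j b).symm
  have hψ : adams Pe j linv = linv ^ j := by
    have h1 := congrArg (adamsHom hsplit j) hlinv
    rw [map_mul, map_one, adamsHom_apply, adamsHom_apply, adams_line hline] at h1
    calc adams Pe j linv = adams Pe j linv * (ℓ ^ j * linv ^ j) := by
          rw [← mul_pow, mul_comm ℓ, hlinv, one_pow, mul_one]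
      _ = linv ^ j := by rw [← mul_assoc, h1, one_mul]
  set b : ℕ → K := fun i => (h %ₘ KRR.extPoly P e).coeff i with hb
  have hψx : adams Pe j x = ∑ i ∈ range (r + 1), φ (adams P j (b i)) * (linv ^ j) ^ (r - i) := by
    conv_lhs => rw [hx]
    rw [← adamsHom_apply hsplit j, map_sum]
    refine Finset.sum_congr rfl fun i _ => ?_
    rw [map_mul, map_pow, adamsHom_apply, adamsHom_apply, hψφ, hψ]
  have hR : ∀ i ∈ range (r + 1), f' ((j : R ⊗[ℤ] AdjoinRoot (KRR.extPoly P e)) * w *
      inc (φ (adams P j (b i)) * (linv ^ j) ^ (r - i))) =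
      (1 : R) ⊗ₜ[ℤ] adams P j (b i) * if r - i = 0 then 1 else 0 := by
    intro i hi
    rw [← hg (r - i) (Nat.sub_le _ _)]
    show _ = _ * f' ((j : R ⊗[ℤ] AdjoinRoot (KRR.extPoly P e)) * w * σ ^ (r - i))
    rw [← hf'lin, hσ, ← map_pow inc, hι'inc, map_mul inc]
    congr 1; ring
  have hfx : f x = b r := by
    conv_lhs => rw [hx]
    rw [map_sum, Finset.sum_range_succ]
    simp only [hfmul]
    rw [Finset.sum_eq_zero fun i hi => ?_]
    · have := hf 0 (Nat.zero_le _)
      simp only [sigma_zero, pow_zero] at this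
      simp [this, hb]
    · simp at hi
      rw [functional_linv_pow he hr f hf linv hlinv (r - i) (by omega) (Nat.sub_le _ _), mul_zero]
  show _ = f' ((j : R ⊗[ℤ] AdjoinRoot (KRR.extPoly P e)) * w * inc (adams Pe j x))
  rw [hψx, map_sum inc, Finset.mul_sum, map_sum f', Finset.sum_congr rfl hR, Finset.sum_range_succ,
    Finset.sum_eq_zero fun i hi => ?_, hfx]
  · simp
  · simp at hi; rw [if_neg (by omega), mul_zero]

end Groth.LambdaCore
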