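import Groth.Agent.LambdaCore.Sigma
import Groth.Agent.LambdaCore.Bott
import Groth.Agent.LambdaCore.Elementary
import Groth.Agent.LambdaCore.Congruence

/-!
# The integral identity behind Adams–Riemann–Roch for an elementary projection
-/

set_option autoImplicit false
universe u v

open Finset LambdaRing

namespace Groth.LambdaCore

theorem esymm_mul_left {E : Type v} [CommRing E] {m : ℕ} (x : E) (v : Fin m → E) (k : ℕ) :
    (Finset.univ.val.map fun i => x * v i).esymm k = x ^ k * (Finset.univ.val.map v).esymm k := by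
  rw [Finset.esymm_map_val, Finset.esymm_map_val, Finset.mul_sum]
  refine Finset.sum_congr rfl fun s hs => ?_
  rw [Finset.prod_mul_distrib, Finset.prod_const, (Finset.mem_powersetCard.mp hs).2]

theorem esymm_succ_eq {E : Type v} [CommRing E] {r : ℕ} (v : Fin (r + 1) → E) (n : ℕ) :
    (Finset.univ.val.map (fun i : Fin r => v i.succ)).esymm n * (-1) ^ n =
      ∑ k ∈ range (n + 1), (-1) ^ k * (Finset.univ.val.map v).esymm k * v 0 ^ (n - k) := by
  induction n with
  | zero => simp [Multiset.esymm]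
  | succ n ih =>
    have hv : (Finset.univ.val.map v) = v 0 ::ₘ (Finset.univ.val.map (fun i : Fin r => v i.succ)) := by
      rw [Fin.univ_succ, Finset.cons_val, Multiset.map_cons, Finset.map_val, Multiset.map_map]
      rfl
    have hsum : ∀ k ∈ range (n + 1), (-1 : E) ^ k * (Finset.univ.val.map v).esymm k * v 0 ^ (n + 1 - k) =
        ((-1) ^ k * (Finset.univ.val.map v).esymm k * v 0 ^ (n - k)) * v 0 := by
      intro k hk
      simp at hk
      rw [show n + 1 - k = n - k + 1 by omega, pow_succ]; ring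
    rw [Finset.sum_range_succ, Finset.sum_congr rfl hsum, ← Finset.sum_mul, ← ih, tsub_self, pow_zero,
      mul_one, hv]
    simp only [Multiset.esymm, Multiset.powersetCard_cons, Multiset.map_add, Multiset.map_map,
      Function.comp_def, Multiset.prod_cons, Multiset.sum_map_mul_left, Multiset.sum_add, pow_succ]
    ring

theorem prod_one_sub_mul_eq_sum {E : Type v} [CommRing E] {r : ℕ} (v : Fin r → E) (x : E) :
    ∏ i, (1 - v i * x) = ∑ n ∈ range (r + 1), (-1) ^ n * (Finset.univ.val.map v).esymm n * x ^ n := by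
  have hdeg : (∏ i, (1 + Polynomial.C (v i) * Polynomial.X)).natDegree < r + 1 := by
    refine Nat.lt_succ_iff.mpr ((Polynomial.natDegree_prod_le _ _).trans ?_)
    refine (Finset.sum_le_card_nsmul _ _ 1 fun i _ => ?_).trans (by simp)
    compute_degree
  have h := Polynomial.eval_eq_sum_range' hdeg (-x)
  simp only [Polynomial.eval_prod, Polynomial.eval_add, Polynomial.eval_one, Polynomial.eval_mul,
    Polynomial.eval_C, Polynomial.eval_X, mul_neg, ← sub_eq_add_neg] at h
  rw [h]
  refine Finset.sum_congr rfl fun n _ => ?_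
  rw [coeff_prod_one_add_C_mul_X, neg_pow x n]
  ring

theorem natCast_mul_prod_eq {E : Type v} [CommRing E] {r : ℕ} (v : Fin (r + 1) → E) (x : E)
    (hx : ∏ i, (1 - v i * x) = 0) (j : ℕ) :
    (j : E) * ∏ i : Fin r, (1 - v i.succ ^ j * x ^ j) =
      (∏ i : Fin r, (1 - v i.succ * x)) * ∏ i, ∑ k ∈ range j, (x * v i) ^ k := by
  set Q := ∏ i : Fin r, (1 - v i.succ * x) with hQ
  have h0 : Q * (1 - v 0 * x) = 0 := by
    rw [mul_comm, hQ, ← Fin.prod_univ_succ (fun i => 1 - v i * x)]; exact hx
  have h1 : Q * ∑ k ∈ range j, (x * v 0) ^ k = (j : E) * Q := by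
    rw [Finset.mul_sum]
    have : ∀ k, Q * (x * v 0) ^ k = Q := by
      intro k
      induction k with
      | zero => simp
      | succ k ih => rw [pow_succ, ← mul_assoc, ih]; linear_combination -h0
    simp [this]
  have h2 : ∏ i : Fin r, (1 - v i.succ ^ j * x ^ j) =
      Q * ∏ i : Fin r, ∑ k ∈ range j, (x * v i.succ) ^ k := by
    rw [hQ, ← Finset.prod_mul_distrib]
    refine Finset.prod_congr rfl fun i _ => ?_
    rw [← mul_pow, mul_comm x, mul_neg_geom_sum]
  rw [h2, Fin.prod_univ_succ (fun i => ∑ k ∈ range j, (x * v i) ^ k), ← mul_assoc, ← mul_assoc, h1]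

theorem map_aeval_int {A : Type u} {B : Type v} [CommRing A] [CommRing B] {σ : Type*} [Algebra ℤ A]
    [Algebra ℤ B] (f : A →+* B) (g : σ → A) (p : MvPolynomial σ ℤ) :
    f (MvPolynomial.aeval g p) = MvPolynomial.aeval (fun i => f (g i)) p := by
  induction p using MvPolynomial.induction_on with
  | C n => simp
  | add p q hp hq => simp [hp, hq]
  | mul_X p i hp => simp [hp]

variable {K : Type u} [CommRing K] [LambdaOps K] {P : PosStructure K} {e : K} {r : ℕ}

theorem functional_mk_eq_sum (he : e ∈ P.pos) (hr : P.aug e = r + 1)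
    (f : AdjoinRoot (KRR.extPoly P e) →ₗ[K] K)
    (hf : ∀ i : ℕ, i ≤ r → f (AdjoinRoot.root (KRR.extPoly P e) ^ i) = KRR.sigma i e)
    (h : Polynomial K) :
    f (AdjoinRoot.mk (KRR.extPoly P e) h) =
      ∑ i ∈ range (r + 1), (h %ₘ KRR.extPoly P e).coeff i * KRR.sigma i e := by
  have := nontrivial_of_posStructure P
  obtain ⟨hmon, hdeg⟩ := extPoly_monic_natDegree P e
  rw [show (P.aug e).toNat = r + 1 by omega] at hdeg
  have h0 : AdjoinRoot.mk (KRR.extPoly P e) h = AdjoinRoot.mk _ (h %ₘ KRR.extPoly P e) := by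
    rw [AdjoinRoot.mk_eq_mk, Polynomial.modByMonic_eq_sub_mul_div, sub_sub_cancel]
    exact dvd_mul_right _ _
  have hd : (h %ₘ KRR.extPoly P e).natDegree < r + 1 := by
    rw [← hdeg]
    refine Polynomial.natDegree_modByMonic_lt _ hmon fun h1 => ?_
    rw [h1] at hdeg; simp at hdeg
  rw [h0]
  conv_lhs => rw [Polynomial.as_sum_range' _ _ hd]
  rw [map_sum, map_sum]
  refine Finset.sum_congr rfl fun i hi => ?_
  simp at hi
  rw [← Polynomial.C_mul_X_pow_eq_monomial, map_mul, map_pow, AdjoinRoot.mk_C, AdjoinRoot.mk_X,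
    ← AdjoinRoot.algebraMap_eq, ← Algebra.smul_def, map_smul, hf i (by omega), smul_eq_mul]

/-- The integral identity: for every `y`, `Σ f(θ y s^n) d_n = j Σ f(y s^{jn}) c_n`. -/
theorem exists_coeff_functional_bott (hK : HasSplitting K P) (he : e ∈ P.pos) (hr : P.aug e = r + 1)
    (f : AdjoinRoot (KRR.extPoly P e) →ₗ[K] K)
    (hf : ∀ i : ℕ, i ≤ r → f (AdjoinRoot.root (KRR.extPoly P e) ^ i) = KRR.sigma i e)
    (linv : AdjoinRoot (KRR.extPoly P e)) (hlinv : linv * AdjoinRoot.root (KRR.extPoly P e) = 1)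
    (j : ℕ) :
    ∃ a : ℕ → K, a 0 = 1 ∧
      (∑ k ∈ range (r + 2), AdjoinRoot.of (KRR.extPoly P e) (a k) *
        (AdjoinRoot.root (KRR.extPoly P e) ^ j) ^ (r + 1 - k)) = 0 ∧
      ∀ y : AdjoinRoot (KRR.extPoly P e),
        ∑ n ∈ range (r + 1), AdjoinRoot.of (KRR.extPoly P e)
            (f (MvPolynomial.aeval (fun i : Fin (r + 1) => linv ^ ((i : ℕ) + 1) *
              AdjoinRoot.of (KRR.extPoly P e) (LambdaOps.lam ((i : ℕ) + 1) e)) (KRR.bottPoly j (r + 1)) * y * linv ^ n)) *
          (∑ k ∈ range (n + 1), AdjoinRoot.of (KRR.extPoly P e) ((-1) ^ k * LambdaOps.lam k e) *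
            AdjoinRoot.root (KRR.extPoly P e) ^ (n - k)) =
        (j : AdjoinRoot (KRR.extPoly P e)) * ∑ n ∈ range (r + 1), AdjoinRoot.of (KRR.extPoly P e)
            (f (y * (linv ^ j) ^ n)) *
          (∑ k ∈ range (n + 1), AdjoinRoot.of (KRR.extPoly P e) (a k) *
            (AdjoinRoot.root (KRR.extPoly P e) ^ j) ^ (n - k)) := by
  classical
  have := nontrivial_of_posStructure P
  obtain ⟨hmon, hdeg⟩ := extPoly_monic_natDegree P e
  rw [show (P.aug e).toNat = r + 1 by omega] at hdeg
  obtain ⟨B, _, ι, hι, -, u, hu0, hu⟩ := exists_roots_root hmon hdeg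
  set φ := AdjoinRoot.of (KRR.extPoly P e) with hφ
  set ℓ := AdjoinRoot.root (KRR.extPoly P e) with hℓ
  let : Algebra K B := (ι.comp φ).toAlgebra
  have hm : P.aug e = (r + 1 : ℕ) := by rw [hr]; push_cast; rfl
  have hlam : ∀ k, (Finset.univ.val.map u).esymm k = ι (φ (LambdaOps.lam k e)) :=
    esymm_roots he hm hu
  -- coefficients of `Π (1 - u_i^j T)`
  have hex : ∀ k, ∃ c : K, (Finset.univ.val.map fun i => u i ^ j).esymm k = ι (φ c) := by
    intro k
    let p : MvPolynomial (Fin (r + 1)) K :=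
      (Finset.univ.val.map fun a => (MvPolynomial.X a ^ j : MvPolynomial (Fin (r + 1)) K)).esymm k
    have hp : p.IsSymmetric := by
      intro σ
      have hu' : (Finset.univ.val.map σ : Multiset (Fin (r + 1))) = Finset.univ.val := by
        rw [← Equiv.coe_toEmbedding, ← Finset.map_val, Finset.map_univ_equiv]
      change (MvPolynomial.rename σ).toRingHom _ = _
      rw [map_multiset_esymm, Multiset.map_map]
      simp only [p]
      conv_rhs => rw [← hu', Multiset.map_map]
      simp
    obtain ⟨c, hc⟩ := exists_eq_algebraMap_of_isSymmetric.{u, u} hp (fun k => LambdaOps.lam k e)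
    refine ⟨c, ?_⟩
    have h1 := hc B u hlam
    change (MvPolynomial.aeval u).toRingHom _ = _ at h1
    rw [map_multiset_esymm, Multiset.map_map] at h1
    exact (by simpa [Function.comp_def, RingHom.algebraMap_toAlgebra] using h1)
  choose c hc using hex
  let a : ℕ → K := fun k => if k = 0 then 1 else (-1) ^ k * c k
  have ha : ∀ k, ι (φ (a k)) = (-1) ^ k * (Finset.univ.val.map fun i => u i ^ j).esymm k := by
    intro k
    simp only [a]
    split_ifs with h
    · simp [h, Multiset.esymm]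
    · rw [map_mul, map_mul, ← hc]; simp
  have hι0 : ι ℓ = u 0 := hu0.symm
  refine ⟨a, by simp [a], ?_, ?_⟩
  · apply hι
    rw [map_zero, map_sum]
    have h := congrArg (Polynomial.eval (u 0 ^ j))
      (Multiset.prod_X_sub_X_eq_sum_esymm (Finset.univ.val.map fun i => u i ^ j))
    rw [Polynomial.eval_multiset_prod, Multiset.prod_eq_zero] at h
    · refine Eq.trans (Finset.sum_congr ?_ fun i hi => ?_) ((Polynomial.eval_finsetSum _ _ _).symm.trans h.symm)
      · simp
      · simp only [map_mul, map_pow, ha, hι0, Polynomial.eval_mul, Polynomial.eval_pow,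
          Polynomial.eval_neg, Polynomial.eval_one, Polynomial.eval_C, Polynomial.eval_X,
          Multiset.card_map, Finset.card_val, Finset.card_univ, Fintype.card_fin]
        ring
    · simp only [Multiset.map_map]
      exact Multiset.mem_map.mpr ⟨0, Finset.mem_univ (0 : Fin (r + 1)), by simp⟩
  intro y
  apply hι
  -- the second copy of the extension, over `B`
  set α : K →+* B := ι.comp φ with hα
  set p' := (KRR.extPoly P e).map α with hp'
  have hmon' : p'.Monic := hmon.map α
  have hroot' : (KRR.extPoly P e).eval₂ ((AdjoinRoot.of p').comp α) (AdjoinRoot.root p') = 0 := by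
    rw [← Polynomial.eval₂_map, ← hp']; exact AdjoinRoot.eval₂_root p'
  let κ : AdjoinRoot (KRR.extPoly P e) →+* AdjoinRoot p' :=
    AdjoinRoot.lift ((AdjoinRoot.of p').comp α) (AdjoinRoot.root p') hroot'
  have hκmk : ∀ h, κ (AdjoinRoot.mk _ h) = AdjoinRoot.mk p' (h.map α) := by
    intro h
    induction h using Polynomial.induction_on' with
    | add p q hp hq => simp [hp, hq]
    | monomial k b =>
      rw [← Polynomial.C_mul_X_pow_eq_monomial]
      simp [κ]
  have hκof : ∀ b, κ (φ b) = AdjoinRoot.of p' (α b) := fun b => AdjoinRoot.lift_of hroot'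
  have hκroot : κ ℓ = AdjoinRoot.root p' := AdjoinRoot.lift_root hroot'
  let F : AdjoinRoot p' →ₗ[B] B :=
    (∑ i ∈ range (r + 1), (α (KRR.sigma i e)) • Polynomial.lcoeff B i).comp (AdjoinRoot.modByMonicHom hmon')
  have hFκ : ∀ z, F (κ z) = α (f z) := by
    intro z
    obtain ⟨h, rfl⟩ := AdjoinRoot.mk_surjective z
    rw [hκmk, functional_mk_eq_sum he hr f hf h, map_sum]
    simp only [F, LinearMap.comp_apply, AdjoinRoot.modByMonicHom_mk, hp',
      ← Polynomial.map_modByMonic _ hmon, LinearMap.coe_sum, Finset.sum_apply, LinearMap.smul_apply,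
      Polynomial.lcoeff_apply, Polynomial.coeff_map, smul_eq_mul, map_mul]
    exact Finset.sum_congr rfl fun i _ => mul_comm _ _
  set x := κ linv with hx
  have hxroot : x * AdjoinRoot.root p' = 1 := by rw [hx, ← hκroot, ← map_mul, hlinv, map_one]
  let v : Fin (r + 1) → AdjoinRoot p' := fun i => AdjoinRoot.of p' (u i)
  have hv : ∏ i, (1 - v i * x) = 0 := by
    have h := congrArg (fun q : Polynomial B => (q.map (AdjoinRoot.of p')).eval (AdjoinRoot.root p')) hu
    simp only [← hp', Polynomial.eval_map, AdjoinRoot.eval₂_root, Polynomial.eval₂_finsetProd,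
      Polynomial.eval₂_sub, Polynomial.eval₂_X, Polynomial.eval₂_C] at h
    have h2 : ∀ i, 1 - v i * x = x * (AdjoinRoot.root p' - AdjoinRoot.of p' (u i)) := by
      intro i; rw [mul_sub, hxroot]; ring
    simp only [h2, Finset.prod_mul_distrib, ← h, mul_zero]
  have hvsymm : ∀ k, (Finset.univ.val.map v).esymm k = AdjoinRoot.of p' (α (LambdaOps.lam k e)) := by
    intro k
    change _ = AdjoinRoot.of p' (ι (φ (LambdaOps.lam k e)))
    rw [← hlam, map_multiset_esymm, Multiset.map_map]; rfl
  have hθ : κ (MvPolynomial.aeval (fun i : Fin (r + 1) => linv ^ ((i : ℕ) + 1) *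
      φ (LambdaOps.lam ((i : ℕ) + 1) e)) (KRR.bottPoly j (r + 1))) =
      ∏ i, ∑ k ∈ range j, (x * v i) ^ k := by
    rw [← aeval_esymm_bottPoly j (fun i => x * v i)]
    rw [map_aeval_int]
    congr 2
    funext i
    rw [esymm_mul_left, hvsymm, map_mul, map_pow, hκof]
  have hG : ∏ i : Fin r, (1 - v i.succ ^ j * x ^ j) = ∑ n ∈ range (r + 1), AdjoinRoot.of p'
      (ι (∑ k ∈ range (n + 1), φ (a k) * (ℓ ^ j) ^ (n - k))) * κ ((linv ^ j) ^ n) := by
    rw [prod_one_sub_mul_eq_sum (fun i => v i.succ ^ j) (x ^ j)]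
    refine Finset.sum_congr rfl fun n _ => ?_
    rw [mul_comm ((-1 : AdjoinRoot p') ^ n), esymm_succ_eq (fun i => v i ^ j) n, map_pow, map_pow]
    congr 1
    rw [map_sum, map_sum]
    refine Finset.sum_congr rfl fun k _ => ?_
    rw [map_mul, map_mul, map_pow, map_pow, map_pow, ha, hι0, map_mul, map_pow, map_neg, map_one,
      map_multiset_esymm, Multiset.map_map, map_pow]
    simp [v, Function.comp_def]
  have hQ : ∏ i : Fin r, (1 - v i.succ * x) = ∑ n ∈ range (r + 1), AdjoinRoot.of p'
      (ι (∑ k ∈ range (n + 1), φ ((-1) ^ k * LambdaOps.lam k e) * ℓ ^ (n - k))) * κ (linv ^ n) := by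
    rw [prod_one_sub_mul_eq_sum (fun i => v i.succ) x]
    refine Finset.sum_congr rfl fun n _ => ?_
    rw [mul_comm ((-1 : AdjoinRoot p') ^ n), esymm_succ_eq v n, map_pow]
    congr 1
    rw [map_sum, map_sum]
    refine Finset.sum_congr rfl fun k _ => ?_
    rw [hvsymm]
    simp [map_mul, map_pow, hι0, v, α]
  set θ := MvPolynomial.aeval (fun i : Fin (r + 1) => linv ^ ((i : ℕ) + 1) *
      φ (LambdaOps.lam ((i : ℕ) + 1) e)) (KRR.bottPoly j (r + 1))
  have hFlin : ∀ (c : B) (z : AdjoinRoot (KRR.extPoly P e)),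
      F (AdjoinRoot.of p' c * κ z) = c * ι (φ (f z)) := by
    intro c z
    rw [← AdjoinRoot.algebraMap_eq, ← Algebra.smul_def, map_smul, hFκ, smul_eq_mul]
    rfl
  have hkey := congrArg (fun t => F (t * κ y)) (natCast_mul_prod_eq v x hv j)
  simp only [hG, hQ, ← hθ, Finset.mul_sum, Finset.sum_mul, map_sum F] at hkey
  have hl : ∀ C z, F ((j : AdjoinRoot p') * (AdjoinRoot.of p' C * κ z) * κ y) =
      (j : B) * (C * ι (φ (f (z * y)))) := by
    intro C z
    have : (j : AdjoinRoot p') * (AdjoinRoot.of p' C * κ z) * κ y =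
        AdjoinRoot.of p' ((j : B) * C) * κ (z * y) := by
      rw [map_mul, map_mul, map_natCast]; ring
    rw [this, hFlin, mul_assoc]
  have hr' : ∀ C z, F (AdjoinRoot.of p' C * κ z * κ θ * κ y) = C * ι (φ (f (θ * y * z))) := by
    intro C z
    have : AdjoinRoot.of p' C * κ z * κ θ * κ y = AdjoinRoot.of p' C * κ (θ * y * z) := by
      rw [map_mul, map_mul]; ring
    rw [this, hFlin]
  simp only [hl, hr'] at hkey
  rw [map_sum, map_mul, map_natCast, map_sum, Finset.mul_sum]
  refine Eq.trans (Finset.sum_congr rfl fun n _ => ?_) (hkey.symm.trans (Finset.sum_congr rfl fun n _ => ?_))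
  · rw [map_mul, mul_comm]
  · rw [map_mul ι, mul_comm ((linv ^ j) ^ n)]; ring

end Groth.LambdaCore
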