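import Groth.Agent.LambdaCore.Gamma
import Groth.Prelude.Def_KGr
import Mathlib.RingTheory.Localization.BaseChange
import Mathlib.RingTheory.Localization.FractionRing

/-!
# The graded ring of the γ-filtration
-/

set_option autoImplicit false
universe v

open LambdaRing TensorProduct

namespace Groth.LambdaCore

variable {K : Type v} [CommRing K] [LambdaOps K] (P : PosStructure K)

open LaurentPolynomial in
/-- Laurent polynomials whose coefficient at `t^z` lies in `F^{-z}`. -/
def lowRees : Subring (LaurentPolynomial K) where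
  carrier := {p | ∀ z : ℤ, p.coeff z ∈ gammaFiltration P (-z).toNat}
  zero_mem' z := by simp
  one_mem' z := by
    rw [← LaurentPolynomial.single_zero_one_eq_one, AddMonoidAlgebra.coeff_single,
      Finsupp.single_apply]
    split_ifs with h
    · subst h; simp
    · exact zero_mem _
  add_mem' {p q} hp hq z := by simpa using add_mem (hp z) (hq z)
  neg_mem' {p} hp z := by simpa using neg_mem (hp z)
  mul_mem' {p q} hp hq z := by
    rw [AddMonoidAlgebra.coeff_mul]
    refine AddSubgroup.sum_mem _ fun a _ => AddSubgroup.sum_mem _ fun b _ => ?_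
    dsimp only
    split_ifs with h
    · exact gammaFiltration_antitone (by omega) (mul_mem_gammaFiltration' (hp a) (hq b))
    · exact zero_mem _

open LaurentPolynomial in
theorem rees_le_lowRees : KGr.rees P ≤ lowRees P := by
  refine Subring.closure_le.2 ?_
  rintro p (rfl | ⟨n, x, hx, rfl⟩) z
  · rw [T_apply]
    split_ifs with h
    · subst h; simp
    · exact zero_mem _
  · rw [← single_eq_C_mul_T, AddMonoidAlgebra.coeff_single, Finsupp.single_apply]
    split_ifs with h
    · subst h; simpa using hx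
    · exact zero_mem _

open LaurentPolynomial in
theorem C_mul_T_mem_rees {n : ℕ} {x : K} (hx : x ∈ gammaFiltration P n) :
    C x * T (-(n : ℤ)) ∈ KGr.rees P :=
  Subring.subset_closure (Or.inr ⟨n, x, hx, rfl⟩)

open LaurentPolynomial in
/-- The element `x t^{-n}` of the Rees ring, for `x ∈ F^n`. -/
noncomputable def reesMon (n : ℕ) : gammaFiltration P n →+ KGr.rees P :=
  AddMonoidHom.mk' (fun x => ⟨C x.1 * T (-(n : ℤ)), C_mul_T_mem_rees P x.2⟩)
    fun a b => Subtype.ext (by simp [add_mul])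

/-- The class in degree `n`. -/
noncomputable def grZ (n : ℕ) : gammaFiltration P n →+ KGr.GrZ P :=
  (Ideal.Quotient.mk (Ideal.span {KGr.tGen P})).toAddMonoidHom.comp (reesMon P n)

variable {P}

theorem grZ_congr {n m : ℕ} (h : n = m) {x : K} (hx : x ∈ gammaFiltration P n)
    (hy : x ∈ gammaFiltration P m) : grZ P n ⟨x, hx⟩ = grZ P m ⟨x, hy⟩ := by
  subst h; rfl

open LaurentPolynomial in
theorem grZ_eq_zero {n : ℕ} {x : K} (h : x ∈ gammaFiltration P (n + 1)) :
    grZ P n ⟨x, gammaFiltration_antitone (Nat.le_succ n) h⟩ = 0 := by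
  refine (Ideal.Quotient.eq_zero_iff_mem).2 (Ideal.mem_span_singleton'.2
    ⟨reesMon P (n + 1) ⟨x, h⟩, Subtype.ext ?_⟩)
  change C x * T (-((n + 1 : ℕ) : ℤ)) * T 1 = C x * T (-(n : ℤ))
  rw [mul_assoc, ← T_add]
  congr 2
  push_cast
  ring

theorem grZ_eq_of_sub_mem {n : ℕ} {x y : K} (hx : x ∈ gammaFiltration P n)
    (hy : y ∈ gammaFiltration P n) (h : x - y ∈ gammaFiltration P (n + 1)) :
    grZ P n ⟨x, hx⟩ = grZ P n ⟨y, hy⟩ := by
  rw [← sub_eq_zero, ← map_sub]
  exact grZ_eq_zero h

open LaurentPolynomial in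
theorem grZ_mul {a b k : ℕ} (h : a + b = k) {x y : K} (hx : x ∈ gammaFiltration P a)
    (hy : y ∈ gammaFiltration P b) :
    grZ P a ⟨x, hx⟩ * grZ P b ⟨y, hy⟩ =
      grZ P k ⟨x * y, h ▸ mul_mem_gammaFiltration' hx hy⟩ := by
  subst h
  change Ideal.Quotient.mk _ (reesMon P a ⟨x, hx⟩) * Ideal.Quotient.mk _ (reesMon P b ⟨y, hy⟩) = _
  rw [← map_mul]
  refine congrArg (Ideal.Quotient.mk _) (Subtype.ext ?_)
  change C x * T (-(a : ℤ)) * (C y * T (-(b : ℤ))) = C (x * y) * T (-((a + b : ℕ) : ℤ))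
  rw [map_mul, mul_mul_mul_comm, ← T_add]
  congr 2
  push_cast
  ring

theorem one_mem_gammaFiltration_zero : (1 : K) ∈ gammaFiltration P 0 := by simp

open LaurentPolynomial in
theorem grZ_one : grZ P 0 ⟨1, one_mem_gammaFiltration_zero⟩ = 1 := by
  refine (congrArg (Ideal.Quotient.mk _) (Subtype.ext ?_)).trans (map_one _)
  change C (1 : K) * T (-((0 : ℕ) : ℤ)) = 1
  simp

theorem reesMon_coe (n : ℕ) (x : gammaFiltration P n) :
    ((reesMon P n x : KGr.rees P) : LaurentPolynomial K) = AddMonoidAlgebra.single (-(n : ℤ)) x.1 :=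
  (LaurentPolynomial.single_eq_C_mul_T _ _).symm

open LaurentPolynomial in
/-- The classes in different degrees are independent. -/
theorem mem_succ_of_sum_grZ_eq_zero {s : Finset ℕ} {b : ∀ n, gammaFiltration P n}
    (h : ∑ n ∈ s, grZ P n (b n) = 0) {n : ℕ} (hn : n ∈ s) :
    (b n).1 ∈ gammaFiltration P (n + 1) := by
  classical
  change ∑ m ∈ s, Ideal.Quotient.mk _ (reesMon P m (b m)) = 0 at h
  rw [← map_sum, Ideal.Quotient.eq_zero_iff_mem, Ideal.mem_span_singleton'] at h
  obtain ⟨r, hr⟩ := h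
  have hc := congrArg (fun p : KGr.rees P => (p : LaurentPolynomial K).coeff (-(n : ℤ))) hr
  simp only [Subring.coe_mul, AddSubmonoidClass.coe_finsetSum, reesMon_coe, KGr.tGen] at hc
  rw [AddMonoidAlgebra.coeff_sum, Finsupp.finsetSum_apply, Finset.sum_eq_single n
    (fun m _ hm => by rw [AddMonoidAlgebra.coeff_single, Finsupp.single_apply, if_neg (by omega)])
    (fun hm => absurd hn hm), AddMonoidAlgebra.coeff_single, Finsupp.single_eq_same] at hc
  rw [← hc, AddMonoidAlgebra.coeff_mul]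
  refine AddSubgroup.sum_mem _ fun a _ => AddSubgroup.sum_mem _ fun c _ => ?_
  dsimp only
  split_ifs with hac
  · rw [T_apply]
    split_ifs with h1
    · rw [mul_one]
      have := rees_le_lowRees P r.2 a
      rwa [show (-a).toNat = n + 1 by omega] at this
    · rw [mul_zero]; exact zero_mem _
  · exact zero_mem _

variable (P) in
/-- `GrZ` is additively generated by homogeneous classes. -/
theorem grZ_closure_eq_top :
    AddSubgroup.closure {a | ∃ n b, a = grZ P n b} = (⊤ : AddSubgroup (KGr.GrZ P)) := by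
  refine eq_top_iff.2 fun a ha => ?_
  clear ha
  obtain ⟨⟨p, hp⟩, rfl⟩ := Ideal.Quotient.mk_surjective a
  let S := AddSubgroup.closure {a | ∃ n b, a = grZ P n b}
  change Ideal.Quotient.mk _ (⟨p, hp⟩ : KGr.rees P) ∈ S
  have hmul : ∀ {a c : KGr.GrZ P}, a ∈ S → c ∈ S → a * c ∈ S := by
    intro a c ha hc
    induction ha, hc using AddSubgroup.closure_induction₂ with
    | mem x y hx hy =>
      obtain ⟨n, b, rfl⟩ := hx
      obtain ⟨m, c, rfl⟩ := hy
      exact AddSubgroup.subset_closure ⟨n + m, _, grZ_mul rfl b.2 c.2⟩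
    | zero_left x hx => simp
    | zero_right x hx => simp
    | add_left x y z hx hy hz h1 h2 => rw [add_mul]; exact add_mem h1 h2
    | add_right y z x hy hz hx h1 h2 => rw [mul_add]; exact add_mem h1 h2
    | neg_left x y hx hy h => rw [neg_mul]; exact neg_mem h
    | neg_right x y hx hy h => rw [mul_neg]; exact neg_mem h
  induction hp using Subring.closure_induction with
  | mem q hq =>
    rcases hq with rfl | ⟨n, x, hx, rfl⟩
    · have : Ideal.Quotient.mk (Ideal.span {KGr.tGen P}) (KGr.tGen P) = 0 :=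
        Ideal.Quotient.eq_zero_iff_mem.2 (Ideal.mem_span_singleton_self _)
      exact this ▸ zero_mem S
    · exact AddSubgroup.subset_closure ⟨n, ⟨x, hx⟩, rfl⟩
  | zero =>
    rw [show (⟨0, zero_mem _⟩ : KGr.rees P) = 0 from rfl, map_zero]; exact zero_mem _
  | one =>
    rw [show (⟨1, one_mem _⟩ : KGr.rees P) = 1 from rfl, map_one, ← grZ_one]
    exact AddSubgroup.subset_closure ⟨0, _, rfl⟩
  | add x y hx hy h1 h2 => exact (map_add (Ideal.Quotient.mk (Ideal.span {KGr.tGen P})) ⟨x, hx⟩ ⟨y, hy⟩).symm ▸ add_mem h1 h2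
  | neg x hx h => exact (map_neg (Ideal.Quotient.mk (Ideal.span {KGr.tGen P})) ⟨x, hx⟩).symm ▸ neg_mem h
  | mul x y hx hy h1 h2 => exact (map_mul (Ideal.Quotient.mk (Ideal.span {KGr.tGen P})) ⟨x, hx⟩ ⟨y, hy⟩).symm ▸ hmul h1 h2

/-- The class of an element of `F^n` in `ℚGr`. -/
theorem grK_eq {n : ℕ} {x : K} (hx : x ∈ gammaFiltration P n) :
    KGr.grK P (n : ℤ) x = (1 : ℚ) ⊗ₜ[ℤ] grZ P n ⟨x, hx⟩ := by
  have h : ∃ N : ℕ, 1 ≤ N ∧ LaurentPolynomial.C ((N : K) * x) * LaurentPolynomial.T (-(n : ℤ)) ∈ KGr.rees P :=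
    ⟨1, le_rfl, by simpa using C_mul_T_mem_rees P hx⟩
  rw [KGr.grK, dif_pos h]
  set N := h.choose
  have hN : (N : ℚ) ≠ 0 := by have := h.choose_spec.1; simp only [N]; positivity
  have he : Ideal.Quotient.mk (Ideal.span {KGr.tGen P})
      (⟨_, h.choose_spec.2⟩ : KGr.rees P) = (N : ℤ) • grZ P n ⟨x, hx⟩ := by
    rw [← map_zsmul]
    refine congrArg (Ideal.Quotient.mk _) (Subtype.ext ?_)
    change _ = LaurentPolynomial.C ((N : ℤ) • x) * _
    rw [natCast_zsmul, nsmul_eq_mul]
  rw [he, TensorProduct.tmul_smul, TensorProduct.smul_tmul', zsmul_eq_mul]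
  push_cast
  rw [mul_div_cancel₀ _ hN]

/-- Elements killed in `ℚ ⊗ GrZ` are torsion. -/
theorem exists_nsmul_eq_zero {a : KGr.GrZ P} (h : (1 : ℚ) ⊗ₜ[ℤ] a = 0) :
    ∃ M : ℕ, M ≠ 0 ∧ M • a = 0 := by
  obtain ⟨⟨m, hm⟩, he⟩ := (IsLocalizedModule.eq_zero_iff (nonZeroDivisors ℤ)
    (TensorProduct.mk ℤ ℚ (KGr.GrZ P) 1)).1 h
  refine ⟨m.natAbs, Int.natAbs_ne_zero.2 (nonZeroDivisors.ne_zero hm), ?_⟩
  rw [← natCast_zsmul]
  rcases Int.natAbs_eq m with h' | h'
  · rw [← h']; exact he
  · rw [show ((m.natAbs : ℕ) : ℤ) = -m by omega, neg_smul]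
    exact neg_eq_zero.2 he

open PowerSeries in
variable (P) in
/-- Series with coefficient `i` in `F^i`. -/
def gradedSub : Subring (PowerSeries K) where
  carrier := {s | ∀ i, coeff i s ∈ gammaFiltration P i}
  zero_mem' i := by simp
  one_mem' i := by
    rw [PowerSeries.coeff_one]
    split_ifs with h
    · subst h; simp
    · exact zero_mem _
  add_mem' hs ht i := by simpa using add_mem (hs i) (ht i)
  neg_mem' hs i := by simpa using neg_mem (hs i)
  mul_mem' {s t} hs ht i := by
    rw [coeff_mul_range]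
    refine AddSubgroup.sum_mem _ fun j hj => ?_
    rw [Finset.mem_range] at hj
    exact gammaFiltration_antitone (by omega) (mul_mem_gammaFiltration' (hs j) (ht (i - j)))

variable (P) in
/-- The leading classes of a graded series. -/
noncomputable def grSeries : gradedSub P →+* PowerSeries (KGr.GrZ P) where
  toFun s := PowerSeries.mk fun i => grZ P i ⟨PowerSeries.coeff i s.1, s.2 i⟩
  map_one' := by
    ext i
    rw [PowerSeries.coeff_mk]
    cases i with
    | zero =>
      rw [PowerSeries.coeff_one, if_pos rfl, ← grZ_one]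
      exact congrArg (grZ P 0) (Subtype.ext (by simp))
    | succ i =>
      rw [PowerSeries.coeff_one, if_neg (Nat.succ_ne_zero i), ← map_zero (grZ P (i + 1))]
      exact congrArg (grZ P _) (Subtype.ext (by simp [PowerSeries.coeff_one]))
  map_zero' := by
    ext i
    rw [PowerSeries.coeff_mk, map_zero, ← map_zero (grZ P i)]
    exact congrArg (grZ P i) (Subtype.ext (by simp))
  map_add' s t := by
    ext i
    simp only [PowerSeries.coeff_mk, map_add]
    rw [← map_add]
    exact congrArg (grZ P i) (Subtype.ext (by simp))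
  map_mul' s t := by
    ext i
    rw [PowerSeries.coeff_mk, coeff_mul_range, ← Fin.sum_univ_eq_sum_range]
    simp only [PowerSeries.coeff_mk]
    rw [Finset.sum_congr rfl fun (j : Fin (i + 1)) _ =>
      grZ_mul (show (j : ℕ) + (i - j) = i by omega) (s.2 j) (t.2 (i - j)), ← map_sum]
    refine congrArg (grZ P i) (Subtype.ext ?_)
    rw [AddSubgroup.val_finsetSum]
    change PowerSeries.coeff i (s.1 * t.1) = _
    rw [coeff_mul_range, ← Fin.sum_univ_eq_sum_range]

theorem coeff_grSeries (s : gradedSub P) (i : ℕ) :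
    PowerSeries.coeff i (grSeries P s) = grZ P i ⟨PowerSeries.coeff i s.1, s.2 i⟩ :=
  PowerSeries.coeff_mk i (fun j => grZ P j ⟨PowerSeries.coeff j s.1, s.2 j⟩)

end Groth.LambdaCore
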