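import Groth.Agent.LambdaCore.Sigma
import Mathlib.Algebra.Polynomial.Div

/-!
# Elements of an elementary extension killed by `1 - ℓ`
-/

set_option autoImplicit false
universe u

open Finset LambdaRing

namespace Groth.LambdaCore

variable {K : Type u} [CommRing K]

/-- `Σ_{i ≤ r} Σ_{k ≤ i} a_k T^{i-k}`: the quotient of `p - p(1)` by `T - 1` for `p = Σ a_k T^{r+1-k}`. -/
noncomputable def divQuot (a : ℕ → K) (r : ℕ) : Polynomial K :=
  ∑ i ∈ range (r + 1), ∑ k ∈ range (i + 1), Polynomial.C (a k) * Polynomial.X ^ (i - k)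

theorem X_sub_one_mul_divQuot (a : ℕ → K) (r : ℕ) :
    (Polynomial.X - 1) * divQuot a r =
      (∑ k ∈ range (r + 2), Polynomial.C (a k) * Polynomial.X ^ (r + 1 - k)) -
        Polynomial.C (∑ k ∈ range (r + 2), a k) := by
  have step : ∀ r, (∑ k ∈ range (r + 2), Polynomial.C (a k) * Polynomial.X ^ (r + 1 - k)) =
      Polynomial.X * (∑ k ∈ range (r + 1), Polynomial.C (a k) * Polynomial.X ^ (r - k)) +
        Polynomial.C (a (r + 1)) := by
    intro r
    rw [Finset.sum_range_succ, tsub_self, pow_zero, mul_one, Finset.mul_sum]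
    congr 1
    refine Finset.sum_congr rfl fun k hk => ?_
    simp at hk
    rw [show r + 1 - k = r - k + 1 by omega, pow_succ]; ring
  induction r with
  | zero => simp [divQuot, Finset.sum_range_succ]; ring
  | succ r ih =>
    have hd : divQuot a (r + 1) = divQuot a r +
        ∑ k ∈ range (r + 2), Polynomial.C (a k) * Polynomial.X ^ (r + 1 - k) := by
      rw [divQuot, Finset.sum_range_succ]; rfl
    rw [hd, mul_add, ih, step (r + 1), Finset.sum_range_succ a (r + 2)]
    simp only [map_add]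
    ring

variable [LambdaOps K] {P : PosStructure K} {e : K} {r : ℕ}

theorem extPoly_eq_sum (hr : P.aug e = r + 1) : KRR.extPoly P e =
    ∑ k ∈ range (r + 2), Polynomial.C ((-1 : K) ^ k * LambdaOps.lam k e) * Polynomial.X ^ (r + 1 - k) := by
  rw [KRR.extPoly, show (P.aug e).toNat = r + 1 by omega]

theorem mk_divQuot_eq (inst : LambdaOps (AdjoinRoot (KRR.extPoly P e)))
    (hext : ∀ (i : ℕ) (x : K), @LambdaOps.lam _ _ inst i (AdjoinRoot.of (KRR.extPoly P e) x) =
      AdjoinRoot.of (KRR.extPoly P e) (LambdaOps.lam i x))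
    (hroot : ∀ i : ℕ, 2 ≤ i → @LambdaOps.lam _ _ inst i (AdjoinRoot.root (KRR.extPoly P e)) = 0) :
    AdjoinRoot.mk (KRR.extPoly P e) (divQuot (fun k => (-1 : K) ^ k * LambdaOps.lam k e) r) =
      ∑ i ∈ range (r + 1), (-1 : AdjoinRoot (KRR.extPoly P e)) ^ i *
        @LambdaOps.lam _ _ inst i (AdjoinRoot.of (KRR.extPoly P e) e - AdjoinRoot.root (KRR.extPoly P e)) := by
  simp only [divQuot, map_sum, lam_sub_root inst hext hroot, Finset.mul_sum]
  refine Finset.sum_congr rfl fun i _ => Finset.sum_congr rfl fun k hk => ?_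
  simp at hk
  obtain ⟨c, rfl⟩ := le_iff_exists_add.mp hk
  simp only [map_mul, map_pow, AdjoinRoot.mk_C, AdjoinRoot.mk_X, add_tsub_cancel_left, map_neg,
    map_one, neg_pow (AdjoinRoot.root (KRR.extPoly P e))]
  have h : ((-1 : AdjoinRoot (KRR.extPoly P e)) ^ c) * (-1) ^ c = 1 := by rw [← mul_pow]; simp
  calc _ = (-1 : AdjoinRoot (KRR.extPoly P e)) ^ k * AdjoinRoot.of (KRR.extPoly P e) (LambdaOps.lam k e) *
        AdjoinRoot.root (KRR.extPoly P e) ^ c * ((-1) ^ c * (-1) ^ c) := by rw [h, mul_one]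
    _ = _ := by rw [pow_add]; ring

theorem eq_functional_mul_of_mul_one_sub_root (he : e ∈ P.pos) (hr : P.aug e = r + 1)
    (inst : LambdaOps (AdjoinRoot (KRR.extPoly P e)))
    (hext : ∀ (i : ℕ) (x : K), @LambdaOps.lam _ _ inst i (AdjoinRoot.of (KRR.extPoly P e) x) =
      AdjoinRoot.of (KRR.extPoly P e) (LambdaOps.lam i x))
    (hroot : ∀ i : ℕ, 2 ≤ i → @LambdaOps.lam _ _ inst i (AdjoinRoot.root (KRR.extPoly P e)) = 0)
    (f : AdjoinRoot (KRR.extPoly P e) →ₗ[K] K)
    (hf : ∀ i : ℕ, i ≤ r → f (AdjoinRoot.root (KRR.extPoly P e) ^ i) = KRR.sigma i e)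
    (z : AdjoinRoot (KRR.extPoly P e)) (hz : z * (1 - AdjoinRoot.root (KRR.extPoly P e)) = 0) :
    z = AdjoinRoot.of (KRR.extPoly P e) (f z) * ∑ i ∈ range (r + 1), (-1 : AdjoinRoot (KRR.extPoly P e)) ^ i *
        @LambdaOps.lam _ _ inst i (AdjoinRoot.of (KRR.extPoly P e) e - AdjoinRoot.root (KRR.extPoly P e)) := by
  rw [← mk_divQuot_eq inst hext hroot]
  set Q := divQuot (fun k => (-1 : K) ^ k * LambdaOps.lam k e) r with hQdef
  have hQ : (Polynomial.X - 1) * Q = (KRR.extPoly P e) - Polynomial.C ((KRR.extPoly P e).eval 1) := by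
    rw [hQdef, X_sub_one_mul_divQuot, extPoly_eq_sum hr]
    simp [Polynomial.eval_finsetSum]
  obtain ⟨h, rfl⟩ := AdjoinRoot.mk_surjective z
  have hdvd : (KRR.extPoly P e) ∣ h * (1 - Polynomial.X) := by
    rw [← AdjoinRoot.mk_eq_zero]; simpa using hz
  obtain ⟨c, hc⟩ := hdvd
  have hc1 : (KRR.extPoly P e).eval 1 * c.eval 1 = 0 := by
    have := congrArg (Polynomial.eval 1) hc
    simpa using this.symm
  obtain ⟨d, hd⟩ := Polynomial.X_sub_C_dvd_sub_C_eval (a := (1 : K)) (p := c)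
  have hreg : IsRegular (Polynomial.X - 1 : Polynomial K) := by
    simpa using (Polynomial.monic_X_sub_C (1 : K)).isRegular
  have heq : h = -(Q * Polynomial.C (c.eval 1) + (KRR.extPoly P e) * d) := by
    apply hreg.left
    have e1 : Polynomial.C ((KRR.extPoly P e).eval 1) * Polynomial.C (c.eval 1) = 0 := by rw [← map_mul, hc1, map_zero]
    simp only [map_one] at hd
    linear_combination -hc + Polynomial.C (c.eval 1) * hQ - (KRR.extPoly P e) * hd - e1
  have hmk : AdjoinRoot.mk (KRR.extPoly P e) h = AdjoinRoot.of (KRR.extPoly P e) (-(c.eval 1)) * AdjoinRoot.mk (KRR.extPoly P e) Q := by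
    rw [heq]; simp [AdjoinRoot.mk_self]; ring
  have hfQ : f (AdjoinRoot.mk (KRR.extPoly P e) Q) = 1 := by
    rw [hQdef, mk_divQuot_eq inst hext hroot, map_sum]
    rw [Finset.sum_eq_single 0]
    · rw [pow_zero, one_mul, functional_lam_sub_root he hr inst hext hroot f hf]; simp
    · intro i _ hi
      rw [show ((-1 : AdjoinRoot (KRR.extPoly P e))) ^ i =
          algebraMap K (AdjoinRoot (KRR.extPoly P e)) ((-1 : K) ^ i) by simp,
        ← Algebra.smul_def, map_smul,
        functional_lam_sub_root he hr inst hext hroot f hf, if_neg hi, smul_zero]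
    · simp
  have hfz : f (AdjoinRoot.mk (KRR.extPoly P e) h) = -(c.eval 1) := by
    rw [hmk, ← AdjoinRoot.algebraMap_eq, ← Algebra.smul_def, map_smul, hfQ, smul_eq_mul, mul_one]
  rw [hfz]; exact hmk

end Groth.LambdaCore
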