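import Groth.Prelude.Def_LambdaRing
import Mathlib.Algebra.Polynomial.Basic
import Mathlib.Algebra.Polynomial.Coeff
import Mathlib.RingTheory.PowerSeries.Trunc
import Mathlib.RingTheory.PowerSeries.Substitution
import Mathlib.Tactic

/-!
# The series `λ_t` of a λ-ring, line elements, extensions
-/

set_option autoImplicit false
universe u v

open PowerSeries Finset LambdaRing

namespace Groth.LambdaCore

theorem coeff_mul_range {R : Type u} [CommRing R] (f g : PowerSeries R) (k : ℕ) :
    coeff k (f * g) = ∑ i ∈ range (k + 1), coeff i f * coeff (k - i) g := by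
  rw [PowerSeries.coeff_mul, Finset.Nat.sum_antidiagonal_eq_sum_range_succ_mk]

section Ops

variable {K : Type u} [CommRing K] [LambdaOps K]

@[simp] theorem coeff_lamSeries (x : K) (i : ℕ) : coeff i (lamSeries x) = LambdaOps.lam i x :=
  PowerSeries.coeff_mk _ _

@[simp] theorem constantCoeff_lamSeries (x : K) : constantCoeff (lamSeries x) = 1 := by
  rw [← coeff_zero_eq_constantCoeff_apply, coeff_lamSeries, LambdaOps.lam_zero]

theorem isUnit_lamSeries (x : K) : IsUnit (lamSeries x) := by
  rw [PowerSeries.isUnit_iff_constantCoeff]; simp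

theorem lamSeries_add (x y : K) : lamSeries (x + y) = lamSeries x * lamSeries y := by
  ext k
  rw [coeff_mul_range, coeff_lamSeries, LambdaOps.lam_add]
  simp

@[simp] theorem lamSeries_zero : lamSeries (0 : K) = 1 := by
  have h := lamSeries_add (0 : K) 0
  rw [add_zero] at h
  exact ((isUnit_lamSeries (0 : K)).mul_left_cancel (by rw [mul_one]; exact h)).symm

theorem lamSeries_neg_mul (x : K) : lamSeries (-x) * lamSeries x = 1 := by
  rw [← lamSeries_add, neg_add_cancel, lamSeries_zero]

theorem lamSeries_sub_mul (x y : K) : lamSeries (x - y) * lamSeries y = lamSeries x := by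
  rw [← lamSeries_add, sub_add_cancel]

theorem lamSeries_multiset_sum (s : Multiset K) : lamSeries s.sum = (s.map lamSeries).prod := by
  induction s using Multiset.induction_on with
  | empty => simp
  | cons a s ih => simp [lamSeries_add, ih]

theorem lamSeries_sum {ι : Type v} (s : Finset ι) (f : ι → K) :
    lamSeries (∑ i ∈ s, f i) = ∏ i ∈ s, lamSeries (f i) := by
  rw [Finset.sum_eq_multiset_sum, lamSeries_multiset_sum, Multiset.map_map]; rfl

theorem lamSeries_nsmul (n : ℕ) (x : K) : lamSeries (n • x) = lamSeries x ^ n := by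
  induction n with
  | zero => simp
  | succ n ih => rw [succ_nsmul, lamSeries_add, ih, pow_succ]

theorem lam_zero_of_pos {i : ℕ} (hi : 1 ≤ i) : LambdaOps.lam i (0 : K) = 0 := by
  rw [← coeff_lamSeries, lamSeries_zero, PowerSeries.coeff_one, if_neg (by omega)]

theorem map_lamSeries {K' : Type u} [CommRing K'] [LambdaOps K'] {f : K →+* K'}
    (hf : IsLambdaHom f) (x : K) : PowerSeries.map f (lamSeries x) = lamSeries (f x) := by
  ext i; simp [hf i x]

theorem IsLambdaHom.id : IsLambdaHom (RingHom.id K) := fun _ _ => rfl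

theorem IsLambdaHom.comp {K' K'' : Type u} [CommRing K'] [LambdaOps K'] [CommRing K'']
    [LambdaOps K''] {f : K →+* K'} {g : K' →+* K''} (hf : IsLambdaHom f) (hg : IsLambdaHom g) :
    IsLambdaHom (g.comp f) := fun i x => by simp [hf i x, hg i]

/-- `λ_{-t}`. -/
noncomputable def negSeries (x : K) : PowerSeries K := PowerSeries.rescale (-1 : K) (lamSeries x)

@[simp] theorem coeff_negSeries (x : K) (i : ℕ) :
    coeff i (negSeries x) = (-1) ^ i * LambdaOps.lam i x := by simp [negSeries]

@[simp] theorem constantCoeff_negSeries (x : K) : constantCoeff (negSeries x) = 1 := by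
  rw [← coeff_zero_eq_constantCoeff_apply, coeff_negSeries, LambdaOps.lam_zero]; simp

theorem negSeries_add (x y : K) : negSeries (x + y) = negSeries x * negSeries y := by
  simp [negSeries, lamSeries_add]

theorem map_negSeries {K' : Type u} [CommRing K'] [LambdaOps K'] {f : K →+* K'}
    (hf : IsLambdaHom f) (x : K) : PowerSeries.map f (negSeries x) = negSeries (f x) := by
  ext i; simp [hf i x]

theorem negSeries_mul_invOfUnit (x : K) : negSeries x * (negSeries x).invOfUnit 1 = 1 :=
  PowerSeries.mul_invOfUnit _ _ (by simp)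

end Ops

section Pos

variable {K : Type u} [CommRing K] [LambdaOps K] {P : PosStructure K}

theorem one_mem_pos : (1 : K) ∈ P.pos := by simpa using P.natCast_mem 1 one_pos

theorem isLine_one : P.IsLine 1 := ⟨one_mem_pos, map_one _⟩

theorem IsLine.lam_eq_zero {w : K} (hw : P.IsLine w) {i : ℕ} (hi : 2 ≤ i) :
    LambdaOps.lam i w = 0 := P.lam_eq_zero w hw.1 i (by rw [hw.2]; omega)

theorem IsLine.isUnit {w : K} (hw : P.IsLine w) : IsUnit w := by
  simpa [hw.2, LambdaOps.lam_one] using P.isUnit_lam w hw.1

theorem IsLine.mul {w z : K} (hw : P.IsLine w) (hz : P.IsLine z) : P.IsLine (w * z) :=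
  ⟨P.mul_mem _ _ hw.1 hz.1, by rw [map_mul, hw.2, hz.2, mul_one]⟩

theorem IsLine.pow {w : K} (hw : P.IsLine w) : ∀ n : ℕ, P.IsLine (w ^ n)
  | 0 => by rw [pow_zero]; exact isLine_one
  | n + 1 => by rw [pow_succ]; exact IsLine.mul (IsLine.pow hw n) hw

theorem lamSeries_of_lam_eq_zero {x : K} (h : ∀ i : ℕ, 2 ≤ i → LambdaOps.lam i x = 0) :
    lamSeries x = 1 + PowerSeries.C x * PowerSeries.X := by
  ext i
  match i with
  | 0 => simp [LambdaOps.lam_zero]
  | 1 => simp [LambdaOps.lam_one, PowerSeries.coeff_one]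
  | i + 2 => simp [h (i + 2) (by omega), PowerSeries.coeff_one]

theorem IsLine.lamSeries_eq {w : K} (hw : P.IsLine w) :
    lamSeries w = 1 + PowerSeries.C w * PowerSeries.X :=
  lamSeries_of_lam_eq_zero fun _ hi => IsLine.lam_eq_zero hw hi

theorem lamSeries_one (P : PosStructure K) : lamSeries (1 : K) = 1 + PowerSeries.X := by
  simpa using IsLine.lamSeries_eq (isLine_one (P := P))

theorem lamSeries_natCast (P : PosStructure K) (n : ℕ) :
    lamSeries (n : K) = (1 + PowerSeries.X) ^ n := by
  rw [← lamSeries_one P, ← lamSeries_nsmul, nsmul_one]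

theorem aug_toNat {e : K} (he : e ∈ P.pos) : ((P.aug e).toNat : ℤ) = P.aug e :=
  Int.toNat_of_nonneg (P.aug_pos e he).le

theorem lam_eq_zero_of_toNat_lt {e : K} (he : e ∈ P.pos) {i : ℕ} (hi : (P.aug e).toNat < i) :
    LambdaOps.lam i e = 0 := P.lam_eq_zero e he i (by have := aug_toNat he; omega)

/-- `λ_t(e)` of a positive element as a polynomial. -/
noncomputable def lamPoly (P : PosStructure K) (e : K) : Polynomial K :=
  PowerSeries.trunc ((P.aug e).toNat + 1) (lamSeries e)

theorem coe_lamPoly {e : K} (he : e ∈ P.pos) : (lamPoly P e : PowerSeries K) = lamSeries e := by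
  ext i
  rw [Polynomial.coeff_coe, lamPoly, PowerSeries.coeff_trunc]
  split_ifs with h
  · rfl
  · rw [coeff_lamSeries, lam_eq_zero_of_toNat_lt he (by omega)]

variable {K' : Type u} [CommRing K'] [LambdaOps K'] {P' : PosStructure K'}

theorem IsExtension.refl : IsExtension P P (RingHom.id K) :=
  ⟨IsLambdaHom.id, Function.injective_id, fun _ => rfl, fun _ h => h⟩

theorem IsExtension.trans {K'' : Type u} [CommRing K''] [LambdaOps K''] {P'' : PosStructure K''}
    {f : K →+* K'} {g : K' →+* K''} (hf : IsExtension P P' f) (hg : IsExtension P' P'' g) :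
    IsExtension P P'' (g.comp f) :=
  ⟨IsLambdaHom.comp hf.isLambdaHom hg.isLambdaHom, hg.injective.comp hf.injective,
    fun x => by simp [hg.aug_comp, hf.aug_comp], fun e he => hg.pos_subset _ (hf.pos_subset e he)⟩

theorem IsExtension.isLine {f : K →+* K'} (hf : IsExtension P P' f) {w : K} (hw : P.IsLine w) :
    P'.IsLine (f w) := ⟨hf.pos_subset _ hw.1, by rw [hf.aug_comp, hw.2]⟩

end Pos

end Groth.LambdaCore
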