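import Groth.Agent.LambdaCore.Split
import Groth.Prelude.Def_KRR
import Mathlib.RingTheory.AdjoinRoot
import Mathlib.RingTheory.PowerSeries.WellKnown

/-!
# The series `σ_t` and the functional of an elementary extension
-/

set_option autoImplicit false
universe u

open Finset LambdaRing

namespace Groth.LambdaCore

variable {K : Type u} [CommRing K] [LambdaOps K] {P : PosStructure K}

theorem negSeries_mul_sigmaSeries (x : K) : negSeries x * KRR.sigmaSeries x = 1 :=
  negSeries_mul_invOfUnit x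

theorem sigma_rec (x : K) (k : ℕ) :
    ∑ i ∈ range (k + 1), (-1 : K) ^ i * LambdaOps.lam i x * KRR.sigma (k - i) x =
      if k = 0 then 1 else 0 := by
  have h := congrArg (PowerSeries.coeff k) (negSeries_mul_sigmaSeries x)
  rw [coeff_mul_range, PowerSeries.coeff_one] at h
  simpa [KRR.sigma] using h

theorem aug_sigma (hK : HasSplitting K P) {e : K} (he : e ∈ P.pos) {r : ℕ} (hr : P.aug e = r + 1)
    (j : ℕ) : P.aug (KRR.sigma j e) = ((r + j).choose j : ℤ) := by
  have h := congrArg (PowerSeries.map P.aug) (negSeries_mul_sigmaSeries e)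
  rw [map_mul, map_one, map_aug_negSeries hK he, show (P.aug e).toNat = r + 1 by omega] at h
  have hs : PowerSeries.map P.aug (KRR.sigmaSeries e) = (PowerSeries.invOneSubPow ℤ (r + 1)).val := by
    rw [← PowerSeries.invOneSubPow_inv_eq_one_sub_pow] at h
    have h' := congrArg ((PowerSeries.invOneSubPow ℤ (r + 1)).val * ·) h
    simpa [← mul_assoc] using h'
  have h2 := congrArg (PowerSeries.coeff j) hs
  rw [PowerSeries.coeff_map, PowerSeries.invOneSubPow_val_succ_eq_mk_add_choose,
    PowerSeries.coeff_mk] at h2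
  rw [KRR.sigma, h2, Nat.choose_symm_add]

theorem aeval_extPoly {A : Type u} [CommRing A] [Algebra K A] (x : A) (P : PosStructure K) (e : K) :
    Polynomial.aeval x (KRR.extPoly P e) = ∑ i ∈ range ((P.aug e).toNat + 1),
      algebraMap K A ((-1 : K) ^ i * LambdaOps.lam i e) * x ^ ((P.aug e).toNat - i) := by
  simp [KRR.extPoly]

theorem root_extPoly_rel (P : PosStructure K) (e : K) :
    ∑ i ∈ range ((P.aug e).toNat + 1), AdjoinRoot.of (KRR.extPoly P e) ((-1 : K) ^ i * LambdaOps.lam i e) *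
      AdjoinRoot.root (KRR.extPoly P e) ^ ((P.aug e).toNat - i) = 0 := by
  have h := AdjoinRoot.aeval_eq (f := KRR.extPoly P e) (KRR.extPoly P e)
  rw [AdjoinRoot.mk_self, aeval_extPoly] at h
  exact h

theorem sigma_zero (x : K) : KRR.sigma 0 x = 1 := by
  simpa [LambdaOps.lam_zero] using sigma_rec x 0

variable {e : K} {r : ℕ}

theorem functional_root_pow (he : e ∈ P.pos) (hr : P.aug e = r + 1)
    (f : AdjoinRoot (KRR.extPoly P e) →ₗ[K] K)
    (hf : ∀ i : ℕ, i ≤ r → f (AdjoinRoot.root (KRR.extPoly P e) ^ i) = KRR.sigma i e) (i : ℕ) :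
    f (AdjoinRoot.root (KRR.extPoly P e) ^ i) = KRR.sigma i e := by
  have hm : (P.aug e).toNat = r + 1 := by omega
  induction i using Nat.strong_induction_on with
  | _ i ih =>
    rcases le_or_gt i r with h | h
    · exact hf i h
    obtain ⟨k, rfl⟩ : ∃ k, i = r + 1 + k := ⟨i - (r + 1), by omega⟩
    have h1 := congrArg (fun z => f (z * AdjoinRoot.root (KRR.extPoly P e) ^ k)) (root_extPoly_rel P e)
    simp only [Finset.sum_mul, zero_mul, map_zero, map_sum, mul_assoc, ← pow_add, hm] at h1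
    simp only [← AdjoinRoot.algebraMap_eq, ← Algebra.smul_def, map_smul, smul_eq_mul] at h1
    have h2 := sigma_rec e (r + 1 + k)
    rw [if_neg (by omega), ← Finset.sum_subset (s₁ := range (r + 1 + 1))
      (fun x hx => by simp at hx ⊢; omega)
      (fun x _ hx => by
        have : LambdaOps.lam x e = 0 :=
          lam_eq_zero_of_toNat_lt (P := P) he (by simp at hx; omega)
        simp [this])] at h2
    rw [Finset.sum_range_succ'] at h1 h2
    simp only [pow_zero, LambdaOps.lam_zero, one_mul, tsub_zero] at h1 h2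
    have heq : ∀ x ∈ range (r + 1), (-1 : K) ^ (x + 1) * LambdaOps.lam (x + 1) e *
        f (AdjoinRoot.root (KRR.extPoly P e) ^ (r + 1 - (x + 1) + k)) =
        (-1 : K) ^ (x + 1) * LambdaOps.lam (x + 1) e * KRR.sigma (r + 1 + k - (x + 1)) e := by
      intro x hx
      simp only [mem_range] at hx
      rw [ih _ (by omega), show r + 1 - (x + 1) + k = r + 1 + k - (x + 1) by omega]
    rw [Finset.sum_congr rfl heq] at h1
    exact (add_left_cancel (h1.trans h2.symm))

theorem functional_linv_pow (he : e ∈ P.pos) (hr : P.aug e = r + 1)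
    (f : AdjoinRoot (KRR.extPoly P e) →ₗ[K] K)
    (hf : ∀ i : ℕ, i ≤ r → f (AdjoinRoot.root (KRR.extPoly P e) ^ i) = KRR.sigma i e)
    (linv : AdjoinRoot (KRR.extPoly P e)) (hlinv : linv * AdjoinRoot.root (KRR.extPoly P e) = 1)
    (n : ℕ) (hn1 : 1 ≤ n) (hn : n ≤ r) : f (linv ^ n) = 0 := by
  have hm : (P.aug e).toNat = r + 1 := by omega
  induction n using Nat.strong_induction_on with
  | _ n ih =>
    set ℓ := AdjoinRoot.root (KRR.extPoly P e) with hℓ
    have h1 := congrArg (fun z => f (z * linv ^ n)) (root_extPoly_rel P e)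
    simp only [Finset.sum_mul, zero_mul, map_zero, map_sum, mul_assoc, hm] at h1
    simp only [← AdjoinRoot.algebraMap_eq, ← Algebra.smul_def, map_smul, smul_eq_mul, ← hℓ] at h1
    have hpow : ∀ a b : ℕ, ℓ ^ a * linv ^ b = if b ≤ a then ℓ ^ (a - b) else linv ^ (b - a) := by
      intro a b
      split_ifs with hab
      · obtain ⟨c, rfl⟩ := le_iff_exists_add.mp hab
        rw [add_tsub_cancel_left, pow_add, mul_right_comm, ← mul_pow, mul_comm ℓ linv, hlinv]; simp
      · obtain ⟨c, rfl⟩ := le_iff_exists_add.mp (le_of_not_ge hab)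
        rw [add_tsub_cancel_left, pow_add, ← mul_assoc, ← mul_pow, mul_comm ℓ linv, hlinv]; simp
    rw [Finset.sum_range_succ, tsub_self, pow_zero, one_mul] at h1
    have h3 : ∑ x ∈ range (r + 1), (-1 : K) ^ x * LambdaOps.lam x e * f (ℓ ^ (r + 1 - x) * linv ^ n) =
        ∑ x ∈ range (r + 1 - n + 1), (-1 : K) ^ x * LambdaOps.lam x e * KRR.sigma (r + 1 - n - x) e := by
      rw [← Finset.sum_subset (s₁ := range (r + 1 - n + 1)) (s₂ := range (r + 1))
        (fun x hx => by simp at hx ⊢; omega)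
        (fun x hx hx' => by
          simp at hx hx'
          rw [hpow, if_neg (by omega), ih _ (by omega) (by omega) (by omega), mul_zero])]
      refine Finset.sum_congr rfl fun x hx => ?_
      simp at hx
      rw [hpow, if_pos (by omega), functional_root_pow he hr f hf,
        show r + 1 - x - n = r + 1 - n - x by omega]
    rw [h3, sigma_rec, if_neg (by omega), zero_add] at h1
    have hu : IsUnit ((-1 : K) ^ (r + 1) * LambdaOps.lam (r + 1) e) :=
      (isUnit_one.neg.pow _).mul (by simpa [hm] using P.isUnit_lam e he)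
    exact hu.mul_right_eq_zero.mp h1

theorem lam_sub_root (inst : LambdaOps (AdjoinRoot (KRR.extPoly P e)))
    (hext : ∀ (i : ℕ) (x : K), @LambdaOps.lam _ _ inst i (AdjoinRoot.of (KRR.extPoly P e) x) =
      AdjoinRoot.of (KRR.extPoly P e) (LambdaOps.lam i x))
    (hroot : ∀ i : ℕ, 2 ≤ i → @LambdaOps.lam _ _ inst i (AdjoinRoot.root (KRR.extPoly P e)) = 0)
    (i : ℕ) :
    @LambdaOps.lam _ _ inst i (AdjoinRoot.of (KRR.extPoly P e) e - AdjoinRoot.root (KRR.extPoly P e)) =
      ∑ k ∈ range (i + 1), AdjoinRoot.of (KRR.extPoly P e) (LambdaOps.lam k e) *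
        (-AdjoinRoot.root (KRR.extPoly P e)) ^ (i - k) := by
  letI := inst
  set ℓ := AdjoinRoot.root (KRR.extPoly P e) with hℓ
  set g : PowerSeries (AdjoinRoot (KRR.extPoly P e)) := PowerSeries.mk fun k => (-ℓ) ^ k
  have hg : (1 + PowerSeries.C ℓ * PowerSeries.X) * g = 1 := by
    ext k
    cases k with
    | zero => simp [g, mul_assoc, add_mul]
    | succ k => simp [g, add_mul, mul_assoc, PowerSeries.coeff_one, pow_succ]; ring
  have h : lamSeries (AdjoinRoot.of (KRR.extPoly P e) e - ℓ) =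
      PowerSeries.map (AdjoinRoot.of (KRR.extPoly P e)) (lamSeries e) * g := by
    have h1 := lamSeries_sub_mul (AdjoinRoot.of (KRR.extPoly P e) e) ℓ
    rw [lamSeries_of_lam_eq_zero hroot, ← map_lamSeries (f := AdjoinRoot.of (KRR.extPoly P e)) (fun i x => (hext i x).symm)] at h1
    rw [← h1, mul_assoc, hg, mul_one]
  have h2 := congrArg (PowerSeries.coeff i) h
  rw [coeff_lamSeries, coeff_mul_range] at h2
  simpa [g] using h2

theorem functional_lam_sub_root (he : e ∈ P.pos) (hr : P.aug e = r + 1)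
    (inst : LambdaOps (AdjoinRoot (KRR.extPoly P e)))
    (hext : ∀ (i : ℕ) (x : K), @LambdaOps.lam _ _ inst i (AdjoinRoot.of (KRR.extPoly P e) x) =
      AdjoinRoot.of (KRR.extPoly P e) (LambdaOps.lam i x))
    (hroot : ∀ i : ℕ, 2 ≤ i → @LambdaOps.lam _ _ inst i (AdjoinRoot.root (KRR.extPoly P e)) = 0)
    (f : AdjoinRoot (KRR.extPoly P e) →ₗ[K] K)
    (hf : ∀ i : ℕ, i ≤ r → f (AdjoinRoot.root (KRR.extPoly P e) ^ i) = KRR.sigma i e) (i : ℕ) :
    f (@LambdaOps.lam _ _ inst i (AdjoinRoot.of (KRR.extPoly P e) e - AdjoinRoot.root (KRR.extPoly P e))) =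
      if i = 0 then 1 else 0 := by
  rw [lam_sub_root inst hext hroot, map_sum]
  have h : ∀ k ∈ range (i + 1), f (AdjoinRoot.of (KRR.extPoly P e) (LambdaOps.lam k e) *
      (-AdjoinRoot.root (KRR.extPoly P e)) ^ (i - k)) =
      (-1 : K) ^ i * ((-1 : K) ^ k * LambdaOps.lam k e * KRR.sigma (i - k) e) := by
    intro k hk
    simp at hk
    rw [neg_pow (AdjoinRoot.root (KRR.extPoly P e)), show ((-1 : AdjoinRoot (KRR.extPoly P e))) ^ (i - k) =
        AdjoinRoot.of (KRR.extPoly P e) ((-1 : K) ^ (i - k)) by simp, ← mul_assoc, ← map_mul,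
      ← AdjoinRoot.algebraMap_eq, ← Algebra.smul_def, map_smul, smul_eq_mul,
      functional_root_pow he hr f hf]
    have : (-1 : K) ^ i * (-1) ^ k = (-1) ^ (i - k) := by
      obtain ⟨c, rfl⟩ := le_iff_exists_add.mp hk
      rw [add_tsub_cancel_left, pow_add, mul_right_comm, ← mul_pow]; simp
    rw [← this]; ring
  rw [Finset.sum_congr rfl h, ← Finset.mul_sum, sigma_rec]
  split_ifs with h0 <;> simp [h0]

end Groth.LambdaCore
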