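import Groth.Agent.LambdaCore.Series
import Mathlib.RingTheory.Polynomial.Vieta
import Mathlib.RingTheory.MvPolynomial.Symmetric.FundamentalTheorem

/-!
# The splitting property
-/

set_option autoImplicit false
universe u v

open Finset LambdaRing

namespace Groth.LambdaCore

theorem coeff_prod_one_add_C_mul_X {R : Type u} [CommRing R] {ι : Type v} (s : Finset ι)
    (u : ι → R) (k : ℕ) :
    Polynomial.coeff (∏ i ∈ s, (1 + Polynomial.C (u i) * Polynomial.X)) k =
      (s.val.map u).esymm k := by
  classical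
  induction s using Finset.induction_on generalizing k with
  | empty =>
    cases k <;> simp [Multiset.esymm, Polynomial.coeff_one, Multiset.powersetCard_zero_right]
  | insert a s ha ih =>
    rw [Finset.prod_insert ha, Finset.insert_val_of_notMem ha, Multiset.map_cons]
    cases k with
    | zero => simp [Multiset.esymm, ih, add_mul, mul_assoc]
    | succ k =>
      simp [Multiset.esymm, Multiset.powersetCard_cons, Multiset.map_map, add_mul, mul_assoc,
        Polynomial.coeff_X_mul, ih, Multiset.sum_map_mul_left]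

theorem coeff_prod_one_add_C_mul_X_series {R : Type u} [CommRing R] {ι : Type v} (s : Finset ι)
    (u : ι → R) (k : ℕ) :
    PowerSeries.coeff k (∏ i ∈ s, (1 + PowerSeries.C (u i) * PowerSeries.X)) =
      (s.val.map u).esymm k := by
  rw [← coeff_prod_one_add_C_mul_X s u k, ← Polynomial.coeff_coe]
  congr 1
  rw [← Polynomial.coeToPowerSeries.ringHom_apply, map_prod]
  simp

theorem rescale_C {R : Type u} [CommRing R] (a r : R) :
    PowerSeries.rescale a (PowerSeries.C r) = PowerSeries.C r := by
  ext n; cases n <;> simp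

theorem aeval_esymm_eq {R A : Type u} [CommRing R] [CommRing A] [Algebra R A] {ι : Type v}
    [Fintype ι] (u : ι → A) (k : ℕ) :
    MvPolynomial.aeval u (MvPolynomial.esymm ι R k) = (Finset.univ.val.map u).esymm k :=
  MvPolynomial.aeval_esymm_eq_multiset_esymm ι R k u

variable {K : Type u} [CommRing K] [LambdaOps K] {P : PosStructure K}

/-- A splitting of a positive element in an extension which again has the splitting property. -/
theorem exists_split (hK : HasSplitting K P) {e : K} (he : e ∈ P.pos) :
    ∃ (L : PosLambdaRing.{u}) (f : K →+* L.carrier), IsExtension P L.posStr f ∧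
      HasSplitting L.carrier L.posStr ∧
      ∃ u : Fin (P.aug e).toNat → L.carrier, (∀ i, L.posStr.IsLine (u i)) ∧ f e = ∑ i, u i := by
  obtain ⟨C, hC, hsplit⟩ := hK
  obtain ⟨L, hL, f, hf, s, hs, hsum⟩ := hsplit _ hC e he
  refine ⟨L, f, hf, ⟨C, hL, hsplit⟩, ?_⟩
  have hcard : (s.toList.length : ℤ) = P.aug e := by
    rw [← hf.aug_comp, ← hsum, map_multiset_sum, Multiset.map_congr rfl (fun x hx => (hs x hx).2)]
    simp
  have hlen : (P.aug e).toNat = s.toList.length := by omega
  refine ⟨fun i => s.toList.get (Fin.cast hlen i), fun i => hs _ ?_, ?_⟩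
  · exact Multiset.mem_toList.mp (List.get_mem _ _)
  · rw [← hsum, ← Multiset.sum_toList, ← Fin.sum_univ_getElem, Fintype.sum_equiv (finCongr hlen)]
    intro i; rfl

/-- Two positive elements split simultaneously. -/
theorem exists_split₂ (hK : HasSplitting K P) {e e' : K} (he : e ∈ P.pos) (he' : e' ∈ P.pos) :
    ∃ (L : PosLambdaRing.{u}) (f : K →+* L.carrier), IsExtension P L.posStr f ∧
      HasSplitting L.carrier L.posStr ∧
      (∃ u : Fin (P.aug e).toNat → L.carrier, (∀ i, L.posStr.IsLine (u i)) ∧ f e = ∑ i, u i) ∧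
      ∃ u : Fin (P.aug e').toNat → L.carrier, (∀ i, L.posStr.IsLine (u i)) ∧ f e' = ∑ i, u i := by
  obtain ⟨L, f, hf, hL, v, hv, hev⟩ := exists_split hK he
  obtain ⟨M, g, hg, hM, w, hw, hew⟩ := exists_split hL (hf.pos_subset _ he')
  refine ⟨M, g.comp f, IsExtension.trans hf hg, hM,
    ⟨fun i => g (v i), fun i => IsExtension.isLine hg (hv i), by simp [hev]⟩, ?_⟩
  have hlen : (P.aug e').toNat = (L.posStr.aug (f e')).toNat := by rw [hf.aug_comp]
  refine ⟨fun i => w (Fin.cast hlen i), fun i => hw _, ?_⟩
  rw [RingHom.comp_apply, hew]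
  exact (Fintype.sum_equiv (finCongr hlen) _ _ fun i => rfl).symm

theorem lamSeries_sum_lines {ι : Type v} [Fintype ι] {u : ι → K} (hu : ∀ i, P.IsLine (u i)) :
    lamSeries (∑ i, u i) = ∏ i, (1 + PowerSeries.C (u i) * PowerSeries.X) := by
  rw [lamSeries_sum]
  exact Finset.prod_congr rfl fun i _ => IsLine.lamSeries_eq (hu i)

theorem lam_sum_lines {ι : Type v} [Fintype ι] {u : ι → K} (hu : ∀ i, P.IsLine (u i)) (k : ℕ) :
    LambdaOps.lam k (∑ i, u i) = (Finset.univ.val.map u).esymm k := by
  rw [← coeff_lamSeries, lamSeries_sum_lines hu, coeff_prod_one_add_C_mul_X_series]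

theorem aug_sum_lines {ι : Type v} [Fintype ι] {u : ι → K} (hu : ∀ i, P.IsLine (u i)) :
    P.aug (∑ i, u i) = (Fintype.card ι : ℤ) := by
  simp [map_sum, (hu _).2]

/-- `λ_{-t}` of a positive element has augmentation `(1 - t)^{ε e}`. -/
theorem map_aug_negSeries (hK : HasSplitting K P) {e : K} (he : e ∈ P.pos) :
    PowerSeries.map P.aug (negSeries e) = (1 - PowerSeries.X) ^ (P.aug e).toNat := by
  obtain ⟨L, f, hf, -, u, hu, hfe⟩ := exists_split hK he
  have haug : L.posStr.aug.comp f = P.aug := RingHom.ext hf.aug_comp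
  rw [← haug, PowerSeries.map_comp, RingHom.comp_apply, map_negSeries hf.isLambdaHom, hfe, negSeries,
    lamSeries_sum_lines hu, map_prod, map_prod]
  rw [haug, ← Fin.prod_const]
  refine Finset.prod_congr rfl fun i _ => ?_
  simp [PowerSeries.rescale_X, rescale_C, (hu i).2]
  ring

end Groth.LambdaCore
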